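import Cfsg.Agent.H115.OfRGD
import Cfsg.Agent.H554.RGNo
import Cfsg.Agent.H497.Gow.Unip
import Cfsg.Agent.Nodes.LeviDec
import Cfsg.Agent.KFacts.RgdDiag
import Cfsg.Agent.FastGrp
import Cfsg.Agent.Prune
set_option linter.all false

section
prune_inst 0x7f00000000000000000000000000000000000000000000000000000000000000000000000000000000000000000000000000000000000000000000000000000000000000000000000000000000000000003fffffffffffffffffffffffffffbeffbdffffffff

-- part: H497/CD/Cnt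
section
set_option linter.all false
open scoped Cfsg.Agent.FastGrp

/-!
# Indices of parabolic subgroups (helper497, task 1838 for S4898)

* `index_B_mul_le` : the conjugates of the set of regular unipotent elements are disjoint;
* `prod_le_relIndex`, `prod_le_relIndex_edge` : chains of parabolic subgroups;
* `rank_two_index` : rank two.
-/

set_option autoImplicit false
set_option linter.unusedSectionVars false

namespace Cfsg.Agent.H497.CD

open CoxeterSystem Cfsg.Agent.ChevalleyStructure.CoxeterGeom Cfsg.Agent.Tits.Roots Cfsg.Agent.Tits.Core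
  Cfsg.Agent.Tits.Exchange Cfsg.Agent.Nodes.Reps Cfsg.Agent.Nodes.BNOf Cfsg.Agent.Nodes.StabComb
  Cfsg.Agent.Nodes.Bruhat Cfsg.Agent.Nodes.OppDec Cfsg.Agent.Nodes.LeviDec Cfsg.Agent.H497.Gow
open Cfsg.Agent.H554.RG (n_mem_PJ_iff PJ_mono PJ_univ relIndex_B_PJ_singleton)

variable {I W Y : Type*} [Fintype I] [DecidableEq I] [Group W] [Group Y] {M : CoxeterMatrix I}
  {cs : CoxeterSystem M W} {A : I → I → ℤ} {h : IsCartan M A} {p : ℕ} {T : Subgroup Y} {n : I → Y}
  {X : (I → ℤ) → Subgroup Y}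

/-! ### parabolic subgroups -/

theorem PJ_empty [Finite W] (R : RGD cs h p T n X) : PJ cs h T X ∅ = RGD.B cs h T X := by
  apply le_antisymm
  · intro g hg
    obtain ⟨w, hw, hc⟩ := (mem_PJ_iff_cell R).1 hg
    have h1 : w = 1 := by
      unfold WJ at hw
      rw [Set.image_empty, Subgroup.closure_empty, Subgroup.mem_bot] at hw
      exact hw
    subst h1
    exact hc.mem_of_one
  · exact B_le_PJ

/-- an element `n_j⁻¹ u n_j`, `u ∈ X_j`, of `P_J`, `j ∉ J`, is trivial -/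
theorem eq_one_of_conj_mem_PJ [Finite W] (R : RGD cs h p T n X) {J : Set I} {j : I} (hj : j ∉ J) {u : Y}
    (hu : u ∈ X (sr j)) (hP : (n j)⁻¹ * u * n j ∈ PJ cs h T X J) : u = 1 := by
  have h1 : (n j)⁻¹ * u * n j ∈ X (-sr j) := by
    have := R.conj_mem' (rp_simple cs R.nsys j) (isRoot_sr cs h j) hu
    rwa [inv_simple, rep_simple_sr] at this
  have h2 : (n j)⁻¹ * u * n j ∈ VNJ cs h X J := by
    refine RGD.le_Sup (S := NotNJ cs h J) (z := -sr j) ?_ h1
    change -(-sr j) ∈ NotJ cs h J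
    rw [neg_neg]
    exact sr_mem_NotJ hj
  have h3 := eq_one_of_mem_VNJ_of_mem_PJ R h2 hP
  have h4 : u = n j * ((n j)⁻¹ * u * n j) * (n j)⁻¹ := by group
  rw [h4, h3]; group

theorem step [Finite W] [Finite Y] (R : RGD cs h p T n X) {J : Set I} {j : I} (hj : j ∉ J) :
    1 + Nat.card (X (sr j)) ≤ (PJ cs h T X J).relIndex (PJ cs h T X (insert j J)) := by
  have hn : n j ∈ PJ cs h T X (insert j J) := (n_mem_PJ_iff R).mpr (Set.mem_insert j J)
  have hX : ∀ u ∈ X (sr j), u ∈ PJ cs h T X (insert j J) := fun u hu =>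
    B_le_PJ (RGD.X_le_B (isRoot_sr cs h j) (sr_nonneg j) hu)
  have hXJ : ∀ u ∈ X (sr j), u ∈ PJ cs h T X J := fun u hu =>
    B_le_PJ (RGD.X_le_B (isRoot_sr cs h j) (sr_nonneg j) hu)
  let f : Option (X (sr j)) → PJ cs h T X (insert j J) ⧸ (PJ cs h T X J).subgroupOf (PJ cs h T X (insert j J)) :=
    fun o => match o with
    | none => QuotientGroup.mk 1
    | some u => QuotientGroup.mk ⟨(u : Y) * n j, mul_mem (hX u u.2) hn⟩
  have hnB : n j ∉ PJ cs h T X J := fun hB => hj ((n_mem_PJ_iff R).1 hB)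
  have hnB' : ∀ u ∈ X (sr j), u * n j ∉ PJ cs h T X J := by
    intro u hu hB
    exact hnB ((mul_mem_cancel_left (hXJ u hu)).1 hB)
  have hinj : Function.Injective f := by
    rintro (_ | u) (_ | v) huv
    · rfl
    · exfalso
      have h1 := QuotientGroup.eq.mp huv
      rw [Subgroup.mem_subgroupOf] at h1
      apply hnB' v v.2
      simpa using h1
    · exfalso
      have h1 := QuotientGroup.eq.mp huv.symm
      rw [Subgroup.mem_subgroupOf] at h1
      apply hnB' u u.2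
      simpa only [_root_.inv_one, _root_.one_mul] using h1
    · have h1 := QuotientGroup.eq.mp huv
      rw [Subgroup.mem_subgroupOf] at h1
      have h2 : (n j)⁻¹ * ((u : Y)⁻¹ * v) * n j ∈ PJ cs h T X J := by
        have e : (n j)⁻¹ * ((u : Y)⁻¹ * v) * n j = ((u : Y) * n j)⁻¹ * ((v : Y) * n j) := by group
        rw [e]
        exact h1
      have h4 := eq_one_of_conj_mem_PJ R hj (mul_mem (inv_mem u.2) v.2) h2
      have h5 : (u : Y) = v := by
        rw [inv_mul_eq_one] at h4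
        exact h4
      rw [Subtype.ext h5]
  have h1 := Nat.card_le_card_of_injective f hinj
  rw [Finite.card_option, add_comm] at h1
  exact h1

theorem relIndex_ne_zero' {G : Type*} [Group G] [Finite G] (H K : Subgroup G) : H.relIndex K ≠ 0 :=
  Subgroup.index_ne_zero_of_finite

/-- adding nodes -/
theorem prod_le_aux [Finite W] [Finite Y] (R : RGD cs h p T n X) (J₀ J : Finset I) (hd : Disjoint J₀ J) {c : ℕ}
    (hc : c ≤ (RGD.B cs h T X).relIndex (PJ cs h T X (J₀ : Set I))) :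
    c * ∏ i ∈ J, (1 + Nat.card (X (sr i))) ≤ (RGD.B cs h T X).relIndex (PJ cs h T X ((J₀ ∪ J : Finset I) : Set I)) := by
  induction J using Finset.induction_on with
  | empty => simpa only [_root_.Finset.prod_empty, _root_.mul_one, _root_.Finset.union_empty] using hc
  | insert j J hj ih =>
    rw [Finset.disjoint_insert_right] at hd
    have h1 := ih hd.2
    have hj' : j ∉ ((J₀ ∪ J : Finset I) : Set I) := by
      rw [Finset.mem_coe, Finset.mem_union]
      exact fun h2 => h2.elim hd.1 hj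
    have h2 := step R hj'
    have e : ((J₀ ∪ insert j J : Finset I) : Set I) = insert j ((J₀ ∪ J : Finset I) : Set I) := by
      rw [Finset.union_insert, Finset.coe_insert]
    rw [Finset.prod_insert hj, e, ← Subgroup.relIndex_mul_relIndex _ _ _ B_le_PJ (PJ_mono R (Set.subset_insert _ _))]
    calc c * ((1 + Nat.card (X (sr j))) * ∏ i ∈ J, (1 + Nat.card (X (sr i)))) =
        (c * ∏ i ∈ J, (1 + Nat.card (X (sr i)))) * (1 + Nat.card (X (sr j))) := by ring
      _ ≤ _ := Nat.mul_le_mul h1 h2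

theorem prod_le_relIndex [Finite W] [Finite Y] (R : RGD cs h p T n X) (J : Finset I) :
    ∏ i ∈ J, (1 + Nat.card (X (sr i))) ≤ (RGD.B cs h T X).relIndex (PJ cs h T X (J : Set I)) := by
  have h1 := prod_le_aux R ∅ J (Finset.disjoint_empty_left J) (c := 1) (by
    rw [Nat.one_le_iff_ne_zero]
    exact relIndex_ne_zero' _ _)
  rwa [one_mul, Finset.empty_union] at h1

/-! ### two joined nodes -/

/-- the lengths -/
theorem length_two (h : IsCartan M A) {i j : I} (hij : i ≠ j) : cs.length (cs.simple j * cs.simple i) = 2 := by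
  have h1 : cs.length (cs.simple j) < cs.length (cs.simple j * cs.simple i) := by
    rw [lt_iff' cs h]
    exact (isRoot_sr cs h i).simple_nonneg (sr_nonneg i) j (fun he => by
      have h2 := congrFun he i
      rw [sr_self, sr_ne hij] at h2
      exact absurd h2 (by decide))
  have h2 := cs.length_mul_simple (cs.simple j) i
  rw [cs.length_simple] at h1 h2
  omega

theorem pairing_sr' (i j : I) : pairing A i (sr j) = A i j := by
  rw [sr, pairing_single, mul_one]

theorem rep_two {i j : I} : rep cs h (cs.simple j * cs.simple i) (sr j) =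
    (A i j * A j i - 1) • sr j - A i j • sr i := by
  rw [rep_mul_apply, rep_simple_eq cs h i, pairing_sr', map_sub, map_smul, rep_simple_sr, rep_simple_eq cs h j,
    pairing_sr', smul_sub, smul_smul, sub_smul, one_smul]
  abel

theorem entries (h : IsCartan M A) {i j : I} (hij : i ≠ j) (hM : M i j ≠ 2) : 1 ≤ A i j * A j i ∧ A i j ≤ 0 := by
  rcases h.rel i j hij with ⟨h1, -⟩ | ⟨-, h1, h2⟩ | ⟨-, ⟨h1, h2⟩ | ⟨h1, h2⟩⟩ | ⟨-, ⟨h1, h2⟩ | ⟨h1, h2⟩⟩
  · exact absurd h1 hM
  all_goals rw [h1, h2]; norm_num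

theorem length_three (h : IsCartan M A) {i j : I} (hij : i ≠ j) (hM : M i j ≠ 2) :
    cs.length (cs.simple j * cs.simple i * cs.simple j) = 3 := by
  obtain ⟨e1, e2⟩ := entries h hij hM
  have h1 : cs.length (cs.simple j * cs.simple i) < cs.length (cs.simple j * cs.simple i * cs.simple j) := by
    rw [lt_iff' cs h, show (Pi.single j 1 : I → ℤ) = sr j from rfl, rep_two]
    intro k
    have h2 : 0 ≤ (sr j : I → ℤ) k := sr_nonneg j k
    have h3 : 0 ≤ (sr i : I → ℤ) k := sr_nonneg i k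
    have h4 : 0 ≤ (A i j * A j i - 1) * (sr j : I → ℤ) k := mul_nonneg (by omega) h2
    have h5 : A i j * (sr i : I → ℤ) k ≤ 0 := mul_nonpos_of_nonpos_of_nonneg e2 h3
    have h6 : 0 ≤ (A i j * A j i - 1) * (sr j : I → ℤ) k - A i j * (sr i : I → ℤ) k := by omega
    exact h6
  have h2 := cs.length_mul_simple (cs.simple j * cs.simple i) j
  rw [length_two h hij] at h1 h2
  omega

/-- `n_j⁻¹ x n_j ∉ P_i` for `x` over `s_i` -/
theorem cell_not_mem [Finite W] (R : RGD cs h p T n X) {i j : I} (hij : i ≠ j) (hM : M i j ≠ 2) {x : Y}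
    (hx : Cell R.nsys cs h X (cs.simple i) x) : (n j)⁻¹ * x * n j ∉ PJ cs h T X {i} := by
  have hj : Cell R.nsys cs h X (cs.simple j) (n j)⁻¹ := by
    have := (cell_of_rp (X := X) (h := h) (rp_simple cs R.nsys j)).inv
    rwa [inv_simple] at this
  have h1 := Cell.mul_of_length R (by rw [length_two h hij, cs.length_simple, cs.length_simple]) hj hx
  have h2 := Cell.mul_of_length R (by rw [length_three h hij hM, length_two h hij, cs.length_simple]) h1
    (cell_of_rp (X := X) (h := h) (rp_simple cs R.nsys j))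
  rw [cell_mem_PJ_iff R h2]
  intro h3
  have h4 := Cfsg.Agent.Tits.RootComb.rep_apply_of_mem cs h h3 (sr j) (k := j) (fun h5 => hij (Set.mem_singleton_iff.1 h5).symm)
  rw [rep_mul_apply, rep_simple_sr, map_neg, rep_two] at h4
  obtain ⟨e1, e2⟩ := entries h hij hM
  rw [Pi.neg_apply, Pi.sub_apply, Pi.smul_apply, Pi.smul_apply, sr_self, sr_ne hij.symm] at h4
  simp only [smul_eq_mul, mul_one, mul_zero, sub_zero] at h4
  omega

/-- an element of `X_{-i}`, not trivial, is over `s_i` -/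
theorem cell_of_neg [Finite W] (R : RGD cs h p T n X) {i : I} {v : Y} (hv : v ∈ X (sr i)) (hv1 : v ≠ 1) :
    Cell R.nsys cs h X (cs.simple i) ((n i)⁻¹ * v * n i) := by
  have h1 : (n i)⁻¹ * v * n i ∈ X (-sr i) := by
    have := R.conj_mem' (rp_simple cs R.nsys i) (isRoot_sr cs h i) hv
    rwa [inv_simple, rep_simple_sr] at this
  have h2 : (n i)⁻¹ * v * n i ≠ 1 := by
    intro h3
    apply hv1
    have h4 : v = n i * ((n i)⁻¹ * v * n i) * (n i)⁻¹ := by group
    rw [h4, h3]; group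
  obtain ⟨a, ha, t, ht, b, hb, e⟩ := R.rk1 i _ h1 h2
  have hX : ∀ c ∈ X (sr i), c ∈ RGD.B cs h T X := fun c hc => RGD.X_le_B (isRoot_sr cs h i) (sr_nonneg i) hc
  exact ⟨a * t, mul_mem (hX a ha) (RGD.T_le_B ht), n i, rp_simple cs R.nsys i, b, hX b hb, e⟩

theorem step_two [Finite W] [Finite Y] (R : RGD cs h p T n X) {i j : I} (hij : i ≠ j) (hM : M i j ≠ 2) :
    1 + Nat.card (X (sr j)) + Nat.card (X (sr i)) * Nat.card (X (sr j)) ≤
      (PJ cs h T X {i}).relIndex (PJ cs h T X {i, j}) := by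
  have hnj : n j ∈ PJ cs h T X {i, j} := (n_mem_PJ_iff R).mpr (by simp)
  have hni : n i ∈ PJ cs h T X {i, j} := (n_mem_PJ_iff R).mpr (by simp)
  have hni' : n i ∈ PJ cs h T X {i} := (n_mem_PJ_iff R).mpr rfl
  have hX : ∀ (k : I) (J : Set I), ∀ u ∈ X (sr k), u ∈ PJ cs h T X J := fun k J u hu =>
    B_le_PJ (RGD.X_le_B (isRoot_sr cs h k) (sr_nonneg k) hu)
  have hXB : ∀ (k : I), ∀ u ∈ X (sr k), u ∈ RGD.B cs h T X := fun k u hu =>
    RGD.X_le_B (isRoot_sr cs h k) (sr_nonneg k) hu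
  let f : Option (X (sr j)) ⊕ (X (sr i) × X (sr j)) →
      PJ cs h T X {i, j} ⧸ (PJ cs h T X {i}).subgroupOf (PJ cs h T X {i, j}) :=
    fun o => match o with
    | Sum.inl none => QuotientGroup.mk 1
    | Sum.inl (some u) => QuotientGroup.mk ⟨(u : Y) * n j, mul_mem (hX j _ u u.2) hnj⟩
    | Sum.inr (v, u) => QuotientGroup.mk ⟨(v : Y) * n i * (u * n j),
        mul_mem (mul_mem (hX i _ v v.2) hni) (mul_mem (hX j _ u u.2) hnj)⟩
  have hji : j ∉ ({i} : Set I) := fun h5 => hij (Set.mem_singleton_iff.1 h5).symm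
  have hnB : n j ∉ PJ cs h T X {i} := fun hB => hji ((n_mem_PJ_iff R).1 hB)
  have hnB' : ∀ u ∈ X (sr j), u * n j ∉ PJ cs h T X {i} := by
    intro u hu hB
    exact hnB ((mul_mem_cancel_left (hX j _ u hu)).1 hB)
  have hnB2 : ∀ v ∈ X (sr i), ∀ u ∈ X (sr j), v * n i * (u * n j) ∉ PJ cs h T X {i} := by
    intro v hv u hu hB
    exact hnB' u hu ((mul_mem_cancel_left (mul_mem (hX i _ v hv) hni')).1 hB)
  have h01 : ∀ u ∈ X (sr j), ∀ v ∈ X (sr i), ∀ u' ∈ X (sr j),
      ((u : Y) * n j)⁻¹ * (v * n i * (u' * n j)) ∉ PJ cs h T X {i} := by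
    intro u hu v hv u' hu' hB
    have hc : Cell R.nsys cs h X (cs.simple i) (u⁻¹ * v * n i * u') :=
      ((cell_of_rp (X := X) (h := h) (rp_simple cs R.nsys i)).mul_left
        (mul_mem (inv_mem (hXB j u hu)) (hXB i v hv))).mul_right (hXB j u' hu')
    apply cell_not_mem R hij hM hc
    have e : (n j)⁻¹ * (u⁻¹ * v * n i * u') * n j = ((u : Y) * n j)⁻¹ * (v * n i * (u' * n j)) := by group
    rw [e]
    exact hB
  have hinj : Function.Injective f := by
    rintro ((_ | u) | ⟨v, u⟩) ((_ | u') | ⟨v', u'⟩) huv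
    · rfl
    · exfalso
      have h1 := QuotientGroup.eq.mp huv
      rw [Subgroup.mem_subgroupOf] at h1
      apply hnB' u' u'.2
      simpa using h1
    · exfalso
      have h1 := QuotientGroup.eq.mp huv
      rw [Subgroup.mem_subgroupOf] at h1
      apply hnB2 v' v'.2 u' u'.2
      simpa only [_root_.inv_one, _root_.one_mul] using h1
    · exfalso
      have h1 := QuotientGroup.eq.mp huv.symm
      rw [Subgroup.mem_subgroupOf] at h1
      apply hnB' u u.2
      simpa using h1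
    · have h1 := QuotientGroup.eq.mp huv
      rw [Subgroup.mem_subgroupOf] at h1
      have h2 : (n j)⁻¹ * ((u : Y)⁻¹ * u') * n j ∈ PJ cs h T X {i} := by
        have e : (n j)⁻¹ * ((u : Y)⁻¹ * u') * n j = ((u : Y) * n j)⁻¹ * ((u' : Y) * n j) := by group
        rw [e]
        exact h1
      have h4 := eq_one_of_conj_mem_PJ R hji (mul_mem (inv_mem u.2) u'.2) h2
      have h5 : (u : Y) = u' := by
        rw [inv_mul_eq_one] at h4
        exact h4
      rw [Subtype.ext h5]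
    · exfalso
      have h1 := QuotientGroup.eq.mp huv
      rw [Subgroup.mem_subgroupOf] at h1
      exact h01 u u.2 v' v'.2 u' u'.2 h1
    · exfalso
      have h1 := QuotientGroup.eq.mp huv.symm
      rw [Subgroup.mem_subgroupOf] at h1
      apply hnB2 v v.2 u u.2
      simpa using h1
    · exfalso
      have h1 := QuotientGroup.eq.mp huv.symm
      rw [Subgroup.mem_subgroupOf] at h1
      exact h01 u' u'.2 v v.2 u u.2 h1
    · have h1 := QuotientGroup.eq.mp huv
      rw [Subgroup.mem_subgroupOf] at h1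
      have h2 : ((v : Y) * n i * (u * n j))⁻¹ * ((v' : Y) * n i * (u' * n j)) ∈ PJ cs h T X {i} := h1
      have hvv : (v : Y) = v' := by
        by_contra hne
        have h3 : (v : Y)⁻¹ * v' ≠ 1 := fun h4 => hne (inv_mul_eq_one.1 h4)
        have hc := cell_of_neg R (mul_mem (inv_mem v.2) v'.2) h3
        have hc' : Cell R.nsys cs h X (cs.simple i) ((u : Y)⁻¹ * ((n i)⁻¹ * ((v : Y)⁻¹ * v') * n i) * u') :=
          (hc.mul_left (inv_mem (hXB j u u.2))).mul_right (hXB j u' u'.2)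
        apply cell_not_mem R hij hM hc'
        have e : (n j)⁻¹ * ((u : Y)⁻¹ * ((n i)⁻¹ * ((v : Y)⁻¹ * v') * n i) * u') * n j =
            ((v : Y) * n i * (u * n j))⁻¹ * ((v' : Y) * n i * (u' * n j)) := by group
        rw [e]
        exact h2
      have h3 : (n j)⁻¹ * ((u : Y)⁻¹ * u') * n j ∈ PJ cs h T X {i} := by
        have e : (n j)⁻¹ * ((u : Y)⁻¹ * u') * n j =
            ((v : Y) * n i * (u * n j))⁻¹ * ((v' : Y) * n i * (u' * n j)) := by rw [hvv]; group
        rw [e]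
        exact h2
      have h4 := eq_one_of_conj_mem_PJ R hji (mul_mem (inv_mem u.2) u'.2) h3
      have h5 : (u : Y) = u' := by
        rw [inv_mul_eq_one] at h4
        exact h4
      rw [Subtype.ext h5, Subtype.ext hvv]
  have h1 := Nat.card_le_card_of_injective f hinj
  rw [Nat.card_sum, Nat.card_prod, Finite.card_option] at h1
  rw [add_comm 1]
  exact h1

theorem prod_le_relIndex_edge [Finite W] [Finite Y] (R : RGD cs h p T n X) (J : Finset I) {i j : I} (hi : i ∈ J)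
    (hj : j ∈ J) (hij : i ≠ j) (hM : M i j ≠ 2) :
    (1 + Nat.card (X (sr i))) * (1 + Nat.card (X (sr j)) + Nat.card (X (sr i)) * Nat.card (X (sr j))) *
      ∏ k ∈ J \ {i, j}, (1 + Nat.card (X (sr k))) ≤ (RGD.B cs h T X).relIndex (PJ cs h T X (J : Set I)) := by
  have h1 := prod_le_aux R {i, j} (J \ {i, j}) Finset.disjoint_sdiff (c := (1 + Nat.card (X (sr i))) *
    (1 + Nat.card (X (sr j)) + Nat.card (X (sr i)) * Nat.card (X (sr j)))) (by
      rw [Finset.coe_pair, ← Subgroup.relIndex_mul_relIndex _ (PJ cs h T X {i}) _ B_le_PJ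
        (PJ_mono R (by simp)), relIndex_B_PJ_singleton R i, add_comm (Nat.card (X (sr i)))]
      exact Nat.mul_le_mul le_rfl (step_two R hij hM))
  have h2 : {i, j} ∪ (J \ {i, j}) = J := by
    apply Finset.union_sdiff_of_subset
    intro k hk
    rcases Finset.mem_insert.1 hk with rfl | hk
    · exact hi
    · rw [Finset.mem_singleton.1 hk]; exact hj
  rwa [h2] at h1

/-! ### rank two -/

theorem rank_two_index {W Y : Type*} [Group W] [Group Y] {M : CoxeterMatrix (Fin 2)} {cs : CoxeterSystem M W}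
    {A : Fin 2 → Fin 2 → ℤ} {h : IsCartan M A} {p : ℕ} {T : Subgroup Y} {n : Fin 2 → Y}
    {X : (Fin 2 → ℤ) → Subgroup Y} [Finite W] [Finite Y] [Fact p.Prime] (R : RGD cs h p T n X)
    (hG : GG cs h T X = ⊤) :
    (PJ cs h T X {0}).index * (Nat.card (X (sr 0)) * Nat.card (X (sr 1)) - 1) =
      (Nat.card (RGD.Sup X (RGD.Pos cs h)) - 1) * (1 + Nat.card (X (sr 1))) := by
  have h1 := (Cfsg.Agent.H115.splitBru_of_rgd R hG).sum_index Finset.univ
    (Cfsg.Agent.H115.exists_longest (cs := cs) Finset.univ)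
  have hps : (Finset.univ : Finset (Fin 2)).powerset = {∅, {0}, {1}, {0, 1}} := by decide
  have hV : VJ cs h X ((Finset.univ : Finset (Fin 2)) : Set (Fin 2)) = ⊥ := by
    rw [eq_bot_iff]
    refine RGD.Sup_le ?_
    rintro x ⟨-, -, k, hk, -⟩
    exact absurd (by simp) hk
  have hU : ((Finset.univ : Finset (Fin 2)) : Set (Fin 2)) = Set.univ := Finset.coe_univ
  rw [hps, Finset.sum_insert (by decide), Finset.sum_insert (by decide), Finset.sum_insert (by decide),
    Finset.sum_singleton, hV, Subgroup.relIndex_bot_left, hU, PJ_univ R hG] at h1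
  have h01 : (({0, 1} : Finset (Fin 2)) : Set (Fin 2)) = Set.univ := by
    rw [← hU]; congr 1
  rw [h01, PJ_univ R hG, Subgroup.relIndex_self] at h1
  simp only [Finset.coe_empty, Finset.coe_singleton, Subgroup.relIndex_top_right, Finset.card_empty,
    Finset.card_singleton, PJ_empty R] at h1
  have h2 : (RGD.B cs h T X).relIndex (PJ cs h T X {0}) * (PJ cs h T X {0}).index = (RGD.B cs h T X).index :=
    Subgroup.relIndex_mul_index B_le_PJ
  have h3 : (RGD.B cs h T X).relIndex (PJ cs h T X {1}) * (PJ cs h T X {1}).index = (RGD.B cs h T X).index :=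
    Subgroup.relIndex_mul_index B_le_PJ
  rw [relIndex_B_PJ_singleton R] at h2 h3
  have hq0 : 1 ≤ Nat.card (X (sr 0)) := Nat.card_pos
  have hq1 : 1 ≤ Nat.card (X (sr 1)) := Nat.card_pos
  have hU1 : 1 ≤ Nat.card (RGD.Sup X (RGD.Pos cs h)) := Nat.card_pos
  have hqq : 1 ≤ Nat.card (X (sr 0)) * Nat.card (X (sr 1)) := Nat.mul_pos hq0 hq1
  have hcard : ({0, 1} : Finset (Fin 2)).card = 2 := by decide
  rw [hcard] at h1
  zify [hqq, hU1]
  zify at h2 h3
  push_cast at h1 h2 h3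
  nlinarith only [h2, h3, h1]

/-! ### the number of regular unipotent elements -/

section reg

/-- `V_i` as a subgroup of `U` -/
def Vi (cs : CoxeterSystem M W) (h : IsCartan M A) (X : (I → ℤ) → Subgroup Y) (i : I) :
    Subgroup ↥(RGD.Sup X (RGD.Pos cs h)) := (RGD.Sup X (RGD.PosNe cs h i)).subgroupOf (RGD.Sup X (RGD.Pos cs h))

theorem Vi_normal (R : RGD cs h p T n X) (i : I) : (Vi cs h X i).Normal :=
  Subgroup.normal_subgroupOf_of_le_normalizer (le_trans RGD.U_le_B (B_le_normalizer_V R i))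

theorem X_le_U (i : I) : X (sr i) ≤ RGD.Sup X (RGD.Pos cs h) :=
  RGD.le_Sup (S := RGD.Pos cs h) ⟨isRoot_sr cs h i, sr_nonneg i⟩

theorem card_quot [Finite W] (R : RGD cs h p T n X) (i : I) : Nat.card (↥(RGD.Sup X (RGD.Pos cs h)) ⧸ Vi cs h X i) = Nat.card (X (sr i)) := by
  symm
  refine Nat.card_congr (Equiv.ofBijective
    (fun x : X (sr i) => (QuotientGroup.mk ⟨(x : Y), X_le_U i x.2⟩ : ↥(RGD.Sup X (RGD.Pos cs h)) ⧸ Vi cs h X i)) ⟨?_, ?_⟩)
  · intro x y hxy
    have h1 := QuotientGroup.eq.mp hxy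
    unfold Vi at h1
    rw [Subgroup.mem_subgroupOf] at h1
    have h2 := eq_one_of_mem_PosNe R (mul_mem (inv_mem x.2) y.2) h1
    exact Subtype.ext (inv_mul_eq_one.1 h2)
  · intro q
    induction q using QuotientGroup.induction_on with
    | _ g =>
      obtain ⟨g, hg⟩ := g
      have h1 : g ∈ ((X (sr i) ⊔ RGD.Sup X (RGD.PosNe cs h i) : Subgroup Y) : Set Y) := by
        rw [← R.Upos_eq i]; exact hg
      rw [Subgroup.coe_mul_of_left_le_normalizer_right _ _ (R.X_le_normalizer_V i), Set.mem_mul] at h1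
      obtain ⟨a, ha, v, hv, rfl⟩ := h1
      refine ⟨⟨a, ha⟩, ?_⟩
      rw [QuotientGroup.eq]
      unfold Vi
      rw [Subgroup.mem_subgroupOf]
      change a⁻¹ * (a * v) ∈ _
      rwa [inv_mul_cancel_left]

/-- the number of regular elements of `U` -/
theorem card_reg_mul [Finite W] [Finite Y] (R : RGD cs h p T n X) :
    Nat.card {u : ↥(RGD.Sup X (RGD.Pos cs h)) // ∀ i, u ∉ Vi cs h X i} * ∏ i, Nat.card (X (sr i)) =
      Nat.card ↥(RGD.Sup X (RGD.Pos cs h)) * ∏ i, (Nat.card (X (sr i)) - 1) := by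
  classical
  have hn : ∀ i, (Vi cs h X i).Normal := Vi_normal R
  have := Fintype.ofFinite ↥(RGD.Sup X (RGD.Pos cs h))
  have hft : ∀ i, Fintype (↥(RGD.Sup X (RGD.Pos cs h)) ⧸ Vi cs h X i) := fun i => Fintype.ofFinite _
  let F : ↥(RGD.Sup X (RGD.Pos cs h)) →* (∀ i, ↥(RGD.Sup X (RGD.Pos cs h)) ⧸ Vi cs h X i) :=
    MonoidHom.pi fun i => QuotientGroup.mk' (Vi cs h X i)
  have hFa : ∀ u i, F u i = QuotientGroup.mk u := fun u i => rfl
  have hF1 : ∀ u i, F u i = 1 ↔ u ∈ Vi cs h X i := fun u i => by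
    rw [hFa, QuotientGroup.eq_one_iff]
  have hsurj : Function.Surjective F := by
    intro c
    have key : ∀ s : Finset I, ∃ g, (∀ i ∈ s, F g i = c i) ∧ ∀ i, i ∉ s → F g i = 1 := by
      intro s
      induction s using Finset.induction_on with
      | empty => exact ⟨1, fun i hi => absurd hi (Finset.notMem_empty i), fun i _ => by rw [map_one]; rfl⟩
      | insert j s hj ih =>
        obtain ⟨g, h1, h2⟩ := ih
        obtain ⟨x, hx, hxc⟩ : ∃ x : ↥(RGD.Sup X (RGD.Pos cs h)), (x : Y) ∈ X (sr j) ∧ F x j = c j := by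
          obtain ⟨y, hy⟩ := QuotientGroup.mk_surjective (c j)
          have h3 : (y : Y) ∈ ((X (sr j) ⊔ RGD.Sup X (RGD.PosNe cs h j) : Subgroup Y) : Set Y) := by
            rw [← R.Upos_eq j]; exact y.2
          rw [Subgroup.coe_mul_of_left_le_normalizer_right _ _ (R.X_le_normalizer_V j), Set.mem_mul] at h3
          obtain ⟨a, ha, v, hv, e⟩ := h3
          refine ⟨⟨a, X_le_U j ha⟩, ha, ?_⟩
          rw [hFa, ← hy, QuotientGroup.eq]
          unfold Vi
          rw [Subgroup.mem_subgroupOf]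
          change a⁻¹ * (y : Y) ∈ _
          rw [← e, inv_mul_cancel_left]
          exact hv
        have hx1 : ∀ i, i ≠ j → F x i = 1 := by
          intro i hij
          rw [hF1]
          unfold Vi
          rw [Subgroup.mem_subgroupOf]
          refine RGD.le_Sup (S := RGD.PosNe cs h i) ⟨isRoot_sr cs h j, sr_nonneg j, ?_⟩ hx
          intro he
          have h3 := congrFun he j
          rw [sr_self, sr_ne hij.symm] at h3
          exact absurd h3 (by decide)
        refine ⟨g * x, fun i hi => ?_, fun i hi => ?_⟩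
        · rw [map_mul, Pi.mul_apply]
          rcases Finset.mem_insert.1 hi with rfl | hi'
          · rw [h2 _ hj, hxc, one_mul]
          · rw [h1 i hi', hx1 i (fun e => hj (e ▸ hi')), mul_one]
        · rw [Finset.mem_insert, not_or] at hi
          rw [map_mul, Pi.mul_apply, h2 i hi.2, hx1 i hi.1, mul_one]
    obtain ⟨g, hg, -⟩ := key Finset.univ
    exact ⟨g, funext fun i => hg i (Finset.mem_univ i)⟩
  -- the fibres
  obtain ⟨N, hN⟩ : ∃ N, N = (Finset.univ.filter fun u => F u = 1).card := ⟨_, rfl⟩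
  have hfib : ∀ c, (Finset.univ.filter fun u => F u = c).card = N := fun c => by
    rw [hN]
    exact MonoidHom.card_fiber_eq_of_mem_range F (hsurj c) (hsurj 1)
  have hcount : ∀ S : Finset (∀ i, ↥(RGD.Sup X (RGD.Pos cs h)) ⧸ Vi cs h X i),
      (Finset.univ.filter fun u => F u ∈ S).card = S.card * N := by
    intro S
    rw [Finset.card_eq_sum_card_fiberwise (f := F) (s := Finset.univ.filter fun u => F u ∈ S) (t := S)
        (fun u hu => (Finset.mem_filter.1 (Finset.mem_coe.1 hu)).2),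
      Finset.sum_congr rfl (g := fun _ => N), Finset.sum_const, smul_eq_mul]
    intro c hc
    rw [← hfib c, Finset.filter_filter]
    congr 1
    ext u
    simp only [Finset.mem_filter, Finset.mem_univ, true_and]
    exact ⟨fun h1 => h1.2, fun h1 => ⟨h1 ▸ hc, h1⟩⟩
  have hq : ∀ i, Fintype.card (↥(RGD.Sup X (RGD.Pos cs h)) ⧸ Vi cs h X i) = Nat.card (X (sr i)) := fun i => by
    rw [← Nat.card_eq_fintype_card, card_quot R i]
  -- the whole group
  have h1 := hcount Finset.univ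
  have h2 : (Finset.univ.filter fun u => F u ∈ (Finset.univ : Finset (∀ i, ↥(RGD.Sup X (RGD.Pos cs h)) ⧸ Vi cs h X i))).card =
      Nat.card ↥(RGD.Sup X (RGD.Pos cs h)) := by
    rw [Nat.card_eq_fintype_card, Finset.filter_true_of_mem fun u _ => Finset.mem_univ _, Finset.card_univ]
  rw [h2, Finset.card_univ, Fintype.card_pi, Finset.prod_congr rfl fun i _ => hq i] at h1
  -- the regular elements
  have h3 := hcount (Fintype.piFinset fun i => Finset.univ.erase 1)
  have h4 : (Finset.univ.filter fun u => F u ∈ Fintype.piFinset fun i => Finset.univ.erase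
      (1 : ↥(RGD.Sup X (RGD.Pos cs h)) ⧸ Vi cs h X i)).card =
      Nat.card {u : ↥(RGD.Sup X (RGD.Pos cs h)) // ∀ i, u ∉ Vi cs h X i} := by
    rw [Nat.card_eq_fintype_card, Fintype.card_subtype]
    congr 1
    ext u
    simp only [Finset.mem_filter, Finset.mem_univ, true_and, Fintype.mem_piFinset, Finset.mem_erase, and_true]
    exact forall_congr' fun i => not_congr (hF1 u i)
  rw [h4, Fintype.card_piFinset, Finset.prod_congr rfl fun i _ => (Finset.card_erase_of_mem (Finset.mem_univ _)).trans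
    (by rw [Finset.card_univ, hq i])] at h3
  rw [h3, h1]
  ring

theorem reg_iff {u : Y} (hu : u ∈ RGD.Sup X (RGD.Pos cs h)) :
    Reg cs h X u ↔ ∀ i, (⟨u, hu⟩ : ↥(RGD.Sup X (RGD.Pos cs h))) ∉ Vi cs h X i :=
  ⟨fun h1 i h2 => h1.2 i (Subgroup.mem_subgroupOf.1 h2), fun h1 => ⟨hu, fun i h2 => h1 i (Subgroup.mem_subgroupOf.2 h2)⟩⟩

theorem index_B_mul_le [Finite W] [Finite Y] [Fact p.Prime] (R : RGD cs h p T n X) (hG : GG cs h T X = ⊤) :
    (RGD.B cs h T X).index * ∏ i, (Nat.card (X (sr i)) - 1) ≤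
      Nat.card (RGD.Sup X (RGD.Pos cs h)) * ∏ i, Nat.card (X (sr i)) := by
  classical
  -- the conjugates of the regular elements
  let f : (Y ⧸ RGD.B cs h T X) × {u : ↥(RGD.Sup X (RGD.Pos cs h)) // ∀ i, u ∉ Vi cs h X i} →
      {g : Y // ∃ k : ℕ, orderOf g = p ^ k} := fun c => ⟨c.1.out * (c.2.1 : Y) * c.1.out⁻¹, by
    obtain ⟨k, hk⟩ := Reg.orderOf_eq R ((reg_iff c.2.1.2).2 c.2.2)
    refine ⟨k, ?_⟩
    have h1 : orderOf (MulAut.conj c.1.out (c.2.1 : Y)) = orderOf (c.2.1 : Y) :=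
      MulEquiv.orderOf_eq (MulAut.conj c.1.out) _
    rw [← hk, ← h1]
    rfl⟩
  have hinj : Function.Injective f := by
    rintro ⟨c, u⟩ ⟨c', u'⟩ hcu
    have h1 : c.out * (u.1 : Y) * c.out⁻¹ = c'.out * (u'.1 : Y) * c'.out⁻¹ := congrArg Subtype.val hcu
    have h2 : (c.out⁻¹ * c'.out)⁻¹ * (u.1 : Y) * (c.out⁻¹ * c'.out) = u'.1 := by
      calc (c.out⁻¹ * c'.out)⁻¹ * (u.1 : Y) * (c.out⁻¹ * c'.out) =
          c'.out⁻¹ * (c.out * (u.1 : Y) * c.out⁻¹) * c'.out := by group
        _ = c'.out⁻¹ * (c'.out * (u'.1 : Y) * c'.out⁻¹) * c'.out := by rw [h1]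
        _ = u'.1 := by group
    have h3 : c.out⁻¹ * c'.out ∈ RGD.B cs h T X := by
      refine Reg.mem_B R hG ((reg_iff u.1.2).2 u.2) ?_
      rw [h2]
      exact RGD.U_le_B u'.1.2
    have h4 : c = c' := by
      rw [← QuotientGroup.out_eq' c, ← QuotientGroup.out_eq' c']
      exact QuotientGroup.eq.2 h3
    subst h4
    have h5 : (u.1 : Y) = u'.1 := by
      rw [← h2]; group
    have h6 : u = u' := Subtype.ext (Subtype.ext h5)
    rw [h6]
  have h1 := Nat.card_le_card_of_injective f hinj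
  rw [Nat.card_prod, Cfsg.Agent.H115.card_pel_of_rgd_top R hG] at h1
  have h2 := card_reg_mul R
  have hidx : Nat.card (Y ⧸ RGD.B cs h T X) = (RGD.B cs h T X).index := rfl
  rw [hidx] at h1
  have hU : 0 < Nat.card ↥(RGD.Sup X (RGD.Pos cs h)) := Nat.card_pos
  have h3 : Nat.card ↥(RGD.Sup X (RGD.Pos cs h)) * ((RGD.B cs h T X).index * ∏ i, (Nat.card (X (sr i)) - 1)) ≤
      Nat.card ↥(RGD.Sup X (RGD.Pos cs h)) * (Nat.card ↥(RGD.Sup X (RGD.Pos cs h)) * ∏ i, Nat.card (X (sr i))) := by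
    calc Nat.card ↥(RGD.Sup X (RGD.Pos cs h)) * ((RGD.B cs h T X).index * ∏ i, (Nat.card (X (sr i)) - 1)) =
        (RGD.B cs h T X).index * (Nat.card ↥(RGD.Sup X (RGD.Pos cs h)) * ∏ i, (Nat.card (X (sr i)) - 1)) := by ring
      _ = (RGD.B cs h T X).index * Nat.card {u : ↥(RGD.Sup X (RGD.Pos cs h)) // ∀ i, u ∉ Vi cs h X i} *
          ∏ i, Nat.card (X (sr i)) := by rw [← h2]; ring
      _ ≤ Nat.card ↥(RGD.Sup X (RGD.Pos cs h)) ^ 2 * ∏ i, Nat.card (X (sr i)) := Nat.mul_le_mul_right _ h1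
      _ = _ := by ring
  exact Nat.le_of_mul_le_mul_left h3 hU

end reg

end Cfsg.Agent.H497.CD

private theorem dce_e1558f316e69 : _root_.True := by
  try have : _root_.True := by simp only [_root_.Cfsg.Agent.Nodes.BNOf.RGD.Pos.congr_simp]
  exact _root_.True.intro
end

-- part: H117/ParIdx
section
set_option linter.all false
open scoped Cfsg.Agent.FastGrp

/-!
# Indices and normalizers of parabolic subgroups (helper117, task 2059 for S4898)

* `normalizer_PJ`, `not_dvd_relIndex`, `relIndex_opp`, `relIndex_simple_dvd`, `two_mul_le_card_VJ`, `mul_le_card_VJ`.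
-/

set_option autoImplicit false
set_option linter.unusedSectionVars false

namespace Cfsg.Agent.H117.ParIdx

open CoxeterSystem Cfsg.Agent.ChevalleyStructure.CoxeterGeom Cfsg.Agent.Tits.Roots Cfsg.Agent.Tits.Core
  Cfsg.Agent.Tits.Exchange Cfsg.Agent.Nodes.Reps Cfsg.Agent.Nodes.BNOf Cfsg.Agent.Nodes.StabComb
  Cfsg.Agent.Nodes.OppDec Cfsg.Agent.Nodes.Bruhat Cfsg.Agent.Nodes.LeviDec

variable {I W Y : Type*} [Fintype I] [DecidableEq I] [Group W] [Group Y] {M : CoxeterMatrix I}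
  {cs : CoxeterSystem M W} {A : I → I → ℤ} {h : IsCartan M A} {p : ℕ} {T : Subgroup Y} {n : I → Y}
  {X : (I → ℤ) → Subgroup Y}

theorem normalizer_PJ [Finite W] (R : RGD cs h p T n X) (hG : GG cs h T X = ⊤) (J : Set I) :
    Subgroup.normalizer (PJ cs h T X J : Set Y) = PJ cs h T X J := by
  apply le_antisymm _ Subgroup.le_normalizer
  have h1 : RGD.B cs h T X ≤ Subgroup.normalizer (PJ cs h T X J : Set Y) :=
    le_trans B_le_PJ Subgroup.le_normalizer
  rw [H554.RG.eq_PJ R hG h1]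
  refine H554.RG.PJ_mono R fun k hk => ?_
  by_contra hkJ
  obtain ⟨u, hu, hu1⟩ := exists_ne_one R k
  refine hu1 (H497.CD.eq_one_of_conj_mem_PJ R hkJ hu ?_)
  have h2 : u ∈ PJ cs h T X J := B_le_PJ (RGD.X_le_B (isRoot_sr cs h k) (sr_nonneg k) hu)
  have h3 := (Subgroup.mem_normalizer_iff.1 (inv_mem hk) u).1 h2
  rwa [inv_inv] at h3

theorem not_dvd_relIndex [Finite W] [Finite Y] [Fact p.Prime] (R : RGD cs h p T n X) (hG : GG cs h T X = ⊤)
    (J : Set I) : ¬ p ∣ (RGD.Sup X (RGD.Pos cs h)).relIndex (PJ cs h T X J) := by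
  obtain ⟨P, hP⟩ := H554.RG.exists_sylow R hG
  have h1 : ¬ p ∣ (RGD.Sup X (RGD.Pos cs h)).index := by
    rw [← hP]; exact P.not_dvd_index
  intro h2
  apply h1
  have h3 : RGD.Sup X (RGD.Pos cs h) ≤ PJ cs h T X J := le_trans RGD.U_le_B B_le_PJ
  rw [← Subgroup.relIndex_mul_index h3]
  exact Dvd.dvd.mul_right h2 _

/-! ### the longest element -/

theorem simple_injective (cs : CoxeterSystem M W) (h : IsCartan M A) : Function.Injective cs.simple := by
  intro i j hij
  by_contra hne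
  have h1 := rep_simple_sr cs h i
  rw [hij] at h1
  have h2 := congrFun h1 i
  rw [rep_simple_apply cs h j (sr i) i hne, Pi.neg_apply, sr_self] at h2
  omega

theorem rep_w0_sr [Finite W] (j : I) : rep cs h (w0 cs) (sr j) = - sr (op cs j) := by
  set z := - rep cs h (w0 cs) (sr j) with hz
  have hzr : IsRoot cs h z := ((isRoot_sr cs h j).act (w0 cs)).neg
  have hz0 : 0 ≤ z := neg_nonneg.2 (rep_w0_nonpos (isRoot_sr cs h j) (sr_nonneg j))
  have h1 : rep cs h (cs.simple (op cs j)) z = - z := by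
    rw [hz, map_neg, ← rep_mul_apply, simple_op_mul_w0, rep_mul_apply, rep_simple_sr, map_neg]
  have h2 : z = sr (op cs j) := by
    by_contra hne
    have h3 := hzr.simple_nonneg hz0 (op cs j) hne
    rw [h1] at h3
    exact hzr.not_pos_neg hz0 (neg_nonneg.1 h3)
  rw [← h2, hz, neg_neg]

theorem rep_w0_apply [Finite W] (x : I → ℤ) (k : I) : rep cs h (w0 cs) x (op cs k) = - x k := by
  have hx : x = ∑ i, x i • sr i := by
    funext k
    rw [Finset.sum_apply, Finset.sum_eq_single k]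
    · rw [Pi.smul_apply, sr_self, smul_eq_mul, mul_one]
    · intro j _ hj
      rw [Pi.smul_apply, sr_ne (Ne.symm hj), smul_zero]
    · intro hk
      exact absurd (Finset.mem_univ k) hk
  conv_lhs => rw [hx]
  rw [map_sum, Finset.sum_apply, Finset.sum_eq_single k]
  · rw [map_smul, rep_w0_sr, Pi.smul_apply, Pi.neg_apply, sr_self, smul_eq_mul]
    ring
  · intro j _ hj
    rw [map_smul, rep_w0_sr, Pi.smul_apply, Pi.neg_apply, sr_ne, neg_zero, smul_zero]
    intro h2
    apply hj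
    rw [← op_op cs (simple_injective cs h) j, ← h2, op_op cs (simple_injective cs h) k]
  · intro hk
    exact absurd (Finset.mem_univ k) hk

theorem RootsJ_w0 [Finite W] {J : Set I} (hop : ∀ i, op cs i ∈ J ↔ i ∈ J) {x : I → ℤ} (hx : x ∈ RootsJ cs h J) :
    rep cs h (w0 cs) x ∈ RootsJ cs h J := by
  refine ⟨hx.1.act _, fun k hk => ?_⟩
  have h1 : op cs k ∉ J := fun h2 => hk ((hop k).1 h2)
  have h2 := rep_w0_apply (cs := cs) (h := h) x (op cs k)
  rw [op_op cs (simple_injective cs h), hx.2 _ h1, neg_zero] at h2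
  exact h2

theorem NotJ_w0 [Finite W] {J : Set I} (hop : ∀ i, op cs i ∈ J ↔ i ∈ J) {x : I → ℤ} (hx : x ∈ NotJ cs h J) :
    rep cs h (w0 cs) x ∈ NotNJ cs h J := by
  obtain ⟨hr, h0, k, hk, hk0⟩ := hx
  have h1 : rep cs h (w0 cs) x ≤ 0 := rep_w0_nonpos hr h0
  refine ⟨(hr.act _).neg, neg_nonneg.2 h1, op cs k, fun h2 => hk ((hop k).1 h2), ?_⟩
  rw [Pi.neg_apply, rep_w0_apply, neg_neg]
  exact hk0

theorem NotNJ_w0 [Finite W] {J : Set I} (hop : ∀ i, op cs i ∈ J ↔ i ∈ J) {x : I → ℤ} (hx : x ∈ NotNJ cs h J) :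
    rep cs h (w0 cs) x ∈ NotJ cs h J := by
  have h1 := NotJ_w0 hop hx
  rw [map_neg] at h1
  have h2 : - -(rep cs h (w0 cs) x) ∈ NotJ cs h J := h1
  rwa [neg_neg] at h2

/-- the opposite of a parabolic subgroup of type `J = op J` -/
theorem cj_PJ [Finite W] (R : RGD cs h p T n X) {J : Set I} (hop : ∀ i, op cs i ∈ J ↔ i ∈ J) {k : Y}
    (hk : Rp cs R.nsys (w0 cs) k) : cj k (PJ cs h T X J) = PNJ cs h T X J := by
  have hk' : Rp cs R.nsys (w0 cs) k⁻¹ := by
    have := hk.inv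
    rwa [w0_inv] at this
  have hL : ∀ {g : Y}, Rp cs R.nsys (w0 cs) g → cj g (LJ cs h T X J) ≤ LJ cs h T X J := by
    intro g hg
    unfold LJ
    rw [cj_sup, cj_T R hg]
    exact sup_le_sup_left (cj_Sup_le R hg (fun x hx => hx.1) fun x hx => RootsJ_w0 hop hx) _
  have hV : cj k (VJ cs h X J) ≤ VNJ cs h X J :=
    cj_Sup_le R hk (fun x hx => hx.1) fun x hx => NotJ_w0 hop hx
  have hV' : cj k⁻¹ (VNJ cs h X J) ≤ VJ cs h X J :=
    cj_Sup_le R hk' (fun x hx => NotNJ.isRoot hx) fun x hx => NotNJ_w0 hop hx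
  apply le_antisymm
  · unfold PJ PNJ
    rw [cj_sup]
    exact sup_le_sup (hL hk) hV
  · have h1 : cj k⁻¹ (PNJ cs h T X J) ≤ PJ cs h T X J := by
      unfold PJ PNJ
      rw [cj_sup]
      exact sup_le_sup (hL hk') hV'
    have h2 := cj_mono k h1
    rwa [cj_cj_inv] at h2

/-- `|P_J : L_J| = |V_J|` -/
theorem relIndex_LJ [Finite W] [Finite Y] (R : RGD cs h p T n X) (J : Set I) :
    (LJ cs h T X J).relIndex (PJ cs h T X J) = Nat.card (VJ cs h X J) := by
  symm
  refine Nat.card_congr (Equiv.ofBijective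
    (fun x : VJ cs h X J => (QuotientGroup.mk ⟨(x : Y), VJ_le_PJ x.2⟩ :
      ↥(PJ cs h T X J) ⧸ (LJ cs h T X J).subgroupOf (PJ cs h T X J))) ⟨?_, ?_⟩)
  · intro x y hxy
    have h1 := QuotientGroup.eq.mp hxy
    rw [Subgroup.mem_subgroupOf] at h1
    have h2 := eq_one_of_mem_LJ_of_mem_VJ R h1 (mul_mem (inv_mem x.2) y.2)
    exact Subtype.ext (inv_mul_eq_one.1 h2)
  · intro q
    induction q using QuotientGroup.induction_on with
    | _ g =>
      obtain ⟨g, hg⟩ := g
      obtain ⟨l, hl, v, hv, e⟩ := (mem_PJ R).1 (inv_mem hg)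
      refine ⟨⟨v⁻¹, inv_mem hv⟩, ?_⟩
      rw [QuotientGroup.eq, Subgroup.mem_subgroupOf]
      change (v⁻¹)⁻¹ * g ∈ _
      have e2 : (v⁻¹)⁻¹ * g = l⁻¹ := by
        have e3 : g = v⁻¹ * l⁻¹ := by rw [← mul_inv_rev, ← e, inv_inv]
        rw [e3]; group
      rw [e2]
      exact inv_mem hl

theorem relIndex_opp [Finite W] [Finite Y] (R : RGD cs h p T n X) (hG : GG cs h T X = ⊤) (J : Set I)
    (hop : ∀ i, op cs i ∈ J ↔ i ∈ J) {k : Y} (hk : Rp cs R.nsys (w0 cs) k) :
    (PJ cs h T X J ⊓ (PJ cs h T X J).map (MulAut.conj k).toMonoidHom).relIndex (PJ cs h T X J) =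
      Nat.card (VJ cs h X J) := by
  have h1 : (PJ cs h T X J).map (MulAut.conj k).toMonoidHom = PNJ cs h T X J := cj_PJ R hop hk
  rw [h1, PJ_inf_PNJ R, relIndex_LJ R]

theorem relIndex_simple_dvd [Finite W] [Finite Y] (R : RGD cs h p T n X) (hG : GG cs h T X = ⊤) (J : Set I) (s : I) :
    (PJ cs h T X J ⊓ (PJ cs h T X J).map (MulAut.conj (n s)).toMonoidHom).relIndex (PJ cs h T X J) ∣
      (RGD.Sup X (RGD.Pos cs h)).relIndex (PJ cs h T X J) * Nat.card (X (sr s)) := by
  set V : Subgroup Y := RGD.Sup X (RGD.PosNe cs h s) with hV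
  have hVU : V ≤ RGD.Sup X (RGD.Pos cs h) := RGD.Sup_mono fun x hx => ⟨hx.1, hx.2.1⟩
  have hUP : RGD.Sup X (RGD.Pos cs h) ≤ PJ cs h T X J := le_trans RGD.U_le_B B_le_PJ
  have hVP : V ≤ PJ cs h T X J := le_trans hVU hUP
  have hVn : V ≤ (PJ cs h T X J).map (MulAut.conj (n s)).toMonoidHom := by
    have h1 : cj (n s) V = V := R.cj_n_V s
    rw [← h1]
    exact cj_mono (n s) hVP
  have h2 : V.relIndex (RGD.Sup X (RGD.Pos cs h)) = Nat.card (X (sr s)) := H497.CD.card_quot R s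
  have h3 : V.relIndex (PJ cs h T X J) = Nat.card (X (sr s)) * (RGD.Sup X (RGD.Pos cs h)).relIndex (PJ cs h T X J) := by
    rw [← h2, Subgroup.relIndex_mul_relIndex _ _ _ hVU hUP]
  rw [mul_comm, ← h3, ← Subgroup.relIndex_mul_relIndex _ _ _ (le_inf hVP hVn) inf_le_left]
  exact Dvd.intro_left _ rfl

/-! ### the order of the unipotent radical -/

/-- the image of `α_s` under the reflection `j` -/
theorem root_facts (R : RGD cs h p T n X) (J : Set I) {s j : I} (hs : s ∉ J) (hj : j ∈ J) (hM : M s j ≠ 2) :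
    IsRoot cs h (rep cs h (cs.simple j) (sr s)) ∧ rep cs h (cs.simple j) (sr s) ∈ NotJ cs h J ∧
      rep cs h (cs.simple j) (sr s) ≠ sr s ∧ ∀ i, i ≠ s → rep cs h (cs.simple j) (sr s) ≠ sr i := by
  have hsj : s ≠ j := fun e => hs (e ▸ hj)
  refine ⟨(isRoot_sr cs h s).act _, NotJ.act (simple_mem_WJ cs hj) (sr_mem_NotJ hs), ?_, ?_⟩
  · intro e
    have h1 := H497.CD.entries h hsj hM
    have h2 : j ∈ orth cs h (sr s) := e
    rw [mem_orth, H497.CD.pairing_sr'] at h2
    rw [h2] at h1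
    simp at h1
  · intro i hi e
    have h2 := congrFun e s
    rw [rep_simple_apply cs h j (sr s) s hsj, sr_self, sr_ne (Ne.symm hi)] at h2
    exact absurd h2 (by norm_num)

theorem two_le_card [Finite Y] (R : RGD cs h p T n X) {x : I → ℤ} (hx : IsRoot cs h x) : 2 ≤ Nat.card (X x) := by
  have h1 := X_ne_bot R hx
  have : Nontrivial (X x) := (Subgroup.nontrivial_iff_ne_bot _).2 h1
  exact Finite.one_lt_card

theorem mul_le_card_VJ [Finite W] [Finite Y] (R : RGD cs h p T n X) (J : Set I) {s s' j : I} (hs : s ∉ J) (hs' : s' ∉ J)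
    (hss : s ≠ s') (hj : j ∈ J) (hM : M s j ≠ 2) :
    2 * (Nat.card (X (sr s)) * Nat.card (X (sr s'))) ≤ Nat.card (VJ cs h X J) := by
  obtain ⟨hr, hrN, hr1, hr2⟩ := root_facts R J hs hj hM
  set r := rep cs h (cs.simple j) (sr s) with hrdef
  have hXs : X (sr s) ≤ VJ cs h X J := RGD.le_Sup (sr_mem_NotJ hs)
  have hXs' : X (sr s') ≤ VJ cs h X J := RGD.le_Sup (sr_mem_NotJ hs')
  have hXr : X r ≤ VJ cs h X J := RGD.le_Sup hrN
  let f : X (sr s) × X (sr s') × X r → VJ cs h X J :=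
    fun c => ⟨(c.1 : Y) * ((c.2.1 : Y) * c.2.2), mul_mem (hXs c.1.2) (mul_mem (hXs' c.2.1.2) (hXr c.2.2.2))⟩
  have hV1 : X (sr s') ≤ RGD.Sup X (RGD.PosNe cs h s) :=
    RGD.le_Sup ⟨isRoot_sr cs h s', sr_nonneg s', fun e => hss (by
      have := congrFun e s
      rw [sr_self] at this
      by_contra hne
      rw [sr_ne hne] at this
      exact absurd this (by norm_num))⟩
  have hV2 : X r ≤ RGD.Sup X (RGD.PosNe cs h s) := RGD.le_Sup ⟨hr, hrN.2.1, hr1⟩
  have hinj : Function.Injective f := by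
    rintro ⟨a, b, c⟩ ⟨a', b', c'⟩ he
    have h1 : (a : Y) * ((b : Y) * c) = (a' : Y) * ((b' : Y) * c') := congrArg Subtype.val he
    have h2 : (a' : Y)⁻¹ * a = ((b' : Y) * c') * ((b : Y) * c)⁻¹ := by
      have : (a' : Y)⁻¹ * ((a : Y) * ((b : Y) * c)) * ((b : Y) * c)⁻¹ =
          (a' : Y)⁻¹ * ((a' : Y) * ((b' : Y) * c')) * ((b : Y) * c)⁻¹ := by rw [h1]
      calc (a' : Y)⁻¹ * a = (a' : Y)⁻¹ * ((a : Y) * ((b : Y) * c)) * ((b : Y) * c)⁻¹ := by group
        _ = (a' : Y)⁻¹ * ((a' : Y) * ((b' : Y) * c')) * ((b : Y) * c)⁻¹ := this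
        _ = _ := by group
    have h3 : (a' : Y)⁻¹ * a = 1 := by
      refine eq_one_of_mem_PosNe R (mul_mem (inv_mem a'.2) a.2) ?_
      rw [h2]
      exact mul_mem (mul_mem (hV1 b'.2) (hV2 c'.2)) (inv_mem (mul_mem (hV1 b.2) (hV2 c.2)))
    have h4 : (a' : Y) = a := inv_mul_eq_one.1 h3
    rw [← h4, mul_right_inj] at h1
    have h5 : (b' : Y)⁻¹ * b = c' * (c : Y)⁻¹ := by
      calc (b' : Y)⁻¹ * b = (b' : Y)⁻¹ * ((b : Y) * c) * (c : Y)⁻¹ := by group
        _ = (b' : Y)⁻¹ * ((b' : Y) * c') * (c : Y)⁻¹ := by rw [h1]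
        _ = _ := by group
    have h6 : (b' : Y)⁻¹ * b ∈ X (sr s') ⊓ X r :=
      Subgroup.mem_inf.2 ⟨mul_mem (inv_mem b'.2) b.2, by rw [h5]; exact mul_mem c'.2 (inv_mem c.2)⟩
    rw [X_inf_X R (isRoot_sr cs h s') hr (Ne.symm (hr2 s' (Ne.symm hss))), Subgroup.mem_bot] at h6
    have h7 : (b' : Y) = b := inv_mul_eq_one.1 h6
    rw [← h7, mul_right_inj] at h1
    simp only [Prod.mk.injEq]
    exact ⟨Subtype.ext h4.symm, Subtype.ext h7.symm, Subtype.ext h1⟩
  have h1 := Nat.card_le_card_of_injective f hinj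
  rw [Nat.card_prod, Nat.card_prod] at h1
  have h2 := two_le_card R hr
  calc 2 * (Nat.card (X (sr s)) * Nat.card (X (sr s'))) ≤
      Nat.card (X r) * (Nat.card (X (sr s)) * Nat.card (X (sr s'))) := Nat.mul_le_mul_right _ h2
    _ = Nat.card (X (sr s)) * (Nat.card (X (sr s')) * Nat.card (X r)) := by ring
    _ ≤ _ := h1

theorem two_mul_le_card_VJ [Finite W] [Finite Y] (R : RGD cs h p T n X) (J : Set I) {s j : I} (hs : s ∉ J) (hj : j ∈ J)
    (hM : M s j ≠ 2) : 2 * Nat.card (X (sr s)) ≤ Nat.card (VJ cs h X J) := by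
  obtain ⟨hr, hrN, hr1, hr2⟩ := root_facts R J hs hj hM
  set r := rep cs h (cs.simple j) (sr s) with hrdef
  have hXs : X (sr s) ≤ VJ cs h X J := RGD.le_Sup (sr_mem_NotJ hs)
  have hXr : X r ≤ VJ cs h X J := RGD.le_Sup hrN
  let f : X (sr s) × X r → VJ cs h X J := fun c => ⟨(c.1 : Y) * c.2, mul_mem (hXs c.1.2) (hXr c.2.2)⟩
  have hinj : Function.Injective f := by
    rintro ⟨a, c⟩ ⟨a', c'⟩ he
    have h1 : (a : Y) * c = (a' : Y) * c' := congrArg Subtype.val he
    have h5 : (a' : Y)⁻¹ * a = c' * (c : Y)⁻¹ := by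
      calc (a' : Y)⁻¹ * a = (a' : Y)⁻¹ * ((a : Y) * c) * (c : Y)⁻¹ := by group
        _ = (a' : Y)⁻¹ * ((a' : Y) * c') * (c : Y)⁻¹ := by rw [h1]
        _ = _ := by group
    have h6 : (a' : Y)⁻¹ * a ∈ X (sr s) ⊓ X r :=
      Subgroup.mem_inf.2 ⟨mul_mem (inv_mem a'.2) a.2, by rw [h5]; exact mul_mem c'.2 (inv_mem c.2)⟩
    rw [X_inf_X R (isRoot_sr cs h s) hr (Ne.symm hr1), Subgroup.mem_bot] at h6
    have h7 : (a' : Y) = a := inv_mul_eq_one.1 h6
    rw [← h7, mul_right_inj] at h1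
    simp only [Prod.mk.injEq]
    exact ⟨Subtype.ext h7.symm, Subtype.ext h1⟩
  have h1 := Nat.card_le_card_of_injective f hinj
  rw [Nat.card_prod] at h1
  have h2 := two_le_card R hr
  calc 2 * Nat.card (X (sr s)) ≤ Nat.card (X r) * Nat.card (X (sr s)) := Nat.mul_le_mul_right _ h2
    _ = Nat.card (X (sr s)) * Nat.card (X r) := by ring
    _ ≤ _ := h1

end Cfsg.Agent.H117.ParIdx
end
end
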