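import Cfsg.Agent.H117.Sys
import Cfsg.Agent.FooteOrth.Spin
import Cfsg.Agent.LieClassical.OrthFinite
import Cfsg.Agent.LieClassical.OrthForms
set_option linter.all false

-- part: H117/SN
section
/-!
# The spinor norm of `io a 1`
-/

set_option autoImplicit false

namespace Cfsg.Agent.H117

open QuadraticMap Cfsg.Agent.LieClassical.OrthCore Cfsg.Agent.LieClassical.OrthTrans
open Cfsg.Agent.LieClassical.OrthCount (hypSum hypSum_apply polar_hypSum)

section Transport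

variable {F V V' : Type*} [Field F] [AddCommGroup V] [Module F V] [AddCommGroup V'] [Module F V']

/-- transport of automorphisms -/
def ce (e : V ≃ₗ[F] V') : (V ≃ₗ[F] V) ≃* (V' ≃ₗ[F] V') where
  toFun g := (e.symm.trans g).trans e
  invFun g := (e.trans g).trans e.symm
  left_inv g := by
    ext x
    simp
  right_inv g := by
    ext x
    simp
  map_mul' g h := by
    ext x
    simp

theorem ce_apply (e : V ≃ₗ[F] V') (g : V ≃ₗ[F] V) (v : V) : ce e g (e v) = e (g v) := by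
  show e (g (e.symm (e v))) = e (g v)
  rw [LinearEquiv.symm_apply_apply]

theorem ce_eq (e : V ≃ₗ[F] V') {g : V ≃ₗ[F] V} {g' : V' ≃ₗ[F] V'} (h : ∀ v, e (g v) = g' (e v)) :
    ce e g = g' := by
  apply LinearEquiv.ext
  intro x
  obtain ⟨v, rfl⟩ := e.surjective x
  rw [ce_apply, h]

variable {Q : QuadraticForm F V} {Q' : QuadraticForm F V'} {e : V ≃ₗ[F] V'}

theorem polar_e (he : ∀ v, Q' (e v) = Q v) (u v : V) : polar Q' (e u) (e v) = polar Q u v := by
  simp only [polar, ← map_add, he]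

theorem ce_siegel (he : ∀ v, Q' (e v) = Q v) {u w : V} (hu : Q u = 0) (hw : polar Q u w = 0)
    (hu' : Q' (e u) = 0) (hw' : polar Q' (e u) (e w) = 0) :
    ce e (siegel Q u w hu hw) = siegel Q' (e u) (e w) hu' hw' := by
  apply ce_eq
  intro v
  rw [siegel_apply, siegel_apply, polar_e he, polar_e he, he]
  simp only [map_add, map_sub, map_smul]

theorem ce_refl (he : ∀ v, Q' (e v) = Q v) {v : V} (hv : Q v ≠ 0) (hv' : Q' (e v) ≠ 0) :
    ce e (refl Q v hv) = refl Q' (e v) hv' := by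
  apply ce_eq
  intro x
  rw [refl_apply, refl_apply, polar_e he, he]
  simp only [map_sub, map_smul]

theorem ce_mem_E (he : ∀ v, Q' (e v) = Q v) {g : V ≃ₗ[F] V} (hg : g ∈ E Q) : ce e g ∈ E Q' := by
  induction hg using Subgroup.closure_induction with
  | mem x hx =>
    obtain ⟨u, w, hu, hw, rfl⟩ := hx
    rw [ce_siegel he hu hw (by rw [he, hu]) (by rw [polar_e he, hw])]
    exact siegel_mem_E _ _
  | one => rw [map_one]; exact Subgroup.one_mem _
  | mul x y _ _ hx hy => rw [map_mul]; exact (E Q').mul_mem hx hy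
  | inv x _ hx => rw [map_inv]; exact (E Q').inv_mem hx

theorem map_E (he : ∀ v, Q' (e v) = Q v) : (E Q).map (ce e).toMonoidHom = E Q' := by
  apply le_antisymm
  · rintro _ ⟨g, hg, rfl⟩
    exact ce_mem_E he hg
  · intro g hg
    refine ⟨(ce e).symm g, ?_, (ce e).apply_symm_apply g⟩
    have he' : ∀ v, Q (e.symm v) = Q' v := fun v => by rw [← he, LinearEquiv.apply_symm_apply]
    have h1 := ce_mem_E he' hg
    have h2 : (ce e).symm g = ce e.symm g := rfl
    rw [SetLike.mem_coe, h2]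
    exact h1

theorem nondeg_e (he : ∀ v, Q' (e v) = Q v) (h : Nondeg Q) : Nondeg Q' := by
  intro x hx
  obtain ⟨v, rfl⟩ := e.surjective x
  rw [h v fun y => by rw [← polar_e he]; exact hx _, map_zero]

end Transport

section

variable {F A : Type*} [Field F] [AddCommGroup A] [Module F A] {Q : QuadraticForm F A}

/-- `io a⁻¹ 1` is a product of two reflections -/
theorem io_eq_refl (a : Fˣ) (h1 : hypSum Q ((0, 1, -1) : A × F × F) ≠ 0)
    (h2 : hypSum Q ((0, 1, -(a : F)) : A × F × F) ≠ 0) :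
    io a⁻¹ (1 : A ≃ₗ[F] A) = refl (hypSum Q) (0, 1, -(a : F)) h2 * refl (hypSum Q) (0, 1, -1) h1 := by
  have ha : (a : F) ≠ 0 := a.ne_zero
  apply LinearEquiv.ext
  rintro ⟨w, x, y⟩
  rw [LinearEquiv.mul_apply, refl_apply, refl_apply, io_apply]
  simp only [polar_hypSum, hypSum_apply]
  ext
  · simp
  · simp
    field_simp
    ring
  · simp
    field_simp
    ring

theorem isSquare_of_io_mem [Finite F] [FiniteDimensional F A] (h2 : (2 : F) ≠ 0) (hQ : Nondeg (hypSum Q))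
    (hd : 5 ≤ Module.finrank F (A × F × F)) {a : Fˣ} (ha : io a (1 : A ≃ₗ[F] A) ∈ E (hypSum Q)) :
    IsSquare (a : F) := by
  classical
  have := Fintype.ofFinite F
  obtain ⟨d, hdd⟩ : ∃ d, Module.finrank F (A × F × F) = d := ⟨_, rfl⟩
  let e : (A × F × F) ≃ₗ[F] (Fin d → F) := (Module.finBasisOfFinrankEq F (A × F × F) hdd).equivFun
  let Q' : QuadraticForm F (Fin d → F) := (hypSum Q).comp e.symm.toLinearMap
  have he : ∀ v, Q' (e v) = hypSum Q v := by
    intro v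
    show hypSum Q (e.symm (e v)) = _
    rw [LinearEquiv.symm_apply_apply]
  have hQ' : Nondeg Q' := nondeg_e he hQ
  have hG : Good Q' := by
    apply Cfsg.Agent.LieClassical.OrthFinite.good_of_finite hQ'
    rw [Module.finrank_fin_fun, ← hdd]
    exact hd
  have hv1 : hypSum Q ((0, 1, -1) : A × F × F) = -1 := by rw [hypSum_apply]; simp
  have hv2 : hypSum Q ((0, 1, -(a : F)) : A × F × F) = -(a : F) := by rw [hypSum_apply]; simp
  have hn1 : hypSum Q ((0, 1, -1) : A × F × F) ≠ 0 := by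
    rw [hv1]
    exact neg_ne_zero.2 one_ne_zero
  have hn2 : hypSum Q ((0, 1, -(a : F)) : A × F × F) ≠ 0 := by
    rw [hv2]
    exact neg_ne_zero.2 a.ne_zero
  have h3 : io a⁻¹ (1 : A ≃ₗ[F] A) ∈ E (hypSum Q) := by
    have := (E _).inv_mem ha
    rwa [io_inv, inv_one] at this
  have h4 := ce_mem_E he h3
  have hn1' : Q' (e (0, 1, -1)) ≠ 0 := by rw [he]; exact hn1
  have hn2' : Q' (e (0, 1, -(a : F))) ≠ 0 := by rw [he]; exact hn2
  rw [io_eq_refl a hn1 hn2, map_mul, ce_refl he hn2 hn2', ce_refl he hn1 hn1'] at h4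
  have h5 := ((Cfsg.Agent.FooteOrth.mem_E_iff hG h2 (E_le_O h4)).1 h4).2
  have h6 : (⟨refl Q' (e (0, 1, -(a : F))) hn2' * refl Q' (e (0, 1, -1)) hn1', E_le_O h4⟩ : O Q') =
      ⟨refl Q' (e (0, 1, -(a : F))) hn2', refl_mem_O hn2'⟩ * ⟨refl Q' (e (0, 1, -1)) hn1', refl_mem_O hn1'⟩ :=
    rfl
  rw [h6, map_mul, Cfsg.Agent.FooteOrth.sg_refl h2, Cfsg.Agent.FooteOrth.sg_refl h2] at h5
  have h7 : Q' (e (0, 1, -(a : F))) = -(a : F) := by rw [he, hv2]
  have h8 : Q' (e (0, 1, -1)) = -1 := by rw [he, hv1]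
  simp only [h7, h8] at h5
  have ha0 : (a : F) ≠ 0 := a.ne_zero
  have h9 : (a : F) = -(a : F) * -1 := by ring
  by_cases hs1 : IsSquare (-(a : F))
  · by_cases hs2 : IsSquare (-1 : F)
    · rw [h9]
      exact hs1.mul hs2
    · rw [if_pos hs1, if_neg hs2] at h5
      exact absurd h5 (by decide)
  · by_cases hs2 : IsSquare (-1 : F)
    · rw [if_neg hs1, if_pos hs2] at h5
      exact absurd h5 (by decide)
    · rw [← quadraticChar_one_iff_isSquare ha0, h9, map_mul,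
        quadraticChar_neg_one_iff_not_isSquare.2 hs1, quadraticChar_neg_one_iff_not_isSquare.2 hs2]
      rfl

end

end Cfsg.Agent.H117
end

-- part: H117/Perf
section
/-!
# Perfectness and membership criteria
-/

set_option autoImplicit false

namespace Cfsg.Agent.H117

open QuadraticMap Cfsg.Agent.LieClassical.OrthCore Cfsg.Agent.LieClassical.OrthTrans
open Cfsg.Agent.LieClassical.OrthCount (hypSum hypSum_apply polar_hypSum)
open scoped commutatorElement

section Perf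

variable {F W : Type*} [Field F] [AddCommGroup W] [Module F W] {Q : QuadraticForm F W}

theorem siegel_smul {u w : W} (hu : Q u = 0) (hw : polar Q u w = 0) (c : F) (hu' : Q (c • u) = 0)
    (hw' : polar Q (c • u) w = 0) (hw'' : polar Q u (c • w) = 0) :
    siegel Q (c • u) w hu' hw' = siegel Q u (c • w) hu hw'' := by
  ext v
  rw [siegel_apply, siegel_apply, polar_smul_left, polar_smul_left, QuadraticMap.map_smul]
  simp only [smul_eq_mul]
  module

theorem siegel_add_smul {u w : W} (hu : Q u = 0) (hw : polar Q u w = 0) (c : F)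
    (hw' : polar Q u (w + c • u) = 0) : siegel Q u (w + c • u) hu hw' = siegel Q u w hu hw := by
  ext v
  have h1 : polar Q w u = 0 := by rw [polar_comm]; exact hw
  rw [siegel_apply, siegel_apply, polar_add_left, polar_smul_left, Q_add, QuadraticMap.map_smul,
    polar_smul_right, hu, h1]
  simp only [smul_eq_mul]
  module

/-- `E` is perfect -/
theorem E_perf [Fintype F] (h2 : (2 : F) ≠ 0) (hq : 5 ≤ Fintype.card F) [FiniteDimensional F W]
    (hQ : Nondeg Q) {w0 : W} (h0 : Q w0 ≠ 0) : E (hypSum Q) ≤ ⁅E (hypSum Q), E (hypSum Q)⁆ := by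
  classical
  -- a unit with `a ^ 2 ≠ 1`
  obtain ⟨a, ha⟩ : ∃ a : Fˣ, (a : F) ^ 2 ≠ 1 := by
    by_contra hc
    push Not at hc
    have h1 : (Finset.univ : Finset F) ⊆ {0, 1, -1} := by
      intro x _
      by_cases hx : x = 0
      · rw [hx]; simp
      · have h3 := hc (Units.mk0 x hx)
        have h4 : x ^ 2 = 1 ^ 2 := by rw [one_pow]; exact h3
        rcases sq_eq_sq_iff_eq_or_eq_neg.1 h4 with h3 | h3 <;> rw [h3] <;> simp
    have h3 := Finset.card_le_card h1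
    have h4 : ({0, 1, -1} : Finset F).card ≤ 3 := Finset.card_le_three
    rw [Finset.card_univ] at h3
    omega
  have hQ' : Nondeg (hypSum Q) := nondeg_hypSum hQ
  nth_rewrite 1 [E]
  rw [Subgroup.closure_le]
  rintro _ ⟨u, w, hu, hw, rfl⟩
  by_cases hu0 : u = 0
  · subst hu0
    have : siegel (hypSum Q) 0 w hu hw = 1 := by
      ext v
      · rw [siegel_apply]; simp
      · rw [siegel_apply]; simp
      · rw [siegel_apply]; simp
    rw [this]
    exact Subgroup.one_mem _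
  obtain ⟨y, hy⟩ := exists_hyp hQ' hu hu0
  -- make `w` orthogonal to `y`
  set w' := w + (-(polar (hypSum Q) y w)) • u with hw'
  have hw1 : polar (hypSum Q) u w' = 0 := by
    rw [hw', polar_add_right, polar_smul_right, polar_self_of_sing hu, hw]
    simp
  have hw2 : polar (hypSum Q) y w' = 0 := by
    rw [hw', polar_add_right, polar_smul_right, hy.pair']
    simp
  have e1 : siegel (hypSum Q) u w hu hw = siegel (hypSum Q) u w' hu hw1 :=
    (siegel_add_smul hu hw _ hw1).symm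
  rw [e1]
  obtain ⟨g, hg, g1, g2⟩ := SO_to_hyp h2 hQ h0 hy
  have hgO := SO_le_O hg
  -- the torus element
  set t := g⁻¹ * io (a ^ 2) 1 * g with ht
  have htE : t ∈ E (hypSum Q) := by
    have := conj_mem_E (Q := hypSum Q) (g := g⁻¹) ((O _).inv_mem hgO) (io_sq_mem h0 a)
    rwa [inv_inv] at this
  have hgi : ∀ x, g⁻¹ (g x) = x := fun x => LinearEquiv.symm_apply_apply g x
  have ht1 : t u = ((a : F) ^ 2) • u := by
    rw [ht, LinearEquiv.mul_apply, LinearEquiv.mul_apply, g1]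
    have h3 : io (a ^ 2) (1 : W ≃ₗ[F] W) (e0 F W) = ((a : F) ^ 2) • e0 F W := by
      rw [smul_e0, e0, io_apply]
      simp
    rw [h3, map_smul, ← g1, hgi]
  have ht2 : ∀ x, polar (hypSum Q) u x = 0 → polar (hypSum Q) y x = 0 → t x = x := by
    intro x hx hx'
    rw [ht, LinearEquiv.mul_apply, LinearEquiv.mul_apply]
    have h3 : io (a ^ 2) (1 : W ≃ₗ[F] W) (g x) = g x := by
      rw [← polar_map hgO, g1, polar_hypSum] at hx
      rw [← polar_map hgO, g2, polar_hypSum] at hx'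
      generalize g x = z at hx hx' ⊢
      obtain ⟨x1, x2, x3⟩ := z
      simp only [e0, polar_zero_left] at hx
      simp only [f0, polar_zero_left] at hx'
      have e3 : x3 = 0 := by simpa using hx
      have e2 : x2 = 0 := by simpa using hx'
      rw [e3, e2, io_apply]
      simp
    rw [h3, hgi]
  -- the preimage
  have hd : (a : F) ^ 2 - 1 ≠ 0 := sub_ne_zero.2 ha
  set d : F := ((a : F) ^ 2 - 1)⁻¹ with hdd
  have hs1 : polar (hypSum Q) u (d • w') = 0 := by rw [polar_smul_right, hw1, smul_zero]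
  have hs2 : polar (hypSum Q) y (d • w') = 0 := by rw [polar_smul_right, hw2, smul_zero]
  have hs3 : polar (hypSum Q) u (-(d • w')) = 0 := by rw [polar_neg_right, hs1, neg_zero]
  have hs4 : polar (hypSum Q) u ((a : F) ^ 2 • (d • w')) = 0 := by rw [polar_smul_right, hs1, smul_zero]
  have hmem : ⁅t, siegel (hypSum Q) u (d • w') hu hs1⁆ ∈ ⁅E (hypSum Q), E (hypSum Q)⁆ :=
    Subgroup.commutator_mem_commutator htE (siegel_mem_E _ _)
  have hu1 : hypSum Q (t u) = 0 := by rw [mem_O.1 (E_le_O htE), hu]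
  have hs5 : polar (hypSum Q) (t u) (t (d • w')) = 0 := by rw [polar_map (E_le_O htE), hs1]
  have e2 : ⁅t, siegel (hypSum Q) u (d • w') hu hs1⁆ = siegel (hypSum Q) u w' hu hw1 := by
    rw [commutatorElement_def, siegel_conj (E_le_O htE) hu hs1 hu1 hs5, siegel_inv hu hs1 hs3]
    have e3 : siegel (hypSum Q) (t u) (t (d • w')) hu1 hs5 =
        siegel (hypSum Q) u ((a : F) ^ 2 • (d • w')) hu hs4 := by
      have hu2 : hypSum Q ((a : F) ^ 2 • u) = 0 := by rw [QuadraticMap.map_smul, hu, smul_zero]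
      have hs6 : polar (hypSum Q) ((a : F) ^ 2 • u) (d • w') = 0 := by
        rw [polar_smul_left, hs1, smul_zero]
      rw [← siegel_smul hu hs1 ((a : F) ^ 2) hu2 hs6 hs4]
      apply LinearEquiv.ext
      intro v
      rw [siegel_apply, siegel_apply, ht1, ht2 _ hs1 hs2]
    rw [e3]
    have hs7 : polar (hypSum Q) u ((a : F) ^ 2 • (d • w') + -(d • w')) = 0 := by
      rw [polar_add_right, hs4, hs3, add_zero]
    rw [siegel_mul hu hs4 hs3 hs7]
    have e4 : (a : F) ^ 2 • (d • w') + -(d • w') = w' := by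
      rw [← sub_eq_add_neg, smul_smul, ← sub_smul]
      have : (a : F) ^ 2 * d - d = 1 := by
        rw [hdd]
        field_simp
      rw [this, one_smul]
    apply LinearEquiv.ext
    intro v
    rw [siegel_apply, siegel_apply, e4]
  rw [SetLike.mem_coe, ← e2]
  exact hmem

end Perf

section Mem

variable {F W : Type*} [Field F] [AddCommGroup W] [Module F W] [Fintype F] {Q : QuadraticForm F W}

/-- membership of the smaller torus element implies that the parameter is a square -/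
theorem isSquare_of_io_io (h2 : (2 : F) ≠ 0) {k : ℕ} (hT : TF (k + 1) Q) {c : Fˣ}
    (hc : io 1 (io c (1 : W ≃ₗ[F] W)) ∈ E (hypSum (hypSum Q))) : IsSquare (c : F) := by
  have hfd := hT.fd
  have hT1 := hT.step h2
  have hT2 := hT1.step h2
  have h1 : io c (1 : (W × F × F) ≃ₗ[F] (W × F × F)) ∈ E (hypSum (hypSum Q)) := by
    have h3 := (E _).mul_mem (zz_mem Q c) ((E _).inv_mem hc)
    rw [io_inv, io_inv, io_mul, io_mul, inv_one, inv_one, mul_one, mul_inv_cancel, mul_one, io_one] at h3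
    exact h3
  refine isSquare_of_io_mem h2 hT2.nondeg ?_ h1
  rw [hT2.rank]
  omega

theorem mem_E_of_io (h2 : (2 : F) ≠ 0) {k : ℕ} (hT : TF (k + 1) Q)
    {s : (W × F × F) ≃ₗ[F] (W × F × F)} (hs : s ∈ SO (hypSum Q)) (h : io 1 s ∈ E (hypSum (hypSum Q))) :
    s ∈ E (hypSum Q) := by
  have hfd := hT.fd
  obtain ⟨w0, hw0⟩ := hT.ns
  have hne : Q w0 ≠ 0 := by rw [hw0]; exact one_ne_zero
  obtain ⟨e, he, c, rfl⟩ := SO_decomp h2 hT.nondeg hne hT.dd hs
  have h1 : io 1 (io c (1 : W ≃ₗ[F] W)) ∈ E (hypSum (hypSum Q)) := by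
    have h3 := (E _).mul_mem ((E _).inv_mem (io_mem_E he)) h
    rw [io_inv, io_mul, inv_one, mul_one, inv_mul_cancel_left] at h3
    exact h3
  obtain ⟨d, hd⟩ := isSquare_of_io_io h2 hT h1
  have hd0 : d ≠ 0 := by
    rintro rfl
    rw [mul_zero] at hd
    exact c.ne_zero hd
  have hc : c = (Units.mk0 d hd0) ^ 2 := by
    apply Units.ext
    rw [hd, Units.val_pow_eq_pow_val, Units.val_mk0, pow_two]
  rw [hc]
  exact (E _).mul_mem he (io_sq_mem hne _)

/-- one level deeper -/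
theorem mem_E_of_io' (h2 : (2 : F) ≠ 0) {k : ℕ} (hT : TF k Q)
    {s : (W × F × F) ≃ₗ[F] (W × F × F)} (hs : s ∈ SO (hypSum Q))
    (h : io 1 s ∈ E (hypSum (hypSum Q))) : s ∈ E (hypSum Q) := by
  have hfd := hT.fd
  have hT1 := hT.step h2
  obtain ⟨w0, hw0⟩ := hT.ns
  have hne : Q w0 ≠ 0 := by rw [hw0]; exact one_ne_zero
  obtain ⟨e, he, c, rfl⟩ := SO_decomp h2 hT.nondeg hne hT.dd hs
  have h1 : io 1 (io c (1 : W ≃ₗ[F] W)) ∈ E (hypSum (hypSum Q)) := by
    have h3 := (E _).mul_mem ((E _).inv_mem (io_mem_E he)) h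
    rw [io_inv, io_mul, inv_one, mul_one, inv_mul_cancel_left] at h3
    exact h3
  -- move to the next level
  have h4 : io 1 (io c (1 : (W × F × F) ≃ₗ[F] (W × F × F))) ∈ E (hypSum (hypSum (hypSum Q))) := by
    have h5 : io 1 (io 1 (io c (1 : W ≃ₗ[F] W))) ∈ E (hypSum (hypSum (hypSum Q))) := io_mem_E h1
    have h6 : io 1 (io c (io c⁻¹ (1 : W ≃ₗ[F] W))) ∈ E (hypSum (hypSum (hypSum Q))) :=
      io_mem_E (hh_mem Q c)
    have h7 := (E _).mul_mem h6 h5
    rw [io_mul, io_mul, io_mul, mul_one, mul_one, mul_one, inv_mul_cancel, io_one] at h7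
    exact h7
  obtain ⟨d, hd⟩ := isSquare_of_io_io h2 hT1 h4
  have hd0 : d ≠ 0 := by
    rintro rfl
    rw [mul_zero] at hd
    exact c.ne_zero hd
  have hc : c = (Units.mk0 d hd0) ^ 2 := by
    apply Units.ext
    rw [hd, Units.val_pow_eq_pow_val, Units.val_mk0, pow_two]
  rw [hc]
  exact (E _).mul_mem he (io_sq_mem hne _)

end Mem

end Cfsg.Agent.H117
end

-- part: H117/Stab
section
/-!
# The stabiliser of a singular weight acts trivially on a one-dimensional weight space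
-/

set_option autoImplicit false

namespace Cfsg.Agent.H117

open QuadraticMap Cfsg.Agent.LieClassical.OrthCore Cfsg.Agent.LieClassical.OrthTrans Module
open Cfsg.Agent.LieClassical.OrthCount (hypSum hypSum_apply polar_hypSum)
open scoped commutatorElement

theorem exists_unit_sq_ne {F : Type*} [Field F] [Fintype F] (hq : 5 ≤ Fintype.card F) :
    ∃ a : Fˣ, (a : F) ^ 2 ≠ 1 := by
  classical
  by_contra hc
  push Not at hc
  have h1 : (Finset.univ : Finset F) ⊆ {0, 1, -1} := by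
    intro x _
    by_cases hx : x = 0
    · rw [hx]; simp
    · have h3 := hc (Units.mk0 x hx)
      have h4 : x ^ 2 = 1 ^ 2 := by rw [one_pow]; exact h3
      rcases sq_eq_sq_iff_eq_or_eq_neg.1 h4 with h3 | h3 <;> rw [h3] <;> simp
  have h3 := Finset.card_le_card h1
  have h4 : ({0, 1, -1} : Finset F).card ≤ 3 := Finset.card_le_three
  rw [Finset.card_univ] at h3
  omega

section

variable {F W' : Type*} [Field F] [AddCommGroup W'] [Module F W'] [Fintype F] {Q' : QuadraticForm F W'}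
  {V : Type*} [AddCommGroup V] [Module ℂ V] (P : PRep (E (hypSum (hypSum (hypSum Q')))) V)
  {ψ : AddChar F ℂ} {b0 : V}

theorem stab_scalar (h1 : ∀ x ∈ wt (hypSum (hypSum Q')) ψ (TT P (hypSum (hypSum Q'))) (0, 1, 0), ∃ c : ℂ, x = c • b0)
    (hb : b0 ∈ wt (hypSum (hypSum Q')) ψ (TT P (hypSum (hypSum Q'))) (0, 1, 0)) (hb0 : b0 ≠ 0) {a : Fˣ}
    {s : ((W' × F × F) × F × F) ≃ₗ[F] ((W' × F × F) × F × F)} (hs : s ∈ O (hypSum (hypSum Q')))
    (hg : io a s ∈ E (hypSum (hypSum (hypSum Q')))) (he : (a : F)⁻¹ • s (0, 1, 0) = (0, 1, 0)) :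
    ∃ c : ℂ, c ≠ 0 ∧ P.R (io a s) b0 = c • b0 := by
  have h2 := io_wt P le_rfl hs hg hb
  rw [he] at h2
  obtain ⟨c, hc⟩ := h1 _ h2
  refine ⟨c, ?_, hc⟩
  rintro rfl
  rw [zero_smul] at hc
  exact P.ne_zero hg hb0 hc

theorem sE_fix (hq : 5 ≤ Fintype.card F)
    (h1 : ∀ x ∈ wt (hypSum (hypSum Q')) ψ (TT P (hypSum (hypSum Q'))) (0, 1, 0), ∃ c : ℂ, x = c • b0)
    (hb : b0 ∈ wt (hypSum (hypSum Q')) ψ (TT P (hypSum (hypSum Q'))) (0, 1, 0)) (hb0 : b0 ≠ 0)
    (w : W' × F × F) : P.R (io 1 (sE (hypSum Q') w)) b0 = b0 := by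
  obtain ⟨a, ha⟩ := exists_unit_sq_ne hq
  have ha1 : (a : F) - 1 ≠ 0 := by
    intro h
    apply ha
    rw [sub_eq_zero.1 h, one_pow]
  set w1 : W' × F × F := ((a : F) - 1)⁻¹ • w with hw1
  have e0 : (a : F) • w1 = w + w1 := by
    rw [hw1, smul_smul]
    have : (a : F) * ((a : F) - 1)⁻¹ = 1 + ((a : F) - 1)⁻¹ := by
      field_simp
      ring
    rw [this, add_smul, one_smul]
  have hz := zz_mem (hypSum Q') a
  have hs := fun w => io_mem_E (sE_mem (hypSum Q') w)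
  have he : ∀ w : W' × F × F, (((1 : Fˣ) : F))⁻¹ • sE (hypSum Q') w (0, 1, 0) = (0, 1, 0) := by
    intro w
    rw [sE_apply]
    simp
  have he' : (a : F)⁻¹ • io a (1 : (W' × F × F) ≃ₗ[F] (W' × F × F)) (0, 1, 0) = (0, 1, 0) := by
    rw [io_apply]
    simp
  obtain ⟨c1, hc1, e1⟩ := stab_scalar P h1 hb hb0 (E_le_O (sE_mem (hypSum Q') w1)) (hs w1) (he w1)
  obtain ⟨c2, hc2, e2⟩ := stab_scalar P h1 hb hb0 (io_mem_O.2 (O _).one_mem) hz he'
  have e3 : io a (io a 1) * io 1 (sE (hypSum Q') w1) =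
      io 1 (sE (hypSum Q') ((a : F) • w1)) * io a (io a 1) := by
    rw [io_mul, io_mul, io_sE (O _).one_mem]
    simp
  have e4 := P.swap hz (hs w1) (hs _) hz e3 b0
  rw [e1, e2, map_smul, map_smul, e2, e0, sE_add] at e4
  have e5 : io 1 (sE (hypSum Q') w * sE (hypSum Q') w1) =
      io 1 (sE (hypSum Q') w) * io 1 (sE (hypSum Q') w1) := by rw [io_mul, mul_one]
  rw [e5, P.mul' (hs _) (hs _), e1, map_smul, smul_smul, smul_smul, mul_comm c2 c1] at e4
  have h3 := smul_right_injective V (mul_ne_zero hc1 hc2) e4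
  exact h3.symm

theorem EW_fix (h2 : (2 : F) ≠ 0) (hq : 5 ≤ Fintype.card F) {k : ℕ} (hT : TF k Q')
    (h1 : ∀ x ∈ wt (hypSum (hypSum Q')) ψ (TT P (hypSum (hypSum Q'))) (0, 1, 0), ∃ c : ℂ, x = c • b0)
    (hb : b0 ∈ wt (hypSum (hypSum Q')) ψ (TT P (hypSum (hypSum Q'))) (0, 1, 0)) (hb0 : b0 ≠ 0)
    {x : (W' × F × F) ≃ₗ[F] (W' × F × F)} (hx : x ∈ E (hypSum Q')) : P.R (io 1 (io 1 x)) b0 = b0 := by
  have hfd := hT.fd
  obtain ⟨w0, hw0⟩ := hT.ns
  have hne : Q' w0 ≠ 0 := by rw [hw0]; exact one_ne_zero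
  have hG : ∀ x : (W' × F × F) ≃ₗ[F] (W' × F × F), x ∈ E (hypSum Q') →
      io 1 (io 1 x) ∈ E (hypSum (hypSum (hypSum Q'))) := fun x hx => io_mem_E (io_mem_E hx)
  have hmul : ∀ x y : (W' × F × F) ≃ₗ[F] (W' × F × F), io 1 (io 1 (x * y)) = io 1 (io 1 x) * io 1 (io 1 y) := by
    intro x y
    rw [io_mul, io_mul, mul_one]
  have hinv : ∀ x : (W' × F × F) ≃ₗ[F] (W' × F × F), io 1 (io 1 x⁻¹) = (io 1 (io 1 x))⁻¹ := by
    intro x
    rw [io_inv, io_inv, inv_one]
  let K : Subgroup ((W' × F × F) ≃ₗ[F] (W' × F × F)) :=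
    { carrier := {x | x ∈ E (hypSum Q') ∧ P.R (io 1 (io 1 x)) b0 = b0}
      mul_mem' := by
        rintro x y ⟨hx, hx'⟩ ⟨hy, hy'⟩
        refine ⟨(E _).mul_mem hx hy, ?_⟩
        rw [hmul, P.mul' (hG x hx) (hG y hy), hy', hx']
      one_mem' := ⟨(E _).one_mem, by rw [io_one, io_one, P.one']⟩
      inv_mem' := by
        rintro x ⟨hx, hx'⟩
        refine ⟨(E _).inv_mem hx, ?_⟩
        rw [hinv]
        conv_lhs => rw [← hx']
        exact P.inv' (hG x hx) _ }
  have hsc : ∀ x : (W' × F × F) ≃ₗ[F] (W' × F × F), x ∈ E (hypSum Q') →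
      ∃ c : ℂ, c ≠ 0 ∧ P.R (io 1 (io 1 x)) b0 = c • b0 := by
    intro x hx
    refine stab_scalar P h1 hb hb0 (io_mem_O.2 (E_le_O hx)) (hG x hx) ?_
    rw [io_apply]
    simp
  have hK : ⁅E (hypSum Q'), E (hypSum Q')⁆ ≤ K := by
    rw [Subgroup.commutator_le]
    intro x hx y hy
    have hc : ⁅x, y⁆ ∈ E (hypSum Q') := by
      rw [commutatorElement_def]
      exact (E _).mul_mem ((E _).mul_mem ((E _).mul_mem hx hy) ((E _).inv_mem hx)) ((E _).inv_mem hy)
    refine ⟨hc, ?_⟩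
    obtain ⟨c, hc0, ec⟩ := hsc x hx
    obtain ⟨d, hd0, ed⟩ := hsc y hy
    obtain ⟨e, he0, ee⟩ := hsc _ hc
    have h3 : ⁅x, y⁆ * (y * x) = x * y := by
      rw [commutatorElement_def]
      group
    have h4 : P.R (io 1 (io 1 (⁅x, y⁆ * (y * x)))) b0 = (c * d) • P.R (io 1 (io 1 ⁅x, y⁆)) b0 := by
      rw [hmul, P.mul' (hG _ hc) (hG _ ((E _).mul_mem hy hx)), hmul y x, P.mul' (hG y hy) (hG x hx), ec,
        map_smul, ed, map_smul, map_smul, smul_smul]
    have h5 : P.R (io 1 (io 1 (x * y))) b0 = (c * d) • b0 := by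
      rw [hmul x y, P.mul' (hG x hx) (hG y hy), ed, map_smul, ec, smul_smul, mul_comm]
    rw [h3, h5] at h4
    exact (smul_right_injective V (mul_ne_zero hc0 hd0) h4).symm
  exact (hK (E_perf h2 hq hT.nondeg hne hx)).2

/-- the stabiliser in `E` of the weight fixes `b0` -/
theorem stab_fix (h2 : (2 : F) ≠ 0) (hq : 5 ≤ Fintype.card F) {k : ℕ} (hT : TF k Q')
    (h1 : ∀ x ∈ wt (hypSum (hypSum Q')) ψ (TT P (hypSum (hypSum Q'))) (0, 1, 0), ∃ c : ℂ, x = c • b0)
    (hb : b0 ∈ wt (hypSum (hypSum Q')) ψ (TT P (hypSum (hypSum Q'))) (0, 1, 0)) (hb0 : b0 ≠ 0)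
    {s : ((W' × F × F) × F × F) ≃ₗ[F] ((W' × F × F) × F × F)} (hs : s ∈ E (hypSum (hypSum Q')))
    (he : s (0, 1, 0) = (0, 1, 0)) : P.R (io 1 s) b0 = b0 := by
  have hfd := hT.fd
  have hsO := E_le_O hs
  -- image of the second vector
  obtain ⟨w, hw⟩ : ∃ w, s (0, 0, 1) = (w, -(hypSum Q' w), 1) := by
    have h3 := polar_map hsO (0, 1, 0) (0, 0, 1)
    have h4 := mem_O.1 hsO (0, 0, 1)
    have h3' : polar (hypSum (hypSum Q')) (0, 1, 0) (0, 0, 1) = 1 := (hyp0 (hypSum Q')).pair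
    rw [he, h3'] at h3
    generalize s (0, 0, 1) = z at h3 h4 ⊢
    obtain ⟨w, x, y⟩ := z
    rw [polar_hypSum] at h3
    have hy : y = 1 := by simpa using h3
    subst hy
    have h5 : hypSum Q' w + x * 1 = 0 := by
      rw [hypSum_apply, hypSum_apply (hypSum Q') (0, 0, 1)] at h4
      simpa using h4
    refine ⟨w, ?_⟩
    have hx : x = -(hypSum Q' w) := by linear_combination h5
    rw [hx]
  have hsE : ∀ w, sE (hypSum Q') w ∈ E (hypSum (hypSum Q')) := fun w => sE_mem _ w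
  set s' := sE (hypSum Q') (-w) * s with hs'
  have hs'E : s' ∈ E (hypSum (hypSum Q')) := (E _).mul_mem (hsE _) hs
  have e1 : s' (e0 F (W' × F × F)) = e0 F (W' × F × F) := by
    rw [e0, hs', LinearEquiv.mul_apply, he, sE_apply]
    simp
  have e2 : s' (f0 F (W' × F × F)) = f0 F (W' × F × F) := by
    rw [f0, hs', LinearEquiv.mul_apply, hw, sE_apply, polar_neg_left, polar_self', QuadraticMap.map_neg]
    ext
    · simp
    · simp
    · simp
    · simp only
      ring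
    · simp
  obtain ⟨t, ht, e3⟩ := exists_io_of_fix (E_le_O hs'E) e1 e2
  have htSO : t ∈ SO (hypSum Q') := by
    have := E_le_SO hs'E
    rw [e3] at this
    exact io_mem_SO.1 this
  have htE : t ∈ E (hypSum Q') := by
    rw [e3] at hs'E
    exact mem_E_of_io' h2 hT htSO hs'E
  have e4 : s = sE (hypSum Q') w * io 1 t := by
    rw [← e3, hs', ← mul_assoc, ← sE_add, add_neg_cancel, sE_zero, one_mul]
  have e5 : io 1 s = io 1 (sE (hypSum Q') w) * io 1 (io 1 t) := by rw [io_mul, mul_one, ← e4]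
  rw [e5, P.mul' (io_mem_E (hsE w)) (io_mem_E (io_mem_E htE)), EW_fix P h2 hq hT h1 hb hb0 htE,
    sE_fix P hq h1 hb hb0]

end

end Cfsg.Agent.H117
end

-- part: H117/Cnt
section
/-!
# Counting vectors of given norm class
-/

set_option autoImplicit false

namespace Cfsg.Agent.H117

open QuadraticMap Cfsg.Agent.LieClassical.OrthCore Cfsg.Agent.LieClassical.OrthTrans
open Cfsg.Agent.LieClassical.OrthCount (hypSum hypSum_apply polar_hypSum)

section

variable {F W : Type*} [Field F] [AddCommGroup W] [Module F W] [Fintype F] [Fintype W]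
  (Q : QuadraticForm F W)

open Classical in
/-- nonzero vectors whose norm is a nonzero square times `c` -/
noncomputable def cls (c : F) : Finset (W × F × F) :=
  Finset.univ.filter fun u => u ≠ 0 ∧ ∃ a : Fˣ, hypSum Q u = (a : F) ^ 2 * c

theorem mem_cls {c : F} {u : W × F × F} :
    u ∈ cls Q c ↔ u ≠ 0 ∧ ∃ a : Fˣ, hypSum Q u = (a : F) ^ 2 * c := by
  simp [cls]

theorem zero_notMem_cls {c : F} : (0 : W × F × F) ∉ cls Q c := by
  rw [mem_cls]
  exact fun h => h.1 rfl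

theorem card_cls_ns {c : F} (hc : c ≠ 0) :
    Fintype.card W * (Fintype.card F - 1) ^ 2 ≤ 2 * (cls Q c).card := by
  classical
  let f : W × Fˣ × Fˣ → W × F × F := fun p =>
    (p.1, (p.2.1 : F), (((p.2.2 : F) ^ 2 * c) - Q p.1) / (p.2.1 : F))
  have h1 : (Finset.univ : Finset (W × Fˣ × Fˣ)).image f ⊆ cls Q c := by
    intro u hu
    obtain ⟨⟨w, x, a⟩, -, rfl⟩ := Finset.mem_image.1 hu
    have hx : (x : F) ≠ 0 := x.ne_zero
    rw [mem_cls]
    refine ⟨?_, a, ?_⟩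
    · intro h
      have h3 : (x : F) = 0 := congrArg (fun z : W × F × F => z.2.1) h
      exact hx h3
    · rw [hypSum_apply]
      simp only [f]
      field_simp
      ring
  have h2 : (Finset.univ : Finset (W × Fˣ × Fˣ)).card ≤
      2 * ((Finset.univ : Finset (W × Fˣ × Fˣ)).image f).card := by
    apply Finset.card_le_mul_card_image
    intro b hb
    obtain ⟨⟨w, x, a⟩, -, rfl⟩ := Finset.mem_image.1 hb
    have h3 : (Finset.univ.filter fun p => f p = f (w, x, a)) ⊆ {(w, x, a), (w, x, -a)} := by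
      rintro ⟨w', x', a'⟩ h
      rw [Finset.mem_filter] at h
      have h4 := h.2
      have e1 : w' = w := congrArg (fun z : W × F × F => z.1) h4
      have e2 : (x' : F) = x := congrArg (fun z : W × F × F => z.2.1) h4
      have e3 : ((((a' : Fˣ) : F) ^ 2 * c) - Q w') / (x' : F) = (((a : F) ^ 2 * c) - Q w) / (x : F) :=
        congrArg (fun z : W × F × F => z.2.2) h4
      have hx : (x : F) ≠ 0 := x.ne_zero
      rw [e1, e2, div_left_inj' hx] at e3
      have e4 : (a' : F) ^ 2 = (a : F) ^ 2 := by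
        apply mul_right_cancel₀ hc
        linear_combination e3
      have e5 : x' = x := Units.ext e2
      rw [e1, e5, Finset.mem_insert, Finset.mem_singleton]
      rcases sq_eq_sq_iff_eq_or_eq_neg.1 e4 with h5 | h5
      · left
        rw [Units.ext h5]
      · right
        have : a' = -a := Units.ext (by rw [h5, Units.val_neg])
        rw [this]
    exact (Finset.card_le_card h3).trans Finset.card_le_two
  rw [Finset.card_univ, Fintype.card_prod, Fintype.card_prod, Fintype.card_units] at h2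
  calc Fintype.card W * (Fintype.card F - 1) ^ 2
      = Fintype.card W * ((Fintype.card F - 1) * (Fintype.card F - 1)) := by ring
    _ ≤ _ := h2
    _ ≤ _ := Nat.mul_le_mul_left 2 (Finset.card_le_card h1)

theorem card_cls_zero {k : ℕ} (h : TF (k + 1) (hypSum Q)) :
    (cls Q 0).card = Fintype.card F ^ (2 * k + 2) - 1 := by
  classical
  have h1 := h.sing
  have h2 : insert (0 : W × F × F) (cls Q 0) = Finset.univ.filter fun u : W × F × F => hypSum Q u = 0 := by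
    ext u
    rw [Finset.mem_insert, mem_cls, Finset.mem_filter]
    constructor
    · rintro (rfl | ⟨-, a, ha⟩)
      · exact ⟨Finset.mem_univ _, QuadraticMap.map_zero _⟩
      · exact ⟨Finset.mem_univ _, by rw [ha, mul_zero]⟩
    · rintro ⟨-, hu⟩
      by_cases h0 : u = 0
      · exact Or.inl h0
      · exact Or.inr ⟨h0, 1, by rw [hu, mul_zero]⟩
  have h3 : (Finset.univ.filter fun u : W × F × F => hypSum Q u = 0).card =
      Fintype.card F ^ (2 * k + 2) := by
    rw [Nat.card_eq_fintype_card, Fintype.card_subtype, Nat.card_eq_fintype_card] at h1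
    rw [h1]
    congr 1
  rw [← h2, Finset.card_insert_of_notMem (zero_notMem_cls Q)] at h3
  omega

/-- numerical facts -/
theorem num1 (q k : ℕ) (hq : 5 ≤ q) : 2 * (q ^ (2 * k + 2) - 1) ≤ q ^ (2 * k + 1) * (q - 1) ^ 2 := by
  obtain ⟨r, rfl⟩ : ∃ r, q = r + 5 := ⟨q - 5, by omega⟩
  have h1 : r + 5 - 1 = r + 4 := by omega
  rw [h1]
  have h2 : (r + 5) ^ (2 * k + 2) = (r + 5) ^ (2 * k + 1) * (r + 5) := by rw [← pow_succ]
  rw [h2]
  have h3 : 2 * (r + 5) ≤ (r + 4) ^ 2 := by nlinarith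
  calc 2 * ((r + 5) ^ (2 * k + 1) * (r + 5) - 1) ≤ 2 * ((r + 5) ^ (2 * k + 1) * (r + 5)) := by omega
    _ = (r + 5) ^ (2 * k + 1) * (2 * (r + 5)) := by ring
    _ ≤ _ := Nat.mul_le_mul_left _ h3

theorem card_cls {k : ℕ} (h : TF k Q) (h' : TF (k + 1) (hypSum Q)) (hq : 5 ≤ Fintype.card F) (c : F) :
    Fintype.card F ^ (2 * k + 2) - 1 ≤ (cls Q c).card := by
  by_cases hc : c = 0
  · rw [hc, card_cls_zero Q h']
  · have h1 := card_cls_ns Q hc
    have h2 := h.card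
    rw [Nat.card_eq_fintype_card, Nat.card_eq_fintype_card] at h2
    rw [h2] at h1
    have h3 := num1 (Fintype.card F) k hq
    omega

end

end Cfsg.Agent.H117
end

-- part: H117/LemT
section
/-!
# Representations of `SO` generated by a semi-invariant vector of the stabiliser of a singular point
-/

set_option autoImplicit false

universe u v

namespace Cfsg.Agent.H117

open QuadraticMap Cfsg.Agent.LieClassical.OrthCore Cfsg.Agent.LieClassical.OrthTrans Module
open Cfsg.Agent.LieClassical.OrthCount (hypSum hypSum_apply polar_hypSum)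

/-- `∑_{i<k} q^{2i}` -/
def tt (q : ℕ) : ℕ → ℕ
  | 0 => 0
  | k + 1 => tt q k + q ^ (2 * k)

theorem tt_mul (q k : ℕ) (hq : 1 ≤ q) : tt q k * (q ^ 2 - 1) = q ^ (2 * k) - 1 := by
  obtain ⟨m, hm⟩ : ∃ m, q ^ 2 = m + 1 := ⟨q ^ 2 - 1, by have := Nat.one_le_pow 2 q hq; omega⟩
  rw [hm, Nat.add_sub_cancel]
  induction k with
  | zero => simp [tt]
  | succ k ih =>
    rw [tt, add_mul, ih]
    have h1 : q ^ (2 * (k + 1)) = q ^ (2 * k) * (m + 1) := by rw [← hm]; ring
    have h2 : 1 ≤ q ^ (2 * k) := Nat.one_le_pow _ _ hq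
    rw [h1, mul_add, mul_one]
    omega

section A

variable {F A : Type*} [Field F] [AddCommGroup A] [Module F A] {V : Type*} [AddCommGroup V] [Module ℂ V]
  {G : Subgroup ((A × F × F) ≃ₗ[F] (A × F × F))}

/-- vectors fixed by the radical on which the torus acts by `χ` -/
def Neig (P : PRep G V) (Q : QuadraticForm F A) (χ : Fˣ → ℂ) : Submodule ℂ V where
  carrier := {x | (∀ v : A, P.R (sE Q v) x = x) ∧ ∀ a : Fˣ, P.R (io a 1) x = χ a • x}
  add_mem' := by
    rintro x y ⟨hx, hx'⟩ ⟨hy, hy'⟩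
    refine ⟨fun v => by rw [map_add, hx, hy], fun a => by rw [map_add, hx', hy', smul_add]⟩
  zero_mem' := ⟨fun v => map_zero _, fun a => by rw [map_zero, smul_zero]⟩
  smul_mem' := by
    rintro c x ⟨hx, hx'⟩
    refine ⟨fun v => by rw [map_smul, hx], fun a => by rw [map_smul, hx', smul_comm]⟩

theorem mem_Neig {P : PRep G V} {Q : QuadraticForm F A} {χ : Fˣ → ℂ} {x : V} :
    x ∈ Neig P Q χ ↔ (∀ v : A, P.R (sE Q v) x = x) ∧ ∀ a : Fˣ, P.R (io a 1) x = χ a • x := Iff.rfl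

theorem Neig_add_le [Fintype A] [FiniteDimensional ℂ V] (P : PRep G V) (Q : QuadraticForm F A)
    (ψ : AddChar F ℂ) {χ : Fˣ → ℂ} (hχ : ∃ a, χ a ≠ 1) :
    finrank ℂ (Neig P Q χ) + finrank ℂ (Neig P Q fun _ => 1) ≤ finrank ℂ (wt Q ψ (TT P Q) 0) := by
  have h1 : Neig P Q χ ⊓ Neig P Q (fun _ => 1) = ⊥ := by
    rw [eq_bot_iff]
    rintro x ⟨⟨-, hx⟩, ⟨-, hx'⟩⟩
    obtain ⟨a, ha⟩ := hχ
    rw [Submodule.mem_bot]
    have h3 := hx a
    rw [hx' a] at h3
    have h4 : (χ a - 1) • x = 0 := by rw [sub_smul, ← h3, sub_self]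
    exact (smul_eq_zero.1 h4).resolve_left (sub_ne_zero.2 ha)
  have h2 := Submodule.finrank_sup_add_finrank_inf_eq (Neig P Q χ) (Neig P Q fun _ => 1)
  rw [h1, finrank_bot, add_zero] at h2
  rw [← h2]
  apply Submodule.finrank_mono
  rw [sup_le_iff]
  exact ⟨fun x hx => mem_wt_zero.2 hx.1, fun x hx => mem_wt_zero.2 hx.1⟩

end A

section B

variable {F W : Type*} [Field F] [AddCommGroup W] [Module F W] [Fintype F] [Fintype W]
  {Q : QuadraticForm F W}

omit [Fintype F] [Fintype W] in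
theorem nn_xr (t : F) : nn W 1 * xr Q t = yr Q (-t) * nn W 1 := by
  apply LinearEquiv.ext
  rintro ⟨⟨w, x, y⟩, x', y'⟩
  rw [LinearEquiv.mul_apply, LinearEquiv.mul_apply, xr_apply, nn1_apply, nn1_apply, yr_apply]
  ext <;> simp
  ring

variable {V : Type v} [AddCommGroup V] [Module ℂ V]
  {G : Subgroup (((W × F × F) × F × F) ≃ₗ[F] ((W × F × F) × F × F))}

/-- if the radical acts trivially then so do the elements of both `SL₂` -/
theorem nn_trivial (P : PRep G V) (hE : E (hypSum (hypSum Q)) ≤ G)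
    (h : ∀ (v : W × F × F) (x : V), P.R (sE (hypSum Q) v) x = x) (x : V) : P.R (nn W 1) x = x := by
  have hn : nn W 1 ∈ G := hE (nn_mem Q 1)
  have h1 : ∀ (t : F) (x : V), P.R (yr Q t) x = x := by
    intro t x
    have e := P.swap hn (hE (xr_mem Q _)) (hE (yr_mem Q _)) hn (nn_xr (Q := Q) (-t)) (P.R (nn W 1)⁻¹ x)
    rw [neg_neg, P.inv'' hn] at e
    rw [← e]
    have : P.R (xr Q (-t)) (P.R (nn W 1)⁻¹ x) = P.R (nn W 1)⁻¹ x := h _ _
    rw [this, P.inv'' hn]
  rw [nn_eq Q, P.mul' (G.mul_mem (hE (xr_mem Q _)) (hE (yr_mem Q _))) (hE (xr_mem Q _)),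
    P.mul' (hE (xr_mem Q _)) (hE (yr_mem Q _))]
  have h2 : ∀ (t : F) (x : V), P.R (xr Q t) x = x := fun t x => h _ _
  rw [h2, h1, h2]

theorem exists_weight [FiniteDimensional ℂ V] (P : PRep G V) {ψ : AddChar F ℂ} (hψ : ∃ c, ψ c ≠ 1)
    (hQ : Nondeg Q) (hE : E (hypSum (hypSum Q)) ≤ G)
    (h : ∃ (v : W × F × F) (x : V), P.R (sE (hypSum Q) v) x ≠ x) :
    ∃ u : W × F × F, u ≠ 0 ∧ wt (hypSum Q) ψ (TT P (hypSum Q)) u ≠ ⊥ := by
  have hW := wd_TT (P := P) (nondeg_hypSum hQ) hψ hE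
  by_contra hc
  push Not at hc
  obtain ⟨v, x, hvx⟩ := h
  apply hvx
  have h1 : pr (hypSum Q) ψ (TT P (hypSum Q)) 0 x = x := by
    conv_rhs => rw [← sum_pr hW x]
    symm
    refine Finset.sum_eq_single (0 : W × F × F) ?_ ?_
    · intro u _ hu
      have := pr_mem hW u x
      rw [hc u hu] at this
      exact this
    · intro h
      exact absurd (Finset.mem_univ _) h
  have h2 := pr_mem hW 0 x
  rw [h1] at h2
  exact mem_wt_zero.1 h2 v

/-- the statement of lemma `T` -/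
def PT (χ : Fˣ → ℂ) (k : ℕ) (Q : QuadraticForm F W) : Prop :=
  ∀ (V : Type v) [AddCommGroup V] [Module ℂ V] [FiniteDimensional ℂ V] (P : PRep (SO (hypSum Q)) V)
    (z : V), z ≠ 0 → (∀ w, P.R (sE Q w) z = z) →
    (∀ (a : Fˣ) (s : W ≃ₗ[F] W), s ∈ SO Q → P.R (io a s) z = χ a • z) →
    tt (Fintype.card F) (k + 1) ≤ finrank ℂ V

/-- the induction step -/
theorem PT_step [FiniteDimensional ℂ V] (h2 : (2 : F) ≠ 0) (hq : 5 ≤ Fintype.card F) {χ : Fˣ → ℂ}
    (hχ : ∃ a, χ a ≠ 1) {ψ : AddChar F ℂ} (hψ : ∃ c, ψ c ≠ 1) {k : ℕ} (hT : TF k Q)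
    (hP : PT.{v} χ k Q) (P : PRep (SO (hypSum (hypSum Q))) V) {z : V} (hz : z ≠ 0)
    (hz0 : ∀ v, P.R (sE (hypSum Q) v) z = z)
    (hz1 : ∀ (a : Fˣ) (s : (W × F × F) ≃ₗ[F] (W × F × F)), s ∈ SO (hypSum Q) → P.R (io a s) z = χ a • z) :
    (Fintype.card F ^ (2 * k + 2) - 1) + finrank ℂ (Neig P (hypSum Q) χ) + tt (Fintype.card F) (k + 1) ≤
      finrank ℂ V := by
  classical
  have hfd := hT.fd
  obtain ⟨w0, hw0⟩ := hT.ns
  have hne : Q w0 ≠ 0 := by rw [hw0]; exact one_ne_zero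
  have hT' := hT.step h2
  have hE : E (hypSum (hypSum Q)) ≤ SO (hypSum (hypSum Q)) := E_le_SO
  have hW := wd_TT (P := P) hT'.nondeg hψ hE
  have hn : nn W 1 ∈ SO (hypSum (hypSum Q)) := hE (nn_mem Q 1)
  have h1SO : (1 : W ≃ₗ[F] W) ∈ SO Q := (SO Q).one_mem
  -- a nonzero weight
  obtain ⟨u, hu0, hu⟩ : ∃ u : W × F × F, u ≠ 0 ∧ wt (hypSum Q) ψ (TT P (hypSum Q)) u ≠ ⊥ := by
    apply exists_weight P hψ hT.nondeg hE
    by_contra hc
    push Not at hc
    have hn' := nn_trivial P hE hc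
    obtain ⟨a, ha⟩ := hχ
    have e1 := P.swap hn (io_mem_SO.2 (io_mem_SO.2 h1SO)) (io_mem_SO.2 (io_mem_SO.2 h1SO)) hn
      (nn_io (W := W) a 1 1) z
    rw [hn', hn', io_one, hz1 a 1 (SO _).one_mem, hz1 1 _ (io_mem_SO.2 h1SO)] at e1
    have e2 := hz1 1 1 (SO _).one_mem
    rw [io_one, P.one'] at e2
    rw [← e2] at e1
    have e3 : (χ a - 1) • z = 0 := by rw [sub_smul, one_smul, ← e1, sub_self]
    rcases smul_eq_zero.1 e3 with h | h
    · exact ha (sub_eq_zero.1 h)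
    · exact hz h
  have hpos : 1 ≤ finrank ℂ (wt (hypSum Q) ψ (TT P (hypSum Q)) u) := by
    rw [Nat.one_le_iff_ne_zero]
    intro h
    exact hu (Submodule.finrank_eq_zero.1 h)
  have hcls : ∀ u' ∈ cls Q (hypSum Q u), 1 ≤ finrank ℂ (wt (hypSum Q) ψ (TT P (hypSum Q)) u') := by
    intro u' hu'
    obtain ⟨hu'0, a, ha⟩ := (mem_cls Q).1 hu'
    have hane : (a : F) ≠ 0 := a.ne_zero
    have h4 : (a : F)⁻¹ • u' ≠ 0 := smul_ne_zero (inv_ne_zero hane) hu'0
    have h5 : hypSum Q u = hypSum Q ((a : F)⁻¹ • u') := by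
      rw [QuadraticMap.map_smul, ha, smul_eq_mul]
      field_simp
    obtain ⟨s, hs, hs'⟩ := SO_trans h2 hT.nondeg hT'.nondeg hne hu0 h4 h5
    have hg : io a⁻¹ s ∈ SO (hypSum (hypSum Q)) := io_mem_SO.2 hs
    refine hpos.trans (finrank_wt_le (P.inv_mul hg) fun x hx => ?_)
    have h6 := io_wt P hE (SO_le_O hs) hg hx
    rw [hs', Units.val_inv_eq_inv_val, inv_inv, smul_smul, mul_inv_cancel₀ hane, one_smul] at h6
    exact h6
  have h7 := finrank_ge hW (cls Q (hypSum Q u)) (zero_notMem_cls Q) 1 hcls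
  rw [one_mul] at h7
  have h8 := card_cls Q hT hT' hq (hypSum Q u)
  have h9 := Neig_add_le P (hypSum Q) ψ hχ
  -- the vector `Th z`
  have h10 : tt (Fintype.card F) (k + 1) ≤ finrank ℂ (Neig P (hypSum Q) fun _ => 1) := by
    have hm : ∀ s ∈ SO (hypSum Q), ∀ x ∈ Neig P (hypSum Q) (fun _ => 1),
        P.R (io 1 s) x ∈ Neig P (hypSum Q) (fun _ => 1) := by
      rintro s hs x ⟨hx, hx'⟩
      refine ⟨fun v => ?_, fun a => ?_⟩
      · have h11 := io_wt P hE (ψ := ψ) (a := 1) (SO_le_O hs) (io_mem_SO.2 hs) (u := 0) (x := x)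
          (mem_wt_zero.2 hx)
        rw [map_zero, smul_zero] at h11
        exact mem_wt_zero.1 h11 v
      · have e1 : io a 1 * io 1 s = io 1 s * io a (1 : (W × F × F) ≃ₗ[F] (W × F × F)) := by
          rw [io_mul, io_mul]; simp
        rw [P.swap (io_mem_SO.2 (SO _).one_mem) (io_mem_SO.2 hs) (io_mem_SO.2 hs)
          (io_mem_SO.2 (SO _).one_mem) e1, hx']
        rw [one_smul, one_smul]
    obtain ⟨P', hP'⟩ := P.exists_sub (G' := SO (hypSum Q)) (Neig P (hypSum Q) fun _ => 1)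
      (fun s => io 1 s) hm (fun x hx => by rw [io_one, P.one'])
      (fun s hs t ht x hx => by
        rw [← P.mul' (io_mem_SO.2 hs) (io_mem_SO.2 ht), io_mul, mul_one])
    have hh : ∀ b : Fˣ, P.R (io b (io b⁻¹ 1)) z = χ b • z := fun b => hz1 b _ (io_mem_SO.2 h1SO)
    have hne2 : Th P Q ψ z ≠ 0 :=
      Th_ne P hT.nondeg hψ hE hz (mem_wt_zero.2 hz0) (fun w => by
        have e1 := hz1 1 (sE Q w) (E_le_SO (sE_mem Q w))
        have e2 := hz1 1 1 (SO _).one_mem
        rw [io_one, P.one'] at e2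
        rw [e1, ← e2]) hh
    have hmem : Th P Q ψ z ∈ Neig P (hypSum Q) (fun _ => 1) := by
      refine ⟨mem_wt_zero.1 (Th_mem P hT.nondeg hψ hE z), fun a => ?_⟩
      have e1 := Th_io P hT.nondeg hψ hE (a := a) (b := 1) (O Q).one_mem
        (io_mem_SO.2 (io_mem_SO.2 h1SO)) (io_mem_SO.2 (io_mem_SO.2 h1SO)) z
      rw [io_one] at e1
      have e2 := hz1 1 (io a 1) (io_mem_SO.2 h1SO)
      have e3 := hz1 1 1 (SO _).one_mem
      rw [io_one, P.one'] at e3
      rw [e1, e2, ← e3, one_smul]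
    refine hP (Neig P (hypSum Q) fun _ => 1) P' ⟨Th P Q ψ z, hmem⟩ ?_ ?_ ?_
    · intro h
      exact hne2 (congrArg Subtype.val h)
    · intro w
      apply Subtype.ext
      rw [hP' _ (E_le_SO (sE_mem Q w)), Th_sE P hT.nondeg hψ hE, hz0]
    · intro b s hs
      apply Subtype.ext
      rw [hP' _ (io_mem_SO.2 hs)]
      have e1 := Th_io P hT.nondeg hψ hE (a := 1) (b := b) (SO_le_O hs)
        (io_mem_SO.2 (io_mem_SO.2 hs)) (io_mem_SO.2 (io_mem_SO.2 hs)) z
      have e2 := hz1 b (io 1 s) (io_mem_SO.2 hs)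
      have hsm : ∀ (c : ℂ) (x : V), Th P Q ψ (c • x) = c • Th P Q ψ x := by
        intro c x
        unfold Th
        rw [map_smul, map_smul]
      rw [e1, e2, hsm]
      rfl
  omega

/-- lemma `T` -/
theorem PT_base (χ : Fˣ → ℂ) : PT.{v} χ 0 Q := by
  intro V _ _ _ P z hz _ _
  have : Nontrivial V := ⟨⟨z, 0, hz⟩⟩
  have h1 : 0 < finrank ℂ V := finrank_pos
  have h2 : tt (Fintype.card F) (0 + 1) = 1 := by simp [tt]
  rw [h2]
  exact h1

end B

/-- lemma `T` for the tower -/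
theorem IsTw.PT {F : Type u} [Field F] [Fintype F] (h2 : (2 : F) ≠ 0) (hq : 5 ≤ Fintype.card F)
    {χ : Fˣ → ℂ} (hχ : ∃ a, χ a ≠ 1) {ψ : AddChar F ℂ} (hψ : ∃ c, ψ c ≠ 1) {k : ℕ} {W : Type u}
    [AddCommGroup W] [Module F W] {Q : QuadraticForm F W} (h : IsTw F k W Q) :
    ∀ [Fintype W], H117.PT.{v} χ k Q := by
  induction h with
  | base => intro _; exact PT_base χ
  | @step k W _ _ Q h ih =>
    intro _
    have hT := h.tf h2
    have := hT.finite
    have : Fintype W := Fintype.ofFinite W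
    intro V _ _ _ P z hz hz0 hz1
    have h3 := PT_step h2 hq hχ hψ hT ih P hz hz0 hz1
    have h4 : 1 ≤ finrank ℂ (Neig P (hypSum Q) χ) := by
      rw [Nat.one_le_iff_ne_zero]
      intro h5
      have h6 := Submodule.finrank_eq_zero.1 h5
      have h7 : z ∈ Neig P (hypSum Q) χ := ⟨hz0, fun a => hz1 a 1 (SO _).one_mem⟩
      rw [h6] at h7
      exact hz h7
    have h8 : 1 ≤ Fintype.card F ^ (2 * k + 2) := Nat.one_le_pow _ _ (by omega)
    have h9 : tt (Fintype.card F) (k + 1 + 1) = tt (Fintype.card F) (k + 1) + Fintype.card F ^ (2 * k + 2) := rfl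
    rw [h9]
    omega

end Cfsg.Agent.H117
end

-- part: H117/MainA
section
/-!
# A small representation has an equivariant system of weight vectors
-/

set_option autoImplicit false

namespace Cfsg.Agent.H117

open QuadraticMap Cfsg.Agent.LieClassical.OrthCore Cfsg.Agent.LieClassical.OrthTrans Module
open Cfsg.Agent.LieClassical.OrthCount (hypSum hypSum_apply polar_hypSum)

theorem num2 (q k : ℕ) (hq : 5 ≤ q) : 2 * tt q (k + 2) ≤ q ^ (2 * k + 1) * (q - 1) ^ 2 := by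
  have h0 := tt_mul q (k + 2) (by omega)
  have h1 : 0 < q ^ 2 - 1 := by
    have : 5 ^ 2 ≤ q ^ 2 := Nat.pow_le_pow_left hq 2
    omega
  apply Nat.le_of_mul_le_mul_right _ h1
  rw [mul_assoc, h0]
  obtain ⟨r, rfl⟩ : ∃ r, q = r + 5 := ⟨q - 5, by omega⟩
  have h2 : r + 5 - 1 = r + 4 := by omega
  have h3 : (r + 5) ^ 2 - 1 = (r + 4) * (r + 6) := by
    have : (r + 5) ^ 2 = (r + 4) * (r + 6) + 1 := by ring
    omega
  rw [h2, h3]
  have h4 : 2 * (r + 5) ^ 3 ≤ (r + 4) ^ 3 * (r + 6) := by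
    have : (r + 4) ^ 3 * (r + 6) = 2 * (r + 5) ^ 3 + (r ^ 4 + 16 * r ^ 3 + 90 * r ^ 2 + 202 * r + 134) := by
      ring
    omega
  calc 2 * ((r + 5) ^ (2 * (k + 2)) - 1) ≤ 2 * (r + 5) ^ (2 * (k + 2)) := by omega
    _ = (r + 5) ^ (2 * k + 1) * (2 * (r + 5) ^ 3) := by ring
    _ ≤ (r + 5) ^ (2 * k + 1) * ((r + 4) ^ 3 * (r + 6)) := Nat.mul_le_mul_left _ h4
    _ = _ := by ring

theorem num3 (q k : ℕ) (hq : 5 ≤ q) : tt q (k + 2) ≤ 2 * (q ^ (2 * k + 2) - 1) := by
  have h0 := tt_mul q (k + 2) (by omega)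
  have h5 : 5 ^ 2 ≤ q ^ 2 := Nat.pow_le_pow_left hq 2
  have h1 : 0 < q ^ 2 - 1 := by omega
  apply Nat.le_of_mul_le_mul_right _ h1
  rw [h0]
  have h6 : q ^ 2 ≤ q ^ (2 * k + 2) := Nat.pow_le_pow_right (by omega) (by omega)
  have h7 : q ^ (2 * (k + 2)) = q ^ (2 * k + 2) * q ^ 2 := by ring
  rw [h7]
  obtain ⟨X, hX⟩ : ∃ X, q ^ (2 * k + 2) = X + 25 := ⟨q ^ (2 * k + 2) - 25, by omega⟩
  obtain ⟨Y, hY⟩ : ∃ Y, q ^ 2 = Y + 25 := ⟨q ^ 2 - 25, by omega⟩
  rw [hX, hY]
  have h8 : X + 25 - 1 = X + 24 := by omega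
  have h9 : Y + 25 - 1 = Y + 24 := by omega
  rw [h8, h9]
  have h10 : 2 * (X + 24) * (Y + 24) = (X + 25) * (Y + 25) + (X * Y + 23 * X + 23 * Y + 527) := by ring
  omega

section

variable {F W' : Type*} [Field F] [AddCommGroup W'] [Module F W'] [Fintype F] [Fintype W']
  {Q' : QuadraticForm F W'}
  {V : Type*} [AddCommGroup V] [Module ℂ V] [FiniteDimensional ℂ V]

theorem exists_sys (h2 : (2 : F) ≠ 0) (hq : 5 ≤ Fintype.card F) {k : ℕ} (hT : TF k Q') {ψ : AddChar F ℂ}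
    (hψ : ∃ c, ψ c ≠ 1) (P : PRep (E (hypSum (hypSum (hypSum Q')))) V)
    (hnt : ∃ (v : (W' × F × F) × F × F) (x : V), P.R (sE (hypSum (hypSum Q')) v) x ≠ x)
    (hD : finrank ℂ V < tt (Fintype.card F) (k + 3)) :
    (∃ (b : (W' × F × F) × F × F → V) (lam : Fˣ → ℂ), Sys P ψ b lam) ∧
      finrank ℂ (wt (hypSum (hypSum Q')) ψ (TT P (hypSum (hypSum Q'))) 0) +
        (Fintype.card F ^ (2 * (k + 1) + 2) - 1) ≤ finrank ℂ V := by
  classical
  have hfd := hT.fd
  have hT1 := hT.step h2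
  have hT2 := hT1.step h2
  have hfd1 := hT1.fd
  have hW := wd_TT (P := P) hT2.nondeg hψ le_rfl
  obtain ⟨w0, hw0⟩ := hT1.ns
  have hne : hypSum Q' w0 ≠ 0 := by rw [hw0]; exact one_ne_zero
  have hG : Good (hypSum (hypSum Q')) := by
    apply Cfsg.Agent.LieClassical.OrthFinite.good_of_finite hT2.nondeg
    rw [hT2.rank]
    omega
  have hposwt : ∀ u, wt (hypSum (hypSum Q')) ψ (TT P (hypSum (hypSum Q'))) u ≠ ⊥ →
      1 ≤ finrank ℂ (wt (hypSum (hypSum Q')) ψ (TT P (hypSum (hypSum Q'))) u) := by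
    intro u hu
    rw [Nat.one_le_iff_ne_zero]
    intro h
    exact hu (Submodule.finrank_eq_zero.1 h)
  -- no nonsingular weights
  have hnone : ∀ u, hypSum (hypSum Q') u ≠ 0 →
      wt (hypSum (hypSum Q')) ψ (TT P (hypSum (hypSum Q'))) u = ⊥ := by
    intro u hu
    by_contra hc
    have hpos := hposwt u hc
    have hu0 : u ≠ 0 := by
      rintro rfl
      exact hu (QuadraticMap.map_zero _)
    have hcls : ∀ u' ∈ cls (hypSum Q') (hypSum (hypSum Q') u),
        1 ≤ finrank ℂ (wt (hypSum (hypSum Q')) ψ (TT P (hypSum (hypSum Q'))) u') := by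
      intro u' hu'
      obtain ⟨hu'0, a, ha⟩ := (mem_cls _).1 hu'
      have hane : (a : F) ≠ 0 := a.ne_zero
      have hv0 : (a : F) • io a (1 : (W' × F × F) ≃ₗ[F] (W' × F × F)) u ≠ 0 := by
        refine smul_ne_zero hane ?_
        intro h
        exact hu0 ((io a (1 : (W' × F × F) ≃ₗ[F] (W' × F × F))).map_eq_zero_iff.1 h)
      have hiO : io a (1 : (W' × F × F) ≃ₗ[F] (W' × F × F)) ∈ O (hypSum (hypSum Q')) :=
        io_mem_O.2 (O _).one_mem
      have hv1 : hypSum (hypSum Q') ((a : F) • io a (1 : (W' × F × F) ≃ₗ[F] (W' × F × F)) u) =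
          hypSum (hypSum Q') u' := by
        rw [QuadraticMap.map_smul, mem_O.1 hiO, ha, smul_eq_mul]
        ring
      obtain ⟨s, hs, hs'⟩ := hG.trans_norm hv0 hu'0 hv1
      have hh : io a⁻¹ (io a (1 : (W' × F × F) ≃ₗ[F] (W' × F × F))) ∈ E (hypSum (hypSum (hypSum Q'))) := by
        have := hh_mem (hypSum Q') a⁻¹
        rwa [inv_inv] at this
      have hg : io a⁻¹ (s * io a (1 : (W' × F × F) ≃ₗ[F] (W' × F × F))) ∈ E (hypSum (hypSum (hypSum Q'))) := by
        have := (E _).mul_mem (io_mem_E hs) hh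
        rwa [io_mul, one_mul] at this
      refine hpos.trans (finrank_wt_le (P.inv_mul hg) fun x hx => ?_)
      have h6 := io_wt P le_rfl ((O _).mul_mem (E_le_O hs) hiO) hg hx
      rw [Units.val_inv_eq_inv_val, inv_inv, LinearEquiv.mul_apply, ← map_smul, hs'] at h6
      exact h6
    have h7 := finrank_ge hW (cls (hypSum Q') (hypSum (hypSum Q') u)) (zero_notMem_cls _) 1 hcls
    have h8 := card_cls_ns (hypSum Q') hu
    have h9 := hT1.card
    rw [Nat.card_eq_fintype_card, Nat.card_eq_fintype_card] at h9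
    rw [h9] at h8
    have h10 := num2 (Fintype.card F) (k + 1) hq
    have e : k + 1 + 2 = k + 3 := by omega
    rw [e] at h10
    omega
  -- singular weights
  obtain ⟨u0, hu00, hu0⟩ := exists_weight P hψ hT1.nondeg le_rfl hnt
  have hu0s : hypSum (hypSum Q') u0 = 0 := by
    by_contra h
    exact hu0 (hnone u0 h)
  have htr : ∀ u v, u ≠ 0 → v ≠ 0 → hypSum (hypSum Q') u = 0 → hypSum (hypSum Q') v = 0 →
      finrank ℂ (wt (hypSum (hypSum Q')) ψ (TT P (hypSum (hypSum Q'))) u) ≤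
        finrank ℂ (wt (hypSum (hypSum Q')) ψ (TT P (hypSum (hypSum Q'))) v) := by
    intro u v hu hv hus hvs
    obtain ⟨s, hs, hs'⟩ := hG.trans_sing hus hvs hu hv
    refine finrank_wt_le (P.inv_mul (io_mem_E hs)) fun x hx => ?_
    have h6 := io_wt P le_rfl (E_le_O hs) (io_mem_E hs) hx
    rw [hs', Units.val_one, inv_one, one_smul] at h6
    exact h6
  have hpos0 := hposwt u0 hu0
  have hone : ∀ u, u ≠ 0 → hypSum (hypSum Q') u = 0 →
      finrank ℂ (wt (hypSum (hypSum Q')) ψ (TT P (hypSum (hypSum Q'))) u) = 1 := by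
    intro u hu hus
    have h3 := htr u0 u hu00 hu hu0s hus
    apply le_antisymm _ (hpos0.trans h3)
    by_contra hc
    push Not at hc
    have h4 : ∀ u' ∈ cls (hypSum Q') 0,
        2 ≤ finrank ℂ (wt (hypSum (hypSum Q')) ψ (TT P (hypSum (hypSum Q'))) u') := by
      intro u' hu'
      obtain ⟨hu'0, a, ha⟩ := (mem_cls _).1 hu'
      rw [mul_zero] at ha
      exact Nat.le_trans hc (htr u u' hu hu'0 hus ha)
    have h7 := finrank_ge hW (cls (hypSum Q') 0) (zero_notMem_cls _) 2 h4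
    rw [card_cls_zero (hypSum Q') hT2] at h7
    have h10 := num3 (Fintype.card F) (k + 1) hq
    have e : k + 1 + 2 = k + 3 := by omega
    rw [e] at h10
    omega
  refine ⟨?_, ?_⟩
  · -- the base vector
    have h3 := hone (0, 1, 0) (ne_e one_ne_zero) sing_e
    obtain ⟨b0', hb0', hb0''⟩ := finrank_eq_one_iff'.1 h3
    obtain ⟨b0, hb⟩ := b0'
    have hb0 : b0 ≠ 0 := by
      rintro rfl
      exact hb0' rfl
    have h1 : ∀ x ∈ wt (hypSum (hypSum Q')) ψ (TT P (hypSum (hypSum Q'))) (0, 1, 0), ∃ c : ℂ, x = c • b0 := by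
      intro x hx
      obtain ⟨c, hc⟩ := hb0'' ⟨x, hx⟩
      exact ⟨c, (congrArg Subtype.val hc).symm⟩
    -- the scalars
    have hz := fun a => zz_mem (hypSum Q') a
    have hlam : ∀ a : Fˣ, ∃ c : ℂ, P.R (io a (io a 1)) b0 = c • b0 := by
      intro a
      obtain ⟨c, -, hc⟩ := stab_scalar P h1 hb hb0 (io_mem_O.2 (O _).one_mem) (hz a)
        (by rw [io_apply]; simp)
      exact ⟨c, hc⟩
    choose lam hlam using hlam
    -- the transversal
    have hgv : ∀ v : (W' × F × F) × F × F, ∃ g ∈ E (hypSum (hypSum Q')),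
        (v ≠ 0 → hypSum (hypSum Q') v = 0 → g (0, 1, 0) = v) := by
      intro v
      by_cases hv : v ≠ 0 ∧ hypSum (hypSum Q') v = 0
      · obtain ⟨g, hg, e⟩ := hG.trans_sing (sing_e (Q := hypSum Q') (c := 1)) hv.2 (ne_e one_ne_zero) hv.1
        exact ⟨g, hg, fun _ _ => e⟩
      · exact ⟨1, (E _).one_mem, fun h h' => absurd ⟨h, h'⟩ hv⟩
    choose g hgE hg using hgv
    have hmem : ∀ v, v ≠ 0 → hypSum (hypSum Q') v = 0 →
        P.R (io 1 (g v)) b0 ∈ wt (hypSum (hypSum Q')) ψ (TT P (hypSum (hypSum Q'))) v := by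
      intro v hv hvs
      have h6 := io_wt P le_rfl (E_le_O (hgE v)) (io_mem_E (hgE v)) hb
      rw [hg v hv hvs, Units.val_one, inv_one, one_smul] at h6
      exact h6
    have hnz : ∀ v, P.R (io 1 (g v)) b0 ≠ 0 := fun v => P.ne_zero (io_mem_E (hgE v)) hb0
    refine ⟨fun v => P.R (io 1 (g v)) b0, lam, hmem, fun v _ _ => hnz v, ?_, ?_, hnone⟩
    · intro a s hs hgs v hv hvs
      have hane : (a : F) ≠ 0 := a.ne_zero
      have hv' : (a : F)⁻¹ • s v ≠ 0 := by
        refine smul_ne_zero (inv_ne_zero hane) ?_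
        intro h
        exact hv (s.map_eq_zero_iff.1 h)
      have hvs' : hypSum (hypSum Q') ((a : F)⁻¹ • s v) = 0 := by
        rw [QuadraticMap.map_smul, mem_O.1 (SO_le_O hs), hvs, smul_zero]
      set v' := (a : F)⁻¹ • s v with hv'def
      set r := (g v')⁻¹ * s * g v * (io a 1)⁻¹ with hr
      have hiSO : io a (1 : (W' × F × F) ≃ₗ[F] (W' × F × F)) ∈ SO (hypSum (hypSum Q')) :=
        io_mem_SO.2 (SO _).one_mem
      have hrSO : r ∈ SO (hypSum (hypSum Q')) :=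
        (SO _).mul_mem ((SO _).mul_mem ((SO _).mul_mem ((SO _).inv_mem (E_le_SO (hgE v'))) hs)
          (E_le_SO (hgE v))) ((SO _).inv_mem hiSO)
      have e1 : io 1 r = (io 1 (g v'))⁻¹ * io a s * io 1 (g v) * (io a (io a 1))⁻¹ := by
        rw [hr]
        simp only [io_inv, io_mul, inv_one, one_mul, mul_one, mul_inv_cancel]
      have hioE : io 1 r ∈ E (hypSum (hypSum (hypSum Q'))) := by
        rw [e1]
        exact (E _).mul_mem ((E _).mul_mem ((E _).mul_mem ((E _).inv_mem (io_mem_E (hgE v'))) hgs)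
          (io_mem_E (hgE v))) ((E _).inv_mem (hz a))
      have hrE := mem_E_of_io h2 hT1 hrSO hioE
      have hre : r (0, 1, 0) = (0, 1, 0) := by
        rw [hr, io_inv, inv_one]
        simp only [LinearEquiv.mul_apply]
        rw [io_apply]
        have e2 : (((1 : (W' × F × F) ≃ₗ[F] (W' × F × F)) 0, ((a⁻¹ : Fˣ) : F) * 1,
            ((a⁻¹ : Fˣ) : F)⁻¹ * 0) : (W' × F × F) × F × F) = (a : F)⁻¹ • (0, 1, 0) := by
          ext <;> simp
        rw [e2, map_smul, map_smul, map_smul, hg v hv hvs, ← map_smul, ← hv'def]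
        have e3 : g v' (0, 1, 0) = v' := hg v' hv' hvs'
        have e5 : (g v')⁻¹ (g v' (0, 1, 0)) = (0, 1, 0) := LinearEquiv.symm_apply_apply (g v') _
        rwa [e3] at e5
      have hfix := stab_fix P h2 hq hT h1 hb hb0 hrE hre
      have e4 : io a s * io 1 (g v) = io 1 (g v') * (io 1 r * io a (io a 1)) := by
        rw [e1]
        group
      show P.R (io a s) (P.R (io 1 (g v)) b0) = lam a • P.R (io 1 (g v')) b0
      rw [P.swap hgs (io_mem_E (hgE v)) (io_mem_E (hgE v')) ((E _).mul_mem hioE (hz a)) e4,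
        P.mul' hioE (hz a), hlam, map_smul, map_smul, hfix]
    · intro v hv hvs x hx
      have h4 := hone v hv hvs
      have h5 := (finrank_eq_one_iff_of_nonzero' (⟨P.R (io 1 (g v)) b0, hmem v hv hvs⟩ :
        wt (hypSum (hypSum Q')) ψ (TT P (hypSum (hypSum Q'))) v) (by
          intro h
          exact hnz v (congrArg Subtype.val h))).1 h4
      obtain ⟨c, hc⟩ := h5 ⟨x, hx⟩
      exact ⟨c, (congrArg Subtype.val hc).symm⟩
  · have h4 : ∀ u' ∈ cls (hypSum Q') 0,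
        1 ≤ finrank ℂ (wt (hypSum (hypSum Q')) ψ (TT P (hypSum (hypSum Q'))) u') := by
      intro u' hu'
      obtain ⟨hu'0, a, ha⟩ := (mem_cls _).1 hu'
      rw [mul_zero] at ha
      exact (hone u' hu'0 ha).ge
    have h7 := finrank_ge hW (cls (hypSum Q') 0) (zero_notMem_cls _) 1 h4
    rw [card_cls_zero (hypSum Q') hT2, one_mul] at h7
    exact h7

end

end Cfsg.Agent.H117
end

-- part: H117/SysA
section
/-!
# The Weyl element `nS` on an equivariant system
-/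

set_option autoImplicit false

universe u v

namespace Cfsg.Agent.H117

open QuadraticMap Cfsg.Agent.LieClassical.OrthCore Cfsg.Agent.LieClassical.OrthTrans Module
open Cfsg.Agent.LieClassical.OrthCount (hypSum hypSum_apply polar_hypSum)

section

variable {F W : Type*} [Field F] [AddCommGroup W] [Module F W] [Fintype F] [Fintype W]
  {Q : QuadraticForm F W} {V : Type*} [AddCommGroup V] [Module ℂ V]
  {P : PRep (E (hypSum (hypSum Q))) V} {ψ : AddChar F ℂ} {b : W × F × F → V} {lam : Fˣ → ℂ}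

/-- the weights met by `nS b(c e₂)` -/
def uw (Q : QuadraticForm F W) (c : F) (w : W) : W × F × F := (c • w, c, -(c * Q w))

omit [Fintype F] [Fintype W] in
theorem sF_e (c : F) (w : W) : sF Q w (0, c, 0) = uw Q c w := by
  rw [sF_apply, uw]
  ext
  · simp
  · rfl
  · simp; ring

omit [Fintype F] [Fintype W] in
theorem uw_ne {c : F} (hc : c ≠ 0) (w : W) : uw Q c w ≠ 0 := by
  intro h
  exact hc (congrArg (fun z : W × F × F => z.2.1) h)

omit [Fintype F] [Fintype W] in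
theorem uw_sing (c : F) (w : W) : hypSum Q (uw Q c w) = 0 := by
  rw [uw, hypSum_apply]
  simp only [QuadraticMap.map_smul, smul_eq_mul]
  ring

omit [Fintype F] [Fintype W] in
theorem exists_psi (hψ : ∃ c, ψ c ≠ 1) {d : F} (hd : d ≠ 0) : ∃ t, ψ (d * t) ≠ 1 := by
  obtain ⟨c, hc⟩ := hψ
  exact ⟨d⁻¹ * c, by rwa [mul_inv_cancel_left₀ hd]⟩

/-- `G(r) = ∑_w ψ(r Q(w))` -/
noncomputable def GG (Q : QuadraticForm F W) (ψ : AddChar F ℂ) (r : F) : ℂ := ∑ w : W, ψ (r * Q w)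

omit [Fintype W] in
theorem psi_polar_zero {A : Type*} [AddCommGroup A] [Module F A] {q : QuadraticForm F A} {u v : A}
    (h : polar q u v = 0) : ψ (polar q u v) = 1 := by
  rw [h, AddChar.map_zero_eq_one]

variable [FiniteDimensional F W]

theorem Sys.nS_fix (h : Sys P ψ b lam) {c : F} (hc : c ≠ 0) (w : W) :
    P.R (io 1 (sF Q w)) (P.R (nS F W) (b (0, c, 0))) = P.R (nS F W) (b (0, c, 0)) := by
  have e := nS_sE Q (-w)
  rw [neg_neg] at e
  rw [← P.swap (nS_mem Q) (sE_mem _ _) (io_mem_E (sF_mem Q w)) (nS_mem Q) e]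
  congr 1
  have h1 := h.mem _ (ne_e hc) sing_e (-w, 0, 0)
  rw [psi_polar_zero, one_smul] at h1
  · exact h1
  · rw [polar_hypSum]; simp

/-- the components of `nS b(c e₂)` -/
theorem Sys.pr_nS (h : Sys P ψ b lam) (hQ : Nondeg Q) (hψ : ∃ c, ψ c ≠ 1) {c : F} (hc : c ≠ 0)
    {u : W × F × F} (hu : ∀ w, u ≠ uw Q c w) :
    pr (hypSum Q) ψ (TT P (hypSum Q)) u (P.R (nS F W) (b (0, c, 0))) = 0 := by
  have hW := wd_TT (P := P) (nondeg_hypSum hQ) hψ le_rfl
  by_cases hs : hypSum Q u = 0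
  · by_cases hx : u.2.1 = c
    · exfalso
      apply hu (c⁻¹ • u.1)
      obtain ⟨w, x, y⟩ := u
      simp only at hx
      subst hx
      rw [uw]
      have h1 : Q w + x * y = 0 := hs
      ext
      · simp only [smul_smul, mul_inv_cancel₀ hc, one_smul]
      · rfl
      · simp only [QuadraticMap.map_smul, smul_eq_mul]
        field_simp
        linear_combination h1
    · obtain ⟨t, ht⟩ := exists_psi hψ (sub_ne_zero.2 hx)
      have h1 : TT P (hypSum Q) (0, 0, t) (P.R (nS F W) (b (0, c, 0))) =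
          ψ (c * t) • P.R (nS F W) (b (0, c, 0)) := by
        rw [TT, ← P.swap (nS_mem Q) (sE_mem _ _) (sE_mem _ _) (nS_mem Q) (nS_sE_f Q t)]
        have h2 := h.mem _ (ne_e hc) sing_e (0, 0, t)
        rw [TT, polar_hypSum] at h2
        rw [h2, map_smul]
        simp
      have h3 := pr_T hW u (0, 0, t) (P.R (nS F W) (b (0, c, 0)))
      rw [h1, map_smul, polar_hypSum] at h3
      have h4 : polar Q u.1 0 + (u.2.1 * t + 0 * u.2.2) = u.2.1 * t := by simp
      simp only [h4] at h3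
      have h5 : (ψ (u.2.1 * t) - ψ (c * t)) •
          pr (hypSum Q) ψ (TT P (hypSum Q)) u (P.R (nS F W) (b (0, c, 0))) = 0 := by
        rw [sub_smul, ← h3, sub_self]
      refine (smul_eq_zero.1 h5).resolve_left ?_
      intro h6
      apply ht
      rw [sub_mul, AddChar.map_sub_eq_div, div_eq_one_iff_eq (psi_ne _)]
      exact sub_eq_zero.1 h6
  · have h1 := pr_mem hW u (P.R (nS F W) (b (0, c, 0)))
    rw [h.none u hs] at h1
    exact h1

theorem Sys.exists_gam (h : Sys P ψ b lam) (hQ : Nondeg Q) (hψ : ∃ c, ψ c ≠ 1) {c : F} (hc : c ≠ 0) :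
    ∃ g : ℂ, (∀ w, pr (hypSum Q) ψ (TT P (hypSum Q)) (uw Q c w) (P.R (nS F W) (b (0, c, 0))) =
      g • b (uw Q c w)) ∧ P.R (nS F W) (b (0, c, 0)) = g • ∑ w : W, b (uw Q c w) := by
  classical
  have hW := wd_TT (P := P) (nondeg_hypSum hQ) hψ le_rfl
  obtain ⟨g, hg⟩ := h.span _ (ne_e hc) sing_e _ (pr_mem hW ((0, c, 0) : W × F × F) (P.R (nS F W) (b (0, c, 0))))
  have h1 : ∀ w, pr (hypSum Q) ψ (TT P (hypSum Q)) (uw Q c w) (P.R (nS F W) (b (0, c, 0))) =
      g • b (uw Q c w) := by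
    intro w
    have h2 := io_pr P (nondeg_hypSum hQ) hψ le_rfl (a := 1) (E_le_O (sF_mem Q w)) (io_mem_E (sF_mem Q w))
      (0, c, 0) (P.R (nS F W) (b (0, c, 0)))
    rw [h.nS_fix hc, hg, map_smul, h.act_E (sF_mem Q w) (ne_e hc) sing_e, Units.val_one, inv_one, one_smul,
      sF_e] at h2
    exact h2.symm
  refine ⟨g, h1, ?_⟩
  have hinj : Function.Injective (uw Q c) := by
    intro w w' e
    have e1 : c • w = c • w' := congrArg Prod.fst e
    exact smul_right_injective W hc e1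
  conv_lhs => rw [← sum_pr hW (P.R (nS F W) (b (0, c, 0)))]
  rw [Finset.smul_sum]
  have h3 : ∑ w : W, g • b (uw Q c w) = ∑ u ∈ Finset.univ.map ⟨uw Q c, hinj⟩,
      pr (hypSum Q) ψ (TT P (hypSum Q)) u (P.R (nS F W) (b (0, c, 0))) := by
    rw [Finset.sum_map]
    exact Finset.sum_congr rfl fun w _ => (h1 w).symm
  rw [h3]
  symm
  refine Finset.sum_subset (Finset.subset_univ _) ?_
  intro u _ hu
  apply h.pr_nS hQ hψ hc
  rintro w rfl
  apply hu
  rw [Finset.mem_map]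
  exact ⟨w, Finset.mem_univ _, rfl⟩

theorem Sys.pr_nS_uw (h : Sys P ψ b lam) (hQ : Nondeg Q) (hψ : ∃ c, ψ c ≠ 1) {c : F} (hc : c ≠ 0)
    (w : W) : pr (hypSum Q) ψ (TT P (hypSum Q)) (0, c, 0) (P.R (nS F W) (b (uw Q c w))) =
      pr (hypSum Q) ψ (TT P (hypSum Q)) (0, c, 0) (P.R (nS F W) (b (0, c, 0))) := by
  have hW := wd_TT (P := P) (nondeg_hypSum hQ) hψ le_rfl
  rw [← sF_e, ← h.act_E (sF_mem Q w) (ne_e hc) sing_e,
    P.swap (nS_mem Q) (io_mem_E (sF_mem Q w)) (sE_mem _ _) (nS_mem Q) (nS_io_sF Q w)]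
  have h1 := pr_T hW (0, c, 0) (w, 0, 0) (P.R (nS F W) (b (0, c, 0)))
  rw [psi_polar_zero, one_smul] at h1
  · exact h1
  · rw [polar_hypSum]; simp

/-- the fundamental relation -/
theorem Sys.rel (h : Sys P ψ b lam) (hQ : Nondeg Q) (hψ : ∃ c, ψ c ≠ 1) {c : F} (hc : c ≠ 0) {g : ℂ}
    (hg1 : ∀ w, pr (hypSum Q) ψ (TT P (hypSum Q)) (uw Q c w) (P.R (nS F W) (b (0, c, 0))) = g • b (uw Q c w))
    (hg : P.R (nS F W) (b (0, c, 0)) = g • ∑ w : W, b (uw Q c w)) (t : Fˣ) :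
    g * GG Q ψ (c * t) = lam (-t) := by
  have hW := wd_TT (P := P) (nondeg_hypSum hQ) hψ le_rfl
  have ht : (t : F) ≠ 0 := t.ne_zero
  have hn := nS_mem Q (F := F) (W := W)
  -- `pr (c e₂) (nS b) = g b`
  have h0 : pr (hypSum Q) ψ (TT P (hypSum Q)) (0, c, 0) (P.R (nS F W) (b (0, c, 0))) = g • b (0, c, 0) := by
    have := hg1 0
    have e : uw Q c 0 = (0, c, 0) := by rw [uw]; simp
    rwa [e] at this
  set β : Fˣ := -t⁻¹ with hβ
  have hβ' : (β : F) = -(t : F)⁻¹ := by rw [hβ]; simp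
  have e := nS_rr_nS Q t β hβ'
  have e1 : P.R (nS F W * sE (hypSum Q) (0, -(t : F), 0) * nS F W) (b (0, c, 0)) =
      P.R (sE (hypSum Q) (0, -(β : F), 0) * io β (io β 1) * nS F W * sE (hypSum Q) (0, -(β : F), 0))
        (b (0, c, 0)) := by rw [e]
  have hfix : ∀ r : F, P.R (sE (hypSum Q) (0, r, 0)) (b (0, c, 0)) = b (0, c, 0) := by
    intro r
    have h1 := h.mem _ (ne_e hc) sing_e (0, r, 0)
    rw [psi_polar_zero, one_smul] at h1
    · exact h1
    · rw [polar_hypSum]; simp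
  have hz : io β (io β (1 : W ≃ₗ[F] W)) ∈ E (hypSum (hypSum Q)) := zz_mem Q β
  have hz' : io β⁻¹ (io β⁻¹ (1 : W ≃ₗ[F] W)) ∈ E (hypSum (hypSum Q)) := zz_mem Q β⁻¹
  have e2 : io β (io β (1 : W ≃ₗ[F] W)) * nS F W = nS F W * io β⁻¹ (io β⁻¹ 1) := by
    rw [nS_io, inv_inv]
  rw [P.mul' ((E _).mul_mem hn (sE_mem _ _)) hn, P.mul' hn (sE_mem _ _),
    P.mul' ((E _).mul_mem ((E _).mul_mem (sE_mem _ _) hz) hn) (sE_mem _ _), hfix,
    P.mul' ((E _).mul_mem (sE_mem _ _) hz) hn, P.mul' (sE_mem _ _) hz,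
    P.swap hz hn hn hz' e2] at e1
  have h1SO : io β⁻¹ (1 : W ≃ₗ[F] W) ∈ SO (hypSum Q) := io_mem_SO.2 (SO _).one_mem
  have e3 : P.R (io β⁻¹ (io β⁻¹ (1 : W ≃ₗ[F] W))) (b (0, c, 0)) = lam β⁻¹ • b (0, c, 0) := by
    rw [h.act _ _ h1SO hz' _ (ne_e hc) sing_e, io_apply]
    congr 2
    have hb : (β : F) ≠ 0 := β.ne_zero
    ext <;> simp
  rw [e3, map_smul, map_smul] at e1
  have e4 := congrArg (pr (hypSum Q) ψ (TT P (hypSum Q)) (0, c, 0)) e1
  -- right side
  have e5 : pr (hypSum Q) ψ (TT P (hypSum Q)) (0, c, 0) (lam β⁻¹ • P.R (sE (hypSum Q) (0, -(β : F), 0))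
      (P.R (nS F W) (b (0, c, 0)))) = (lam β⁻¹ * g) • b (0, c, 0) := by
    rw [map_smul]
    have h1 := pr_T hW (0, c, 0) (0, -(β : F), 0) (P.R (nS F W) (b (0, c, 0)))
    rw [psi_polar_zero, one_smul] at h1
    · have h2 : P.R (sE (hypSum Q) (0, -(β : F), 0)) (P.R (nS F W) (b (0, c, 0))) =
        TT P (hypSum Q) (0, -(β : F), 0) (P.R (nS F W) (b (0, c, 0))) := rfl
      rw [h2, h1, h0, smul_smul]
    · rw [polar_hypSum]; simp
  -- left side
  have e6 : pr (hypSum Q) ψ (TT P (hypSum Q)) (0, c, 0) (P.R (nS F W) (P.R (sE (hypSum Q) (0, -(t : F), 0))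
      (P.R (nS F W) (b (0, c, 0))))) = (g * (GG Q ψ (c * t) * g)) • b (0, c, 0) := by
    have h1 : P.R (sE (hypSum Q) (0, -(t : F), 0)) (P.R (nS F W) (b (0, c, 0))) =
        g • ∑ w : W, ψ (c * t * Q w) • b (uw Q c w) := by
      rw [hg, map_smul, map_sum]
      congr 1
      refine Finset.sum_congr rfl fun w _ => ?_
      have h2 := h.mem _ (uw_ne hc w) (uw_sing c w) (0, -(t : F), 0)
      have h3 : P.R (sE (hypSum Q) (0, -(t : F), 0)) (b (uw Q c w)) =
        TT P (hypSum Q) (0, -(t : F), 0) (b (uw Q c w)) := rfl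
      rw [h3, h2]
      congr 2
      rw [polar_hypSum, uw]
      simp
      ring
    rw [h1, map_smul, map_smul, map_sum, map_sum]
    have h4 : ∀ w : W, pr (hypSum Q) ψ (TT P (hypSum Q)) (0, c, 0)
        (P.R (nS F W) (ψ (c * t * Q w) • b (uw Q c w))) = (ψ (c * t * Q w) * g) • b (0, c, 0) := by
      intro w
      rw [map_smul, map_smul, h.pr_nS_uw hQ hψ hc, h0, smul_smul]
    rw [Finset.sum_congr rfl fun w _ => h4 w, ← Finset.sum_smul, smul_smul, ← Finset.sum_mul]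
    rfl
  rw [e5, e6] at e4
  have e7 : (g * (GG Q ψ (c * t) * g) - lam β⁻¹ * g) • b (0, c, 0) = 0 := by
    rw [sub_smul, e4, sub_self]
  rcases smul_eq_zero.1 e7 with h8 | h8
  · have hg0 : g ≠ 0 := by
      rintro rfl
      rw [zero_smul] at hg
      exact P.ne_zero hn (h.ne _ (ne_e hc) sing_e) hg
    have h9 : β⁻¹ = -t := by
      rw [hβ, inv_neg, inv_inv]
    rw [h9] at h8
    apply mul_right_cancel₀ hg0
    linear_combination h8
  · exact absurd h8 (h.ne _ (ne_e hc) sing_e)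

end

end Cfsg.Agent.H117
end

-- part: H117/SysB
section
/-!
# The character `lam` of a system is the quadratic character; the two semi-invariant vectors
-/

set_option autoImplicit false

universe u v

namespace Cfsg.Agent.H117

open QuadraticMap Cfsg.Agent.LieClassical.OrthCore Cfsg.Agent.LieClassical.OrthTrans Module
open Cfsg.Agent.LieClassical.OrthCount (hypSum hypSum_apply polar_hypSum)

section

variable {F W : Type*} [Field F] [AddCommGroup W] [Module F W] [Fintype F] [Fintype W]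
  {Q : QuadraticForm F W} {V : Type*} [AddCommGroup V] [Module ℂ V]
  {P : PRep (E (hypSum (hypSum Q))) V} {ψ : AddChar F ℂ} {b : W × F × F → V} {lam : Fˣ → ℂ}

omit [Fintype W] [Module F W] [AddCommGroup W] in
theorem sum_psi_mul (hψ : ∃ c, ψ c ≠ 1) (d : F) [DecidableEq F] :
    ∑ t : F, ψ (t * d) = if d = 0 then (Fintype.card F : ℂ) else 0 := by
  have h1 : ψ ≠ 1 := by
    rintro rfl
    obtain ⟨c, hc⟩ := hψ
    exact hc rfl
  have h2 := AddChar.sum_mulShift d (AddChar.IsPrimitive.of_ne_one h1)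
  rw [h2]
  split_ifs <;> simp

theorem sum_GG [Fintype Fˣ] (hψ : ∃ c, ψ c ≠ 1) {k : ℕ} (hT : TF k Q) : ∑ t : Fˣ, GG Q ψ t = 0 := by
  classical
  have h1 : ∑ t : F, GG Q ψ t = (Fintype.card W : ℂ) := by
    unfold GG
    rw [Finset.sum_comm]
    have : ∀ w : W, ∑ t : F, ψ (t * Q w) = if Q w = 0 then (Fintype.card F : ℂ) else 0 :=
      fun w => sum_psi_mul hψ _
    rw [Fintype.sum_congr _ _ this, ← Finset.sum_filter, Finset.sum_const, nsmul_eq_mul]
    have h2 := hT.sing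
    have h3 := hT.card
    rw [Nat.card_eq_fintype_card, Fintype.card_subtype, Nat.card_eq_fintype_card] at h2
    rw [Nat.card_eq_fintype_card, Nat.card_eq_fintype_card] at h3
    rw [h2, h3]
    push_cast
    ring
  have h4 : ∑ t : F, GG Q ψ t = GG Q ψ 0 + ∑ t : Fˣ, GG Q ψ t := by
    rw [← Finset.add_sum_erase _ _ (Finset.mem_univ (0 : F))]
    congr 1
    symm
    refine Finset.sum_bij (fun (t : Fˣ) _ => (t : F)) ?_ ?_ ?_ ?_
    · intro t _
      exact Finset.mem_erase.2 ⟨t.ne_zero, Finset.mem_univ _⟩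
    · intro t _ t' _ h
      exact Units.ext h
    · intro t ht
      exact ⟨Units.mk0 t (Finset.mem_erase.1 ht).1, Finset.mem_univ _, rfl⟩
    · intro t _
      rfl
  have h5 : GG Q ψ 0 = (Fintype.card W : ℂ) := by
    unfold GG
    simp
  rw [h1, h5] at h4
  linear_combination -h4

omit [Fintype F] in
theorem GG_sq (s : Fˣ) (r : F) : GG Q ψ ((s : F) ^ 2 * r) = GG Q ψ r := by
  unfold GG
  refine Fintype.sum_equiv (LinearEquiv.smulOfUnit (M := W) s).toEquiv _ _ fun w => ?_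
  congr 1
  have : (LinearEquiv.smulOfUnit (M := W) s).toEquiv w = (s : F) • w := rfl
  rw [this, QuadraticMap.map_smul, smul_eq_mul]
  ring

variable [FiniteDimensional F W]

omit [Fintype W] in
theorem Sys.zz (h : Sys P ψ b lam) (a : Fˣ) (c : F) (hc : c ≠ 0) :
    P.R (io a (io a 1)) (b (0, c, 0)) = lam a • b (0, c, 0) := by
  have h1SO : io a (1 : W ≃ₗ[F] W) ∈ SO (hypSum Q) := io_mem_SO.2 (SO _).one_mem
  rw [h.act _ _ h1SO (zz_mem Q a) _ (ne_e hc) sing_e, io_apply]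
  congr 2
  have hb : (a : F) ≠ 0 := a.ne_zero
  ext <;> simp

omit [Fintype W] in
theorem Sys.lam_mul (h : Sys P ψ b lam) (a c : Fˣ) : lam (a * c) = lam a * lam c := by
  have h1 := h.zz (a * c) 1 one_ne_zero
  have h2 : io (a * c) (io (a * c) (1 : W ≃ₗ[F] W)) = io a (io a 1) * io c (io c 1) := by
    rw [io_mul, io_mul, mul_one]
  rw [h2, P.mul' (zz_mem Q a) (zz_mem Q c), h.zz c 1 one_ne_zero, map_smul, h.zz a 1 one_ne_zero,
    smul_smul] at h1
  have h3 : (lam c * lam a - lam (a * c)) • b (0, 1, 0) = 0 := by rw [sub_smul, h1, sub_self]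
  rcases smul_eq_zero.1 h3 with h4 | h4
  · linear_combination -h4
  · exact absurd h4 (h.ne _ (ne_e one_ne_zero) sing_e)

omit [Fintype W] in
theorem Sys.lam_ne_zero (h : Sys P ψ b lam) (a : Fˣ) : lam a ≠ 0 := by
  intro h0
  have h1 := h.lam_mul a a⁻¹
  rw [mul_inv_cancel, h.act_one, h0, zero_mul] at h1
  exact one_ne_zero h1

theorem Sys.lam_sq (h : Sys P ψ b lam) (hQ : Nondeg Q) (hψ : ∃ c, ψ c ≠ 1) (s : Fˣ) :
    lam (s ^ 2) = 1 := by
  obtain ⟨g, hg1, hg⟩ := h.exists_gam hQ hψ (one_ne_zero (α := F))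
  have h1 := h.rel hQ hψ one_ne_zero hg1 hg 1
  have h2 := h.rel hQ hψ one_ne_zero hg1 hg (s ^ 2)
  have h3 : (1 : F) * ((s ^ 2 : Fˣ) : F) = (s : F) ^ 2 * (1 * ((1 : Fˣ) : F)) := by
    push_cast
    ring
  rw [h3, GG_sq, h1] at h2
  have h4 : -(s ^ 2) = -1 * (s ^ 2) := by rw [neg_one_mul]
  rw [h4, h.lam_mul] at h2
  have h5 := h.lam_ne_zero (-1)
  apply mul_left_cancel₀ h5
  rw [← h2, mul_one]

theorem Sys.lam_mul_self (h : Sys P ψ b lam) (hQ : Nondeg Q) (hψ : ∃ c, ψ c ≠ 1) (a : Fˣ) :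
    lam a * lam a = 1 := by
  rw [← h.lam_mul, ← pow_two, h.lam_sq hQ hψ]

theorem Sys.lam_inv (h : Sys P ψ b lam) (hQ : Nondeg Q) (hψ : ∃ c, ψ c ≠ 1) (a : Fˣ) :
    lam a⁻¹ = lam a := by
  have h1 := h.lam_mul a a⁻¹
  rw [mul_inv_cancel, h.act_one] at h1
  have h2 := h.lam_mul_self hQ hψ a
  apply mul_left_cancel₀ (h.lam_ne_zero a)
  rw [← h1, h2]

theorem Sys.exists_lam_ne (h : Sys P ψ b lam) (hψ : ∃ c, ψ c ≠ 1) {k : ℕ} (hT : TF k Q) :
    ∃ a, lam a ≠ 1 := by
  classical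
  by_contra hc
  push Not at hc
  obtain ⟨g, hg1, hg⟩ := h.exists_gam hT.nondeg hψ (one_ne_zero (α := F))
  have h1 : ∑ t : Fˣ, lam (-t) = g * ∑ t : Fˣ, GG Q ψ t := by
    rw [Finset.mul_sum]
    refine Finset.sum_congr rfl fun t _ => ?_
    rw [← h.rel hT.nondeg hψ one_ne_zero hg1 hg t, one_mul]
  rw [sum_GG hψ hT, mul_zero, Finset.sum_congr rfl fun t _ => hc (-t), Finset.sum_const,
    Finset.card_univ, nsmul_eq_mul, mul_one] at h1
  exact (Nat.cast_ne_zero.2 Fintype.card_ne_zero) h1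

/-! ### the Weyl element `nn` -/

omit [Fintype F] [FiniteDimensional F W] in
theorem pr_kconj (u : W × F × F) [Fintype F] : pr (hypSum Q) ψ (TT (H117.kconj P) (hypSum Q)) u =
    pr (hypSum Q) ψ (TT P (hypSum Q)) (kap F W u) := by
  unfold pr
  congr 1
  refine Fintype.sum_equiv (kap F W).toEquiv _ _ fun v => ?_
  have : (kap F W).toEquiv v = kap F W v := rfl
  rw [this, TT_kconj, polar_map (kap_mem_O Q)]

omit [Fintype F] [Fintype W] [FiniteDimensional F W] in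
theorem kconj_nS : (H117.kconj P).R (nS F W) = P.R (nn W 1) := by
  rw [kconj_apply]
  congr 1
  apply LinearEquiv.ext
  rintro ⟨⟨w, x, y⟩, x', y'⟩
  simp only [LinearEquiv.mul_apply]
  rw [io_apply, kap_apply, nS_apply, io_apply, kap_apply, nn1_apply]
  simp

theorem Sys.exists_gam' (h : Sys P ψ b lam) (hQ : Nondeg Q) (hψ : ∃ c, ψ c ≠ 1) :
    ∃ g : ℂ, g ≠ 0 ∧ pr (hypSum Q) ψ (TT P (hypSum Q)) (0, 0, 1) (P.R (nn W 1) (b (0, 0, 1))) =
      g • b (0, 0, 1) := by
  have h' := h.kconj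
  obtain ⟨g, hg1, hg⟩ := h'.exists_gam hQ hψ (one_ne_zero (α := F))
  have h1 := h'.rel hQ hψ one_ne_zero hg1 hg 1
  refine ⟨g, ?_, ?_⟩
  · rintro rfl
    rw [zero_mul] at h1
    exact h.lam_ne_zero _ h1.symm
  · have h2 := hg1 0
    have e : uw Q 1 0 = (0, 1, 0) := by rw [uw]; simp
    rw [e, pr_kconj, kconj_nS, kap_apply] at h2
    exact h2

/-- components of `nS x` for `x` of weight `(w, a, 0)` -/
theorem Sys.L1 (h : Sys P ψ b lam) (hQ : Nondeg Q) (hψ : ∃ c, ψ c ≠ 1) {u : W × F × F} (hu : u ≠ 0)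
    (hu2 : u.2.2 = 0) {x : V} (hx : x ∈ wt (hypSum Q) ψ (TT P (hypSum Q)) u) :
    pr (hypSum Q) ψ (TT P (hypSum Q)) (0, 0, 1) (P.R (nS F W) x) = 0 := by
  have hW := wd_TT (P := P) (nondeg_hypSum hQ) hψ le_rfl
  obtain ⟨w, a, c⟩ := u
  simp only at hu2
  subst hu2
  by_cases ha : a = 0
  · subst ha
    have hw : w ≠ 0 := by
      rintro rfl
      exact hu rfl
    obtain ⟨c, hc⟩ := hψ
    obtain ⟨w', hw'⟩ := hQ.exists_polar_eq hw c
    have e1 : P.R (io 1 (sF Q (-w'))) (P.R (nS F W) x) = ψ c • P.R (nS F W) x := by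
      rw [← P.swap (nS_mem Q) (sE_mem _ _) (io_mem_E (sF_mem Q _)) (nS_mem Q) (nS_sE Q w')]
      have := hx (w', 0, 0)
      rw [TT, polar_hypSum] at this
      rw [this, map_smul]
      simp [hw']
    have e2 := io_pr P (nondeg_hypSum hQ) ⟨c, hc⟩ le_rfl (a := 1) (E_le_O (sF_mem Q (-w')))
      (io_mem_E (sF_mem Q (-w'))) (0, 0, 1) (P.R (nS F W) x)
    obtain ⟨g, hg⟩ := h.span _ (ne_f one_ne_zero) sing_f _
      (pr_mem hW ((0, 0, 1) : W × F × F) (P.R (nS F W) x))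
    have e3 : sF Q (-w') (0, 0, 1) = (0, 0, 1) := by
      rw [sF_apply]; simp
    rw [e1, hg, map_smul, h.act_E (sF_mem Q _) (ne_f one_ne_zero) sing_f, e3, Units.val_one, inv_one,
      one_smul, map_smul, hg] at e2
    rw [hg]
    have e4 : (ψ c - 1) • g • b (0, 0, 1) = 0 := by rw [sub_smul, ← e2, one_smul, sub_self]
    exact (smul_eq_zero.1 e4).resolve_left (sub_ne_zero.2 hc)
  · obtain ⟨t, ht⟩ := exists_psi hψ ha
    have e1 : TT P (hypSum Q) (0, 0, t) (P.R (nS F W) x) = ψ (a * t) • P.R (nS F W) x := by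
      rw [TT, ← P.swap (nS_mem Q) (sE_mem _ _) (sE_mem _ _) (nS_mem Q) (nS_sE_f Q t)]
      have := hx (0, 0, t)
      rw [TT, polar_hypSum] at this
      rw [this, map_smul]
      simp
    have e2 := pr_T hW (0, 0, 1) (0, 0, t) (P.R (nS F W) x)
    rw [psi_polar_zero, one_smul, e1, map_smul] at e2
    · have e4 : (ψ (a * t) - 1) • pr (hypSum Q) ψ (TT P (hypSum Q)) (0, 0, 1) (P.R (nS F W) x) = 0 := by
        rw [sub_smul, e2, one_smul, sub_self]
      exact (smul_eq_zero.1 e4).resolve_left (sub_ne_zero.2 ht)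
    · rw [polar_hypSum]; simp

theorem Sys.L2 (h : Sys P ψ b lam) (hQ : Nondeg Q) (hψ : ∃ c, ψ c ≠ 1) {c : F} (hc : c ≠ 0)
    {u : W × F × F} (hu2 : u.2.2 ≠ 0) :
    pr (hypSum Q) ψ (TT P (hypSum Q)) u (P.R (nn W 1) (b (0, c, 0))) = 0 := by
  have hW := wd_TT (P := P) (nondeg_hypSum hQ) hψ le_rfl
  obtain ⟨t, ht⟩ := exists_psi hψ hu2
  have e1 : TT P (hypSum Q) (0, t, 0) (P.R (nn W 1) (b (0, c, 0))) = P.R (nn W 1) (b (0, c, 0)) := by
    rw [TT, ← P.swap (nn_mem Q 1) (sE_mem _ _) (sE_mem _ _) (nn_mem Q 1) (nn_sE_e Q t)]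
    have := h.mem _ (ne_e hc) sing_e (0, t, 0)
    rw [TT, psi_polar_zero, one_smul] at this
    · rw [this]
    · rw [polar_hypSum]; simp
  have e2 := pr_T hW u (0, t, 0) (P.R (nn W 1) (b (0, c, 0)))
  rw [e1] at e2
  have e3 : polar (hypSum Q) u (0, t, 0) = u.2.2 * t := by
    rw [polar_hypSum]; simp [mul_comm]
  rw [e3] at e2
  have e4 : (ψ (u.2.2 * t) - 1) • pr (hypSum Q) ψ (TT P (hypSum Q)) u (P.R (nn W 1) (b (0, c, 0))) = 0 := by
    rw [sub_smul, ← e2, one_smul, sub_self]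
  exact (smul_eq_zero.1 e4).resolve_left (sub_ne_zero.2 ht)

open Classical in
theorem Sys.L3 (h : Sys P ψ b lam) (hQ : Nondeg Q) (hψ : ∃ c, ψ c ≠ 1) {g' : ℂ}
    (hg' : pr (hypSum Q) ψ (TT P (hypSum Q)) (0, 0, 1) (P.R (nn W 1) (b (0, 0, 1))) = g' • b (0, 0, 1))
    {c : F} (hc : c ≠ 0) (w : W) :
    pr (hypSum Q) ψ (TT P (hypSum Q)) (0, 0, 1) (P.R (nn W 1) (b (uw Q c w))) =
      if -(c * Q w) = 1 then g' • b (0, 0, 1) else 0 := by
  have hW := wd_TT (P := P) (nondeg_hypSum hQ) hψ le_rfl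
  by_cases h1 : -(c * Q w) = 1
  · rw [if_pos h1]
    have e1 : uw Q c w = sE Q (c • w) (0, 0, 1) := by
      rw [sE_apply, uw, h1, QuadraticMap.map_smul]
      ext
      · simp
      · simp only [polar_zero_right, smul_eq_mul]
        linear_combination (-c) * h1
      · rfl
    rw [e1, ← h.act_E (sE_mem Q _) (ne_f one_ne_zero) sing_f,
      P.swap (nn_mem Q 1) (io_mem_E (sE_mem Q _)) (sE_mem _ _) (nn_mem Q 1) (nn_io_sE Q _)]
    have e2 := pr_T hW (0, 0, 1) (c • w, 0, 0) (P.R (nn W 1) (b (0, 0, 1)))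
    rw [psi_polar_zero, one_smul, hg'] at e2
    · exact e2
    · rw [polar_hypSum]; simp
  · rw [if_neg h1]
    obtain ⟨t, ht⟩ := exists_psi hψ (sub_ne_zero.2 h1)
    have e1 : TT P (hypSum Q) (0, t, 0) (P.R (nn W 1) (b (uw Q c w))) =
        ψ (-(c * Q w) * t) • P.R (nn W 1) (b (uw Q c w)) := by
      rw [TT, ← P.swap (nn_mem Q 1) (sE_mem _ _) (sE_mem _ _) (nn_mem Q 1) (nn_sE_e Q t)]
      have := h.mem _ (uw_ne hc w) (uw_sing c w) (0, t, 0)
      rw [TT, polar_hypSum] at this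
      rw [this, map_smul]
      congr 2
      rw [uw]
      simp
      ring
    have e2 := pr_T hW (0, 0, 1) (0, t, 0) (P.R (nn W 1) (b (uw Q c w)))
    rw [e1, map_smul] at e2
    have e3 : polar (hypSum Q) (0, 0, 1) (0, t, 0) = t := by
      rw [polar_hypSum]; simp
    rw [e3] at e2
    have e4 : (ψ (-(c * Q w) * t) - ψ t) •
        pr (hypSum Q) ψ (TT P (hypSum Q)) (0, 0, 1) (P.R (nn W 1) (b (uw Q c w))) = 0 := by
      rw [sub_smul, e2, sub_self]
    refine (smul_eq_zero.1 e4).resolve_left ?_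
    intro h6
    apply ht
    rw [sub_mul, one_mul, AddChar.map_sub_eq_div, div_eq_one_iff_eq (psi_ne _)]
    exact sub_eq_zero.1 h6

end

end Cfsg.Agent.H117
end

-- part: H117/SysC
section
/-!
# The two semi-invariant vectors of a system
-/

set_option autoImplicit false

universe u v

namespace Cfsg.Agent.H117

open QuadraticMap Cfsg.Agent.LieClassical.OrthCore Cfsg.Agent.LieClassical.OrthTrans Module
open Cfsg.Agent.LieClassical.OrthCount (hypSum hypSum_apply polar_hypSum)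

section

variable {F W : Type*} [Field F] [AddCommGroup W] [Module F W] [Fintype F] [Fintype W]
  {Q : QuadraticForm F W} {V : Type*} [AddCommGroup V] [Module ℂ V]
  {P : PRep (E (hypSum (hypSum Q))) V} {ψ : AddChar F ℂ} {b : W × F × F → V} {lam : Fˣ → ℂ}

theorem Th_add (x y : V) : Th P Q ψ (x + y) = Th P Q ψ x + Th P Q ψ y := by
  unfold Th
  rw [map_add, map_add]

theorem Th_smul (c : ℂ) (x : V) : Th P Q ψ (c • x) = c • Th P Q ψ x := by
  unfold Th
  rw [map_smul, map_smul]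

theorem io_conj_mem {a e : Fˣ} {s : W ≃ₗ[F] W} (h : io a (io e s) ∈ E (hypSum (hypSum Q))) :
    io e (io a s) ∈ E (hypSum (hypSum Q)) := by
  have h1 : io e (io a s) = nn W 1 * io a (io e s) * (nn W 1)⁻¹ := by
    rw [nn_io, mul_assoc, mul_inv_cancel, mul_one]
  rw [h1]
  exact (E _).mul_mem ((E _).mul_mem (nn_mem Q 1) h) ((E _).inv_mem (nn_mem Q 1))

variable [Fintype Fˣ] [FiniteDimensional F W]

/-- the vector `z₁` -/
noncomputable def z1 (P : PRep (E (hypSum (hypSum Q))) V) (ψ : AddChar F ℂ) (b : W × F × F → V)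
    (lam : Fˣ → ℂ) : V := ∑ c : Fˣ, lam c • Th P Q ψ (b (0, (c : F), 0))

theorem Sys.pr_nS_Th (h : Sys P ψ b lam) (hQ : Nondeg Q) (hψ : ∃ c, ψ c ≠ 1) {c : F} (hc : c ≠ 0) :
    pr (hypSum Q) ψ (TT P (hypSum Q)) (0, 0, 1) (P.R (nS F W) (Th P Q ψ (b (0, c, 0)))) =
      pr (hypSum Q) ψ (TT P (hypSum Q)) (0, 0, 1) (P.R (nS F W) (P.R (nn W 1) (b (0, c, 0)))) := by
  classical
  have hW := wd_TT (P := P) (nondeg_hypSum hQ) hψ le_rfl
  conv_rhs => rw [← sum_pr hW (P.R (nn W 1) (b (0, c, 0))), map_sum, map_sum]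
  symm
  refine Finset.sum_eq_single (0 : W × F × F) ?_ ?_
  · intro u _ hu
    by_cases hu2 : u.2.2 = 0
    · exact h.L1 hQ hψ hu hu2 (pr_mem hW u _)
    · rw [h.L2 hQ hψ hc hu2, map_zero, map_zero]
  · intro h
    exact absurd (Finset.mem_univ _) h

theorem Sys.z1_ne (h : Sys P ψ b lam) (hψ : ∃ c, ψ c ≠ 1) {k : ℕ} (hT : TF k Q) :
    z1 P ψ b lam ≠ 0 := by
  classical
  have hQ := hT.nondeg
  have hW := wd_TT (P := P) (nondeg_hypSum hQ) hψ le_rfl
  obtain ⟨g', hg'0, hg'⟩ := h.exists_gam' hQ hψ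
  have hgam : ∀ c : Fˣ, ∃ g : ℂ, P.R (nS F W) (b (0, (c : F), 0)) = g • ∑ w : W, b (uw Q c w) ∧
      lam c * g * GG Q ψ 1 = lam (-1) := by
    intro c
    obtain ⟨g, hg1, hg⟩ := h.exists_gam hQ hψ c.ne_zero
    refine ⟨g, hg, ?_⟩
    have h1 := h.rel hQ hψ c.ne_zero hg1 hg c⁻¹
    have h2 : (c : F) * ((c⁻¹ : Fˣ) : F) = 1 := by simp
    rw [h2] at h1
    rw [mul_assoc, h1, ← h.lam_mul]
    congr 1
    simp
  choose g hg hg2 using hgam
  intro h0
  have h1 : pr (hypSum Q) ψ (TT P (hypSum Q)) (0, 0, 1) (P.R (nS F W) (z1 P ψ b lam)) = 0 := by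
    rw [h0, map_zero, map_zero]
  have h2 : ∀ c : Fˣ, pr (hypSum Q) ψ (TT P (hypSum Q)) (0, 0, 1)
      (P.R (nS F W) (lam c • Th P Q ψ (b (0, (c : F), 0)))) =
      (lam c * g c * ((Finset.univ.filter fun w : W => -((c : F) * Q w) = 1).card : ℂ) * g') •
        b (0, 0, 1) := by
    intro c
    rw [map_smul, map_smul, h.pr_nS_Th hQ hψ c.ne_zero,
      ← P.swap (nn_mem Q 1) (nS_mem Q) (nS_mem Q) (nn_mem Q 1) nn_nS, hg, map_smul, map_smul, map_sum,
      map_sum, Finset.sum_congr rfl fun w _ => h.L3 hQ hψ hg' c.ne_zero w, ← Finset.sum_filter,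
      Finset.sum_const, ← Nat.cast_smul_eq_nsmul ℂ, smul_smul, smul_smul, smul_smul]
  unfold z1 at h1
  rw [map_sum, map_sum, Finset.sum_congr rfl fun c _ => h2 c, ← Finset.sum_smul] at h1
  rcases smul_eq_zero.1 h1 with h3 | h3
  · have h4 : (∑ c : Fˣ, lam c * g c *
        ((Finset.univ.filter fun w : W => -((c : F) * Q w) = 1).card : ℂ) * g') * GG Q ψ 1 =
        lam (-1) * g' * ((∑ c : Fˣ, (Finset.univ.filter fun w : W => -((c : F) * Q w) = 1).card : ℕ) : ℂ) := by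
      rw [Finset.sum_mul]
      push_cast
      rw [Finset.mul_sum]
      refine Finset.sum_congr rfl fun c _ => ?_
      rw [← hg2 c]
      ring
    rw [h3, zero_mul] at h4
    have h5 : (∑ c : Fˣ, (Finset.univ.filter fun w : W => -((c : F) * Q w) = 1).card) ≠ 0 := by
      intro h6
      have h7 := Finset.sum_eq_zero_iff.1 h6 (-1) (Finset.mem_univ _)
      rw [Finset.card_eq_zero] at h7
      obtain ⟨w0, hw0⟩ := hT.ns
      have h8 : w0 ∈ Finset.univ.filter fun w : W => -(((-1 : Fˣ) : F) * Q w) = 1 := by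
        rw [Finset.mem_filter]
        refine ⟨Finset.mem_univ _, ?_⟩
        rw [hw0]
        simp
      rw [h7] at h8
      exact absurd h8 (Finset.notMem_empty _)
    have h6 : ((∑ c : Fˣ, (Finset.univ.filter fun w : W => -((c : F) * Q w) = 1).card : ℕ) : ℂ) ≠ 0 :=
      Nat.cast_ne_zero.2 h5
    exact mul_ne_zero (mul_ne_zero (h.lam_ne_zero _) hg'0) h6 h4.symm
  · exact h.ne _ (ne_f one_ne_zero) sing_f h3

omit [FiniteDimensional F W] in
theorem z1_mem (hQ : Nondeg Q) (hψ : ∃ c, ψ c ≠ 1) :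
    z1 P ψ b lam ∈ wt (hypSum Q) ψ (TT P (hypSum Q)) 0 :=
  Submodule.sum_mem _ fun _ _ => Submodule.smul_mem _ _ (Th_mem P hQ hψ le_rfl _)

theorem Sys.z1_io (h : Sys P ψ b lam) (hQ : Nondeg Q) (hψ : ∃ c, ψ c ≠ 1) {a e : Fˣ} {s : W ≃ₗ[F] W}
    (hs : s ∈ SO Q) (hg : io a (io e s) ∈ E (hypSum (hypSum Q))) :
    P.R (io a (io e s)) (z1 P ψ b lam) = lam a • z1 P ψ b lam := by
  have hg' := io_conj_mem hg
  unfold z1
  rw [map_sum, Finset.smul_sum]
  have h1 : ∀ c : Fˣ, P.R (io a (io e s)) (lam c • Th P Q ψ (b (0, (c : F), 0))) =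
      lam a • lam (e⁻¹ * a * c) • Th P Q ψ (b (0, ((e⁻¹ * a * c : Fˣ) : F), 0)) := by
    intro c
    rw [map_smul, Th_io P hQ hψ le_rfl (SO_le_O hs) hg hg',
      h.act e _ (io_mem_SO.2 hs) hg' _ (ne_e c.ne_zero) sing_e, Th_smul, smul_smul, smul_smul, io_apply]
    have e1 : ((e : F)⁻¹ • ((s 0, (a : F) * c, (a : F)⁻¹ * 0) : W × F × F)) =
        (0, ((e⁻¹ * a * c : Fˣ) : F), 0) := by
      ext <;> simp
      ring
    rw [e1, h.lam_mul, h.lam_mul, h.lam_inv hQ hψ]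
    congr 1
    have := h.lam_mul_self hQ hψ a
    linear_combination (-(lam c * lam e)) * this
  rw [Finset.sum_congr rfl fun c _ => h1 c]
  exact Fintype.sum_equiv (Equiv.mulLeft (e⁻¹ * a))
    (fun c : Fˣ => lam a • lam (e⁻¹ * a * c) • Th P Q ψ (b (0, ((e⁻¹ * a * c : Fˣ) : F), 0)))
    (fun c : Fˣ => lam a • lam c • Th P Q ψ (b (0, (c : F), 0))) fun c => rfl

omit [FiniteDimensional F W] in
theorem Sys.z1_sE (h : Sys P ψ b lam) (hQ : Nondeg Q) (hψ : ∃ c, ψ c ≠ 1) (w : W) :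
    P.R (io 1 (sE Q w)) (z1 P ψ b lam) = z1 P ψ b lam := by
  unfold z1
  rw [map_sum]
  refine Finset.sum_congr rfl fun c _ => ?_
  rw [map_smul, Th_sE P hQ hψ le_rfl]
  congr 2
  have := h.mem _ (ne_e c.ne_zero) sing_e (-w, 0, 0)
  rw [TT, psi_polar_zero, one_smul] at this
  · exact this
  · rw [polar_hypSum]; simp

/-- the output of this file -/
theorem Sys.exists_z (h : Sys P ψ b lam) (hψ : ∃ c, ψ c ≠ 1) {k : ℕ} (hT : TF k Q) :
    ∃ z z' : V, z ≠ 0 ∧ z' ≠ 0 ∧ (∀ v, P.R (sE (hypSum Q) v) z = z) ∧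
      (∀ v, P.R (sE (hypSum Q) v) z' = z') ∧ (∀ w, P.R (io 1 (sE Q w)) z = z) ∧
      (∀ w, P.R (io 1 (sE Q w)) z' = z') ∧
      (∀ (a e : Fˣ) (s : W ≃ₗ[F] W), s ∈ SO Q → io a (io e s) ∈ E (hypSum (hypSum Q)) →
        P.R (io a (io e s)) z = lam a • z) ∧
      (∀ (a e : Fˣ) (s : W ≃ₗ[F] W), s ∈ SO Q → io a (io e s) ∈ E (hypSum (hypSum Q)) →
        P.R (io a (io e s)) z' = lam e • z') := by
  have hQ := hT.nondeg
  have hz0 : z1 P ψ b lam ∈ wt (hypSum Q) ψ (TT P (hypSum Q)) 0 := z1_mem hQ hψ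
  have hz0' := mem_wt_zero.1 hz0
  refine ⟨z1 P ψ b lam, Th P Q ψ (z1 P ψ b lam), h.z1_ne hψ hT, ?_, hz0',
    mem_wt_zero.1 (Th_mem P hQ hψ le_rfl _), h.z1_sE hQ hψ, ?_, ?_, ?_⟩
  · exact Th_ne P hQ hψ le_rfl (h.z1_ne hψ hT) hz0 (h.z1_sE hQ hψ) (χ := lam)
      fun c => h.z1_io hQ hψ (SO Q).one_mem (hh_mem Q c)
  · intro w
    rw [Th_sE P hQ hψ le_rfl]
    congr 1
    exact hz0' _
  · intro a e s hs hg
    exact h.z1_io hQ hψ hs hg
  · intro a e s hs hg
    rw [Th_io P hQ hψ le_rfl (SO_le_O hs) hg (io_conj_mem hg), h.z1_io hQ hψ hs (io_conj_mem hg), Th_smul]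

end

end Cfsg.Agent.H117
end

-- part: H117/MainB
section
/-!
# The minimal degree bound for the tower
-/

set_option autoImplicit false

universe u v

namespace Cfsg.Agent.H117

open QuadraticMap Cfsg.Agent.LieClassical.OrthCore Cfsg.Agent.LieClassical.OrthTrans Module
open Cfsg.Agent.LieClassical.OrthCount (hypSum hypSum_apply polar_hypSum)

section

variable {F W' : Type*} [Field F] [AddCommGroup W'] [Module F W'] [Fintype F] [Fintype W']
  {Q' : QuadraticForm F W'}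
  {V : Type v} [AddCommGroup V] [Module ℂ V] [FiniteDimensional ℂ V]

/-- the main bound, given lemma `T` for the smaller space -/
theorem bound_of_PT (h2 : (2 : F) ≠ 0) (hq : 5 ≤ Fintype.card F) {k : ℕ} (hT : TF k Q') {ψ : AddChar F ℂ}
    (hψ : ∃ c, ψ c ≠ 1) (hPT : ∀ χ : Fˣ → ℂ, (∃ a, χ a ≠ 1) → PT.{v} χ k Q')
    (P : PRep (E (hypSum (hypSum (hypSum Q')))) V)
    (hnt : ∃ (v : (W' × F × F) × F × F) (x : V), P.R (sE (hypSum (hypSum Q')) v) x ≠ x) :
    tt (Fintype.card F) (k + 3) ≤ finrank ℂ V := by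
  classical
  by_contra hD
  push Not at hD
  obtain ⟨⟨b, lam, hS⟩, hdim⟩ := exists_sys h2 hq hT hψ P hnt hD
  have hfd := hT.fd
  have hT1 := hT.step h2
  have hT2 := hT1.step h2
  have hfd1 := hT1.fd
  have hfd2 := hT2.fd
  have hT3 := hT2.step h2
  have hW := wd_TT (P := P) hT2.nondeg hψ le_rfl
  obtain ⟨z, z', hz, hz', hz0, hz0', hz1, hz1', hz2, hz2'⟩ := hS.exists_z hψ hT1
  obtain ⟨a0, ha0⟩ := hS.exists_lam_ne hψ hT1
  -- squares
  have hsq : ∀ c : Fˣ, io c (1 : ((W' × F × F) × F × F) ≃ₗ[F] ((W' × F × F) × F × F)) ∈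
      E (hypSum (hypSum (hypSum Q'))) → lam c = 1 := by
    intro c hc
    have h3 : IsSquare (c : F) := isSquare_of_io_mem h2 hT3.nondeg (by rw [hT3.rank]; omega) hc
    obtain ⟨d, hd⟩ := h3
    have hd0 : d ≠ 0 := by
      rintro rfl
      rw [mul_zero] at hd
      exact c.ne_zero hd
    have hc : c = (Units.mk0 d hd0) ^ 2 := by
      apply Units.ext
      rw [hd, Units.val_pow_eq_pow_val, Units.val_mk0, pow_two]
    rw [hc, hS.lam_sq hT1.nondeg hψ]
  -- the subspace `N`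
  let N : Submodule ℂ V :=
    { carrier := {x | (∀ v, P.R (sE (hypSum (hypSum Q')) v) x = x) ∧
        ∀ c : Fˣ, io c (1 : ((W' × F × F) × F × F) ≃ₗ[F] ((W' × F × F) × F × F)) ∈
          E (hypSum (hypSum (hypSum Q'))) → P.R (io c 1) x = x}
      add_mem' := by
        rintro x y ⟨hx, hx'⟩ ⟨hy, hy'⟩
        exact ⟨fun v => by rw [map_add, hx, hy], fun c hc => by rw [map_add, hx' c hc, hy' c hc]⟩
      zero_mem' := ⟨fun v => map_zero _, fun c _ => map_zero _⟩
      smul_mem' := by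
        rintro r x ⟨hx, hx'⟩
        exact ⟨fun v => by rw [map_smul, hx], fun c hc => by rw [map_smul, hx' c hc]⟩ }
  have hNwt : N ≤ wt (hypSum (hypSum Q')) ψ (TT P (hypSum (hypSum Q'))) 0 :=
    fun x hx => mem_wt_zero.2 hx.1
  have h1SO : ∀ {a : Fˣ}, io a (1 : (W' × F × F) ≃ₗ[F] (W' × F × F)) ∈ SO (hypSum (hypSum Q')) :=
    io_mem_SO.2 (SO _).one_mem
  have hzN : z ∈ N := by
    refine ⟨hz0, fun c hc => ?_⟩
    have h3 := hz2 c 1 1 (SO _).one_mem (by rw [io_one]; exact hc)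
    rw [io_one, hsq c hc, one_smul] at h3
    exact h3
  have hzN' : z' ∈ N := by
    refine ⟨hz0', fun c hc => ?_⟩
    have h3 := hz2' c 1 1 (SO _).one_mem (by rw [io_one]; exact hc)
    rw [io_one, hS.act_one, one_smul] at h3
    exact h3
  -- the lift
  have hDD := hT2.dd
  let φ0 : (((W' × F × F) × F × F) ≃ₗ[F] ((W' × F × F) × F × F)) → Fˣ := fun s =>
    if h : s ∈ SO (hypSum (hypSum Q')) then (hDD s h).choose else 1
  have hφ0 : ∀ s ∈ SO (hypSum (hypSum Q')), io (φ0 s) s ∈ E (hypSum (hypSum (hypSum Q'))) := by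
    intro s hs
    have : φ0 s = (hDD s hs).choose := dif_pos hs
    rw [this]
    exact (hDD s hs).choose_spec
  -- two lifts differ by an element fixing `N`
  have hlift : ∀ (s : ((W' × F × F) × F × F) ≃ₗ[F] ((W' × F × F) × F × F)) (c c' : Fˣ),
      io c s ∈ E (hypSum (hypSum (hypSum Q'))) → io c' s ∈ E (hypSum (hypSum (hypSum Q'))) →
      ∀ x ∈ N, P.R (io c s) x = P.R (io c' s) x := by
    intro s c c' hc hc' x hx
    have h3 : io (c'⁻¹ * c) (1 : ((W' × F × F) × F × F) ≃ₗ[F] ((W' × F × F) × F × F)) ∈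
        E (hypSum (hypSum (hypSum Q'))) := by
      have := (E _).mul_mem ((E _).inv_mem hc') hc
      rwa [io_inv, io_mul, inv_mul_cancel] at this
    have h4 : io c s = io c' s * io (c'⁻¹ * c) 1 := by rw [io_mul, mul_inv_cancel_left, mul_one]
    rw [h4, P.mul' hc' h3, hx.2 _ h3]
  have hN : ∀ s ∈ SO (hypSum (hypSum Q')), ∀ x ∈ N, P.R (io (φ0 s) s) x ∈ N := by
    rintro s hs x ⟨hx, hx'⟩
    refine ⟨fun v => ?_, fun c hc => ?_⟩
    · have h11 := io_wt P le_rfl (ψ := ψ) (SO_le_O hs) (hφ0 s hs) (u := 0) (x := x) (mem_wt_zero.2 hx)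
      rw [map_zero, smul_zero] at h11
      exact mem_wt_zero.1 h11 v
    · have e1 : io c 1 * io (φ0 s) s = io (φ0 s) s *
          io c (1 : ((W' × F × F) × F × F) ≃ₗ[F] ((W' × F × F) × F × F)) := by
        rw [io_mul, io_mul, mul_comm c, one_mul, mul_one]
      rw [P.swap hc (hφ0 s hs) (hφ0 s hs) hc e1, hx' c hc]
  obtain ⟨P', hP'⟩ := P.exists_sub (G' := SO (hypSum (hypSum Q'))) N (fun s => io (φ0 s) s) hN
    (fun x hx => hx.2 _ (hφ0 1 (SO _).one_mem))
    (fun s hs t ht x hx => by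
      rw [← P.mul' (hφ0 s hs) (hφ0 t ht), io_mul]
      refine hlift _ _ _ (hφ0 _ ((SO _).mul_mem hs ht)) ?_ x hx
      rw [← io_mul]
      exact (E _).mul_mem (hφ0 s hs) (hφ0 t ht))
  -- action of elements of `E`
  have hPE : ∀ s ∈ E (hypSum (hypSum Q')), ∀ x : N, (P'.R s x : V) = P.R (io 1 s) x := by
    intro s hs x
    rw [hP' s (E_le_SO hs)]
    exact hlift s _ _ (hφ0 s (E_le_SO hs)) (io_mem_E hs) x x.2
  -- properties of `z` and `z'` in `N`
  have hzz0 : ∀ v, P'.R (sE (hypSum Q') v) (⟨z, hzN⟩ : N) = ⟨z, hzN⟩ := by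
    intro v
    apply Subtype.ext
    rw [hPE _ (sE_mem _ v)]
    exact hz1 v
  have hzz0' : ∀ v, P'.R (sE (hypSum Q') v) (⟨z', hzN'⟩ : N) = ⟨z', hzN'⟩ := by
    intro v
    apply Subtype.ext
    rw [hPE _ (sE_mem _ v)]
    exact hz1' v
  have hzz1' : ∀ (a : Fˣ) (s : (W' × F × F) ≃ₗ[F] (W' × F × F)), s ∈ SO (hypSum Q') →
      P'.R (io a s) (⟨z', hzN'⟩ : N) = lam a • (⟨z', hzN'⟩ : N) := by
    intro a s hs
    apply Subtype.ext
    rw [hP' _ (io_mem_SO.2 hs)]
    exact hz2' _ a s hs (hφ0 _ (io_mem_SO.2 hs))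
  have hzz1 : ∀ a : Fˣ, P'.R (io a 1) (⟨z, hzN⟩ : N) = lam a • (⟨z, hzN⟩ : N) := by
    intro a
    apply Subtype.ext
    rw [hP' _ h1SO, hlift _ _ a (hφ0 _ h1SO) (zz_mem (hypSum Q') a) _ hzN]
    exact hz2 a a 1 (SO _).one_mem (zz_mem (hypSum Q') a)
  -- lemma `T`
  have hstep := PT_step h2 hq ⟨a0, ha0⟩ hψ hT (hPT lam ⟨a0, ha0⟩) P' (z := ⟨z', hzN'⟩)
    (fun h => hz' (congrArg Subtype.val h)) hzz0' hzz1'
  -- two independent vectors
  have htwo : 2 ≤ finrank ℂ (Neig P' (hypSum Q') lam) := by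
    let y : Neig P' (hypSum Q') lam := ⟨⟨z, hzN⟩, hzz0, hzz1⟩
    let y' : Neig P' (hypSum Q') lam := ⟨⟨z', hzN'⟩, hzz0', fun a => hzz1' a 1 (SO _).one_mem⟩
    -- the separating element
    have hsep : io a0 (io 1 (io a0 (1 : W' ≃ₗ[F] W'))) ∈ E (hypSum (hypSum (hypSum Q'))) := by
      have h3 := (E _).mul_mem (zz_mem (hypSum Q') a0) (io_mem_E (hh_mem Q' a0⁻¹))
      rw [inv_inv, io_mul, io_mul, mul_one, mul_inv_cancel, one_mul] at h3
      exact h3
    have hs1 : io a0 (1 : W' ≃ₗ[F] W') ∈ SO (hypSum Q') := io_mem_SO.2 (SO _).one_mem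
    have e1 := hz2 a0 1 _ hs1 hsep
    have e2 := hz2' a0 1 _ hs1 hsep
    rw [hS.act_one, one_smul] at e2
    have hli : LinearIndependent ℂ ![y, y'] := by
      rw [LinearIndependent.pair_iff]
      intro s t hst
      have h3 : s • z + t • z' = 0 := congrArg (fun x : Neig P' (hypSum Q') lam => ((x : N) : V)) hst
      have h4 := congrArg (P.R (io a0 (io 1 (io a0 (1 : W' ≃ₗ[F] W'))))) h3
      rw [map_add, map_smul, map_smul, e1, e2, map_zero] at h4
      have h5 : (s * (lam a0 - 1)) • z = 0 := by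
        have h6 : s • lam a0 • z - s • z = 0 := by
          have h7 : s • lam a0 • z = -(t • z') := eq_neg_of_add_eq_zero_left h4
          have h8 : s • z = -(t • z') := eq_neg_of_add_eq_zero_left h3
          rw [h7, h8, sub_self]
        rw [mul_sub, sub_smul, mul_one, mul_smul]
        exact h6
      have h6 : s = 0 := by
        rcases smul_eq_zero.1 h5 with h7 | h7
        · exact (mul_eq_zero.1 h7).resolve_right (sub_ne_zero.2 ha0)
        · exact absurd h7 hz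
      refine ⟨h6, ?_⟩
      rw [h6, zero_smul, zero_add] at h3
      exact (smul_eq_zero.1 h3).resolve_right hz'
    have h3 := hli.fintype_card_le_finrank
    simpa using h3
  have hNle : finrank ℂ N ≤ finrank ℂ (wt (hypSum (hypSum Q')) ψ (TT P (hypSum (hypSum Q'))) 0) :=
    Submodule.finrank_mono hNwt
  have e3 : tt (Fintype.card F) (k + 3) =
      tt (Fintype.card F) (k + 1) + Fintype.card F ^ (2 * (k + 1)) + Fintype.card F ^ (2 * (k + 2)) := rfl
  have e4 : 2 * k + 2 = 2 * (k + 1) := by ring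
  have e5 : 2 * (k + 1) + 2 = 2 * (k + 2) := by ring
  rw [e4] at hstep
  rw [e5] at hdim
  have h8 : 1 ≤ Fintype.card F ^ (2 * (k + 1)) := Nat.one_le_pow _ _ (by omega)
  have h9 : 1 ≤ Fintype.card F ^ (2 * (k + 2)) := Nat.one_le_pow _ _ (by omega)
  omega

end

end Cfsg.Agent.H117
end

-- part: H117/OmegaOdd
section
/-!
# Non-trivial representations of `Ω_{2n+1}(q)`, `q ≥ 5` odd, `n ≥ 3`

`omega_bound`: every non-trivial complex representation has degree at least `tt q n = (q^{2n} - 1)/(q² - 1)`.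
-/

set_option autoImplicit false

universe u v

namespace Cfsg.Agent.H117

open QuadraticMap Cfsg.Agent.LieClassical.OrthCore Cfsg.Agent.LieClassical.OrthTrans Module
open Cfsg.Agent.LieClassical.OrthCount (hypSum hypSum_apply polar_hypSum)
open Cfsg.Agent.LieClassical.OrthForms (oddForm coe_oddForm nondeg_oddForm)

section

variable {F W : Type*} [Field F] [AddCommGroup W] [Module F W] {Q : QuadraticForm F W}
  {V : Type*} [AddCommGroup V] [Module ℂ V]

/-- if the radical acts trivially, so does the whole group -/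
theorem trivial_of_sE (hG : Good (hypSum Q)) (P : PRep (E (hypSum Q)) V)
    (h : ∀ (v : W) (x : V), P.R (sE Q v) x = x) {g : (W × F × F) ≃ₗ[F] (W × F × F)}
    (hg : g ∈ E (hypSum Q)) (x : V) : P.R g x = x := by
  let K : Subgroup ((W × F × F) ≃ₗ[F] (W × F × F)) :=
    { carrier := {g | g ∈ E (hypSum Q) ∧ ∀ x, P.R g x = x}
      mul_mem' := by
        rintro g k ⟨hg, hg'⟩ ⟨hk, hk'⟩
        exact ⟨(E _).mul_mem hg hk, fun x => by rw [P.mul' hg hk, hk', hg']⟩
      one_mem' := ⟨(E _).one_mem, fun x => P.one' x⟩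
      inv_mem' := by
        rintro g ⟨hg, hg'⟩
        refine ⟨(E _).inv_mem hg, fun x => ?_⟩
        conv_lhs => rw [← hg' x]
        exact P.inv' hg x }
  have hK : E (hypSum Q) ≤ K := by
    conv_lhs => rw [E]
    rw [Subgroup.closure_le]
    rintro _ ⟨u, w, hu, hw, rfl⟩
    refine ⟨siegel_mem_E _ _, fun x => ?_⟩
    by_cases hu0 : u = 0
    · subst hu0
      have : siegel (hypSum Q) 0 w hu hw = 1 := by
        apply LinearEquiv.ext
        intro v
        rw [siegel_apply]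
        simp
      rw [this, P.one']
    · obtain ⟨g, hg, e⟩ := hG.trans_sing hu (hyp0 Q).left hu0 (hyp0 Q).left_ne
      have hgO := E_le_O hg
      have hu' : hypSum Q (g u) = 0 := by rw [mem_O.1 hgO, hu]
      have hw' : polar (hypSum Q) (g u) (g w) = 0 := by rw [polar_map hgO, hw]
      have e1 := siegel_conj hgO hu hw hu' hw'
      have hw'' : polar (hypSum Q) (e0 F W) (g w) = 0 := by rw [← e]; exact hw'
      have e2 : siegel (hypSum Q) (g u) (g w) hu' hw' = sE Q (g w).1 := by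
        have h3 : (g w).2.2 = 0 := by
          rw [polar_hypSum] at hw''
          simpa [e0] using hw''
        have h4 : g w = ((g w).1, 0, 0) + (g w).2.1 • e0 F W := by
          rw [smul_e0]
          ext
          · simp
          · simp
          · simp [h3]
        have h5 : polar (hypSum Q) (e0 F W) (((g w).1, 0, 0) + (g w).2.1 • e0 F W) = 0 := by
          rw [← h4]; exact hw''
        rw [sE, ← siegel_add_smul (hyp0 Q).left (polar_e0 Q _) (g w).2.1 h5]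
        apply LinearEquiv.ext
        intro v
        rw [siegel_apply, siegel_apply, ← h4, e]
      rw [e2] at e1
      have e3 : siegel (hypSum Q) u w hu hw = g⁻¹ * sE Q (g w).1 * g := by
        rw [← e1]
        group
      rw [e3, P.mul' ((E _).mul_mem ((E _).inv_mem hg) (sE_mem Q _)) hg,
        P.mul' ((E _).inv_mem hg) (sE_mem Q _), h, P.inv' hg]
  exact (hK hg).2 x

end

/-- the bound for the groups `E` of the tower -/
theorem tower_bound {F : Type u} [Field F] [Fintype F] (h2 : (2 : F) ≠ 0) (hq : 5 ≤ Fintype.card F)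
    {k : ℕ} {W : Type u} [AddCommGroup W] [Module F W] {Q : QuadraticForm F W}
    (h : IsTw F (k + 3) W Q) {V : Type v} [AddCommGroup V] [Module ℂ V] [FiniteDimensional ℂ V]
    (ρ : Representation ℂ (E Q) V) (hρ : ∃ g, ρ g ≠ 1) : tt (Fintype.card F) (k + 3) ≤ finrank ℂ V := by
  cases h with
  | step h =>
    cases h with
    | step h =>
      cases h with
      | @step _ W' _ _ Q' h =>
        have hT := h.tf h2
        have hT1 := hT.step h2
        have hT2 := hT1.step h2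
        have hT3 := hT2.step h2
        have := hT.finite
        have : Fintype W' := Fintype.ofFinite W'
        obtain ⟨ψ, hψ⟩ := AddChar.exists_apply_ne_zero.2 (one_ne_zero (α := F))
        have hfd := hT.fd
        refine bound_of_PT h2 hq hT ⟨1, hψ⟩ (fun χ hχ => IsTw.PT h2 hq hχ ⟨1, hψ⟩ h) (PRep.ofRep ρ) ?_
        by_contra hc
        push Not at hc
        obtain ⟨g, hg⟩ := hρ
        apply hg
        have hG : Good (hypSum (hypSum (hypSum Q'))) := by
          apply Cfsg.Agent.LieClassical.OrthFinite.good_of_finite hT3.nondeg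
          rw [hT3.rank]
          omega
        apply LinearMap.ext
        intro x
        have h3 := trivial_of_sE hG (PRep.ofRep ρ) hc g.2 x
        rw [PRep.ofRep_apply ρ g.2] at h3
        exact h3

/-- the bound for `Ω_{2n+1}(q)` -/
theorem omega_bound' {F : Type u} [Field F] [Fintype F] (h2 : (2 : F) ≠ 0) (hq : 5 ≤ Fintype.card F)
    {n : ℕ} (hn : 3 ≤ n) {V : Type v} [AddCommGroup V] [Module ℂ V] [FiniteDimensional ℂ V]
    (ρ : Representation ℂ (Cfsg.Omega F ⇑(oddForm n F)) V) (hρ : ∃ g, ρ g ≠ 1) :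
    tt (Fintype.card F) n ≤ finrank ℂ V := by
  obtain ⟨k, rfl⟩ : ∃ k, n = k + 3 := ⟨n - 3, by omega⟩
  obtain ⟨W, _, _, Q, e, h, he⟩ := exists_isTw F (k + 3)
  have he' : ∀ v, oddForm (k + 3) F (e v) = Q v := fun v => by rw [coe_oddForm, he]
  have hT := h.tf h2
  have hG : Good (oddForm (k + 3) F) := by
    apply Cfsg.Agent.LieClassical.OrthFinite.good_of_finite (nondeg_oddForm _ _ h2)
    rw [← e.finrank_eq, hT.rank]
    omega
  let θ : E Q ≃* Cfsg.Omega F ⇑(oddForm (k + 3) F) :=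
    (((ce e).subgroupMap (E Q)).trans (MulEquiv.subgroupCongr (map_E he'))).trans
      ((MulEquiv.subgroupCongr hG.commutator_eq_E.symm).trans
        (Cfsg.Agent.LieClassical.OrthFinite.omegaEquiv (oddForm (k + 3) F)).symm)
  let ρ' : Representation ℂ (E Q) V := ρ.comp θ.toMonoidHom
  refine tower_bound h2 hq h ρ' ?_
  obtain ⟨g, hg⟩ := hρ
  refine ⟨θ.symm g, ?_⟩
  intro h3
  apply hg
  have h4 : ρ' (θ.symm g) = ρ (θ (θ.symm g)) := rfl
  rw [h4, MulEquiv.apply_symm_apply] at h3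
  exact h3

theorem omega_bound {F : Type u} [Field F] [Fintype F] (h2 : (2 : F) ≠ 0) (hq : 5 ≤ Fintype.card F)
    {n : ℕ} (hn : 3 ≤ n) {V : Type v} [AddCommGroup V] [Module ℂ V] [FiniteDimensional ℂ V]
    (ρ : Representation ℂ (Cfsg.Omega F (Cfsg.quadFormOdd n F)) V) (hρ : ∃ g, ρ g ≠ 1) :
    tt (Fintype.card F) n ≤ finrank ℂ V := by
  revert ρ
  rw [← coe_oddForm]
  intro ρ hρ
  exact omega_bound' h2 hq hn ρ hρ

end Cfsg.Agent.H117
end
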