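import Cfsg.Agent.LieClassical.OrthCore
import Cfsg.Agent.LieClassical.OrthTrans
import Cfsg.Agent.LieClassical.OrthCount
import Cfsg.Agent.LieClassical.OrthForms
set_option linter.all false

-- part: H117/PRep
section
/-!
# Partial representations and weight spaces

`PRep G V`: operators `R g` on `V` for all `g` in the ambient group, multiplicative on the subgroup `G`.
`Wt`: weight spaces of an action of a finite quadratic space, indexed by the space itself.
-/

set_option autoImplicit false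

namespace Cfsg.Agent.H117

open QuadraticMap Cfsg.Agent.LieClassical.OrthCore Module

/-- operators indexed by the ambient group, multiplicative on `G` -/
structure PRep {H : Type*} [Group H] (G : Subgroup H) (V : Type*) [AddCommGroup V] [Module ℂ V] where
  R : H → Module.End ℂ V
  one : R 1 = 1
  mul : ∀ g ∈ G, ∀ h ∈ G, R (g * h) = R g * R h

namespace PRep

variable {H : Type*} [Group H] {G : Subgroup H} {V : Type*} [AddCommGroup V] [Module ℂ V] (P : PRep G V)

theorem mul' {g h : H} (hg : g ∈ G) (hh : h ∈ G) (x : V) : P.R (g * h) x = P.R g (P.R h x) := by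
  rw [P.mul g hg h hh, Module.End.mul_apply]

theorem one' (x : V) : P.R 1 x = x := by rw [P.one, Module.End.one_apply]

theorem inv_mul {g : H} (hg : g ∈ G) : P.R g⁻¹ * P.R g = 1 := by
  rw [← P.mul _ (G.inv_mem hg) _ hg, inv_mul_cancel, P.one]

theorem inv' {g : H} (hg : g ∈ G) (x : V) : P.R g⁻¹ (P.R g x) = x := by
  rw [← P.mul' (G.inv_mem hg) hg, inv_mul_cancel, P.one']

theorem inv'' {g : H} (hg : g ∈ G) (x : V) : P.R g (P.R g⁻¹ x) = x := by
  rw [← P.mul' hg (G.inv_mem hg), mul_inv_cancel, P.one']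

theorem inj {g : H} (hg : g ∈ G) {x y : V} (h : P.R g x = P.R g y) : x = y := by
  rw [← P.inv' hg x, h, P.inv' hg]

theorem ne_zero {g : H} (hg : g ∈ G) {x : V} (h : x ≠ 0) : P.R g x ≠ 0 := by
  intro h1
  apply h
  apply P.inj hg
  rw [h1, map_zero]

theorem swap {g h h' g' : H} (hg : g ∈ G) (hh : h ∈ G) (hh' : h' ∈ G) (hg' : g' ∈ G)
    (e : g * h = h' * g') (x : V) : P.R g (P.R h x) = P.R h' (P.R g' x) := by
  rw [← P.mul' hg hh, e, P.mul' hh' hg']

/-- passing to a subspace and to another group -/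
theorem exists_sub {H' : Type*} [Group H'] {G' : Subgroup H'} (N : Submodule ℂ V) (φ : H' → H)
    (hN : ∀ s ∈ G', ∀ x ∈ N, P.R (φ s) x ∈ N) (h1 : ∀ x ∈ N, P.R (φ 1) x = x)
    (hm : ∀ s ∈ G', ∀ t ∈ G', ∀ x ∈ N, P.R (φ (s * t)) x = P.R (φ s) (P.R (φ t) x)) :
    ∃ P' : PRep G' N, ∀ s ∈ G', ∀ x : N, (P'.R s x : V) = P.R (φ s) x := by
  obtain ⟨π, hπ⟩ := N.subtype.exists_leftInverse_of_injective (Submodule.ker_subtype N)
  have hπ' : ∀ x : N, π x = x := fun x => LinearMap.congr_fun hπ x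
  have key : ∀ s ∈ G', ∀ x : N, (((π ∘ₗ P.R (φ s) ∘ₗ N.subtype) x : N) : V) = P.R (φ s) x := by
    intro s hs x
    have h2 := hπ' ⟨P.R (φ s) x, hN s hs x x.2⟩
    exact congrArg Subtype.val h2
  refine ⟨⟨fun s => π ∘ₗ P.R (φ s) ∘ₗ N.subtype, ?_, ?_⟩, key⟩
  · apply LinearMap.ext
    intro x
    apply Subtype.ext
    rw [key 1 G'.one_mem, h1 x x.2, Module.End.one_apply]
  · intro g hg h hh
    apply LinearMap.ext
    intro x
    apply Subtype.ext
    rw [key _ (G'.mul_mem hg hh), hm g hg h hh x x.2, Module.End.mul_apply, key g hg, key h hh]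

/-- a representation of a subgroup -/
noncomputable def ofRep (ρ : Representation ℂ G V) : PRep G V := by
  classical
  exact
    { R := fun g => if h : g ∈ G then ρ ⟨g, h⟩ else 1
      one := by
        rw [dif_pos G.one_mem]
        exact map_one ρ
      mul := by
        intro g hg h hh
        rw [dif_pos hg, dif_pos hh, dif_pos (G.mul_mem hg hh), ← map_mul]
        rfl }

theorem ofRep_apply (ρ : Representation ℂ G V) {g : H} (hg : g ∈ G) : (ofRep ρ).R g = ρ ⟨g, hg⟩ := by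
  unfold ofRep
  exact dif_pos hg

end PRep

/-! ### weights -/

section Wt

variable {F A : Type*} [Field F] [AddCommGroup A] [Module F A] {V : Type*} [AddCommGroup V] [Module ℂ V]

/-- the character `v ↦ ψ (B(u, v))` -/
noncomputable def ch (Q : QuadraticForm F A) (ψ : AddChar F ℂ) (u : A) : AddChar A ℂ :=
  ψ.compAddMonoidHom (polarBilin Q u).toAddMonoidHom

theorem ch_apply (Q : QuadraticForm F A) (ψ : AddChar F ℂ) (u v : A) :
    ch Q ψ u v = ψ (polar Q u v) := rfl

/-- the standing assumptions: a finite nondegenerate quadratic space, a nontrivial additive character and an action -/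
structure WD (Q : QuadraticForm F A) (ψ : AddChar F ℂ) (T : A → Module.End ℂ V) : Prop where
  nondeg : Nondeg Q
  psi : ∃ c, ψ c ≠ 1
  zero : T 0 = 1
  add : ∀ a b, T (a + b) = T a * T b

/-- weight space -/
def wt (Q : QuadraticForm F A) (ψ : AddChar F ℂ) (T : A → Module.End ℂ V) (u : A) : Submodule ℂ V where
  carrier := {x | ∀ v, T v x = ψ (polar Q u v) • x}
  add_mem' := by
    intro x y hx hy v
    rw [map_add, hx v, hy v, smul_add]
  zero_mem' := by
    intro v
    rw [map_zero, smul_zero]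
  smul_mem' := by
    intro c x hx v
    rw [map_smul, hx v, smul_comm]

theorem mem_wt {Q : QuadraticForm F A} {ψ : AddChar F ℂ} {T : A → Module.End ℂ V} {u : A} {x : V} :
    x ∈ wt Q ψ T u ↔ ∀ v, T v x = ψ (polar Q u v) • x := Iff.rfl

variable [Fintype A]

/-- projection to the weight space -/
noncomputable def pr (Q : QuadraticForm F A) (ψ : AddChar F ℂ) (T : A → Module.End ℂ V) (u : A) :
    Module.End ℂ V := (Fintype.card A : ℂ)⁻¹ • ∑ v, ψ (-(polar Q u v)) • T v

variable {Q : QuadraticForm F A} {ψ : AddChar F ℂ} {T : A → Module.End ℂ V}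

omit [Fintype A] in
theorem psi_neg_mul (c : F) : ψ (-c) * ψ c = 1 := by
  rw [← AddChar.map_add_eq_mul, neg_add_cancel, AddChar.map_zero_eq_one]

omit [Fintype A] in
theorem psi_ne (c : F) : ψ c ≠ 0 := by
  intro h
  have := psi_neg_mul (ψ := ψ) c
  rw [h, mul_zero] at this
  exact zero_ne_one this

theorem pr_apply (u : A) (x : V) :
    pr Q ψ T u x = (Fintype.card A : ℂ)⁻¹ • ∑ v, ψ (-(polar Q u v)) • T v x := by
  simp [pr]

omit [Module F A] in
theorem cardA_ne : (Fintype.card A : ℂ) ≠ 0 := Nat.cast_ne_zero.mpr Fintype.card_ne_zero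

theorem sum_ch (h : WD Q ψ T) [DecidableEq A] (u : A) :
    ∑ v, ψ (polar Q u v) = if u = 0 then (Fintype.card A : ℂ) else 0 := by
  by_cases hu : u = 0
  · subst hu
    rw [if_pos rfl]
    simp
  · rw [if_neg hu]
    obtain ⟨c, hc⟩ := h.psi
    obtain ⟨y, hy⟩ := h.nondeg.exists_polar_eq hu c
    have h1 : ch Q ψ u ≠ 0 := by
      intro h2
      have h3 : ch Q ψ u y = 1 := by rw [h2]; rfl
      rw [ch_apply, hy] at h3
      exact hc h3
    have h4 := AddChar.sum_eq_ite (ch Q ψ u)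
    rw [if_neg h1] at h4
    exact h4

theorem T_pr (h : WD Q ψ T) (u b : A) (x : V) : T b (pr Q ψ T u x) = ψ (polar Q u b) • pr Q ψ T u x := by
  have e : ∀ a, T b (ψ (-(polar Q u a)) • T a x) =
      ψ (polar Q u b) • ψ (-(polar Q u (b + a))) • T (b + a) x := fun a => by
    have e1 : ψ (-(polar Q u a)) = ψ (polar Q u b) * ψ (-(polar Q u (b + a))) := by
      rw [← AddChar.map_add_eq_mul, polar_add_right]
      congr 1
      ring
    rw [map_smul, smul_smul, h.add, Module.End.mul_apply, e1]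
  have e2 : ∑ a, T b (ψ (-(polar Q u a)) • T a x) =
      ∑ a, ψ (polar Q u b) • ψ (-(polar Q u a)) • T a x := by
    rw [Fintype.sum_congr _ _ e]
    exact Fintype.sum_equiv (Equiv.addLeft b)
      (fun a => ψ (polar Q u b) • ψ (-(polar Q u (b + a))) • T (b + a) x)
      (fun a => ψ (polar Q u b) • ψ (-(polar Q u a)) • T a x) fun a => rfl
  rw [pr_apply, map_smul, map_sum, e2, ← Finset.smul_sum, smul_comm]

theorem pr_mem (h : WD Q ψ T) (u : A) (x : V) : pr Q ψ T u x ∈ wt Q ψ T u := fun b => T_pr h u b x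

omit [Fintype A] in
theorem T_comm (h : WD Q ψ T) (a b : A) (x : V) : T a (T b x) = T b (T a x) := by
  rw [← Module.End.mul_apply, ← Module.End.mul_apply, ← h.add, ← h.add, add_comm]

theorem pr_T (h : WD Q ψ T) (u b : A) (x : V) : pr Q ψ T u (T b x) = ψ (polar Q u b) • pr Q ψ T u x := by
  rw [← T_pr h, pr_apply, pr_apply, map_smul, map_sum]
  congr 1
  refine Finset.sum_congr rfl fun a _ => ?_
  rw [map_smul, T_comm h]

theorem pr_of_mem {u : A} {x : V} (hx : x ∈ wt Q ψ T u) : pr Q ψ T u x = x := by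
  rw [pr_apply]
  have : ∀ a, ψ (-(polar Q u a)) • T a x = (1 : ℂ) • x := fun a => by
    rw [hx a, smul_smul, psi_neg_mul]
  rw [Fintype.sum_congr _ _ this, Finset.sum_const, Finset.card_univ, one_smul, ← Nat.cast_smul_eq_nsmul ℂ,
    smul_smul, inv_mul_cancel₀ cardA_ne, one_smul]

theorem pr_of_mem_ne (h : WD Q ψ T) {u u' : A} (hne : u ≠ u') {x : V} (hx : x ∈ wt Q ψ T u') :
    pr Q ψ T u x = 0 := by
  classical
  rw [pr_apply]
  have : ∀ a, ψ (-(polar Q u a)) • T a x = ψ (polar Q (u' - u) a) • x := fun a => by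
    rw [hx a, smul_smul, ← AddChar.map_add_eq_mul, polar_sub_left]
    congr 2
    ring
  rw [Fintype.sum_congr _ _ this, ← Finset.sum_smul, sum_ch h, if_neg (sub_ne_zero.2 hne.symm), zero_smul,
    smul_zero]

theorem sum_pr (h : WD Q ψ T) (x : V) : ∑ u : A, pr Q ψ T u x = x := by
  classical
  simp only [pr_apply]
  rw [← Finset.smul_sum, Finset.sum_comm]
  have : ∀ a : A, ∑ u : A, ψ (-(polar Q u a)) • T a x = if a = 0 then (Fintype.card A : ℂ) • x else 0 := by
    intro a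
    rw [← Finset.sum_smul]
    have h2 : ∑ u : A, ψ (-(polar Q u a)) = ∑ u : A, ψ (polar Q (-a) u) :=
      Finset.sum_congr rfl fun u _ => by rw [polar_neg_left, polar_comm]
    rw [h2, sum_ch h]
    by_cases ha : a = 0
    · subst ha
      rw [if_pos neg_zero, if_pos rfl, h.zero, Module.End.one_apply]
    · rw [if_neg (by rwa [neg_eq_zero]), if_neg ha, zero_smul]
  rw [Fintype.sum_congr _ _ this, Finset.sum_ite_eq' Finset.univ (0 : A), if_pos (Finset.mem_univ _),
    smul_smul, inv_mul_cancel₀ cardA_ne, one_smul]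

/-- a vector is zero when all its components are -/
theorem eq_zero_of_pr (h : WD Q ψ T) {x : V} (hx : ∀ u, pr Q ψ T u x = 0) : x = 0 := by
  rw [← sum_pr h x]
  exact Finset.sum_eq_zero fun u _ => hx u

variable [FiniteDimensional ℂ V]

theorem trace_pr (h : WD Q ψ T) (u : A) :
    LinearMap.trace ℂ V (pr Q ψ T u) = (finrank ℂ (wt Q ψ T u) : ℂ) := by
  have : LinearMap.IsProj (wt Q ψ T u) (pr Q ψ T u) := ⟨fun v => pr_mem h u v, fun v hv => pr_of_mem hv⟩
  exact this.trace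

/-- the dimension is the sum of the dimensions of the weight spaces -/
theorem sum_finrank (h : WD Q ψ T) : ∑ u : A, finrank ℂ (wt Q ψ T u) = finrank ℂ V := by
  have h0 : ∑ u : A, pr Q ψ T u = 1 := by
    apply LinearMap.ext
    intro x
    rw [LinearMap.sum_apply, sum_pr h, Module.End.one_apply]
  have h1 : LinearMap.trace ℂ V (∑ u : A, pr Q ψ T u) = (finrank ℂ V : ℂ) := by
    rw [h0]
    exact LinearMap.trace_one ℂ V
  rw [map_sum] at h1
  simp only [trace_pr h] at h1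
  exact_mod_cast h1

/-- lower bound by a set of weights -/
theorem finrank_ge (h : WD Q ψ T) [DecidableEq A] (S : Finset A) (h0 : (0 : A) ∉ S) (r : ℕ)
    (hS : ∀ u ∈ S, r ≤ finrank ℂ (wt Q ψ T u)) :
    finrank ℂ (wt Q ψ T 0) + r * S.card ≤ finrank ℂ V := by
  rw [← sum_finrank h, ← Finset.add_sum_erase _ _ (Finset.mem_univ (0 : A))]
  refine Nat.add_le_add_left ?_ _
  calc r * S.card = ∑ u ∈ S, r := by rw [Finset.sum_const, smul_eq_mul, mul_comm]
    _ ≤ ∑ u ∈ S, finrank ℂ (wt Q ψ T u) := Finset.sum_le_sum hS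
    _ ≤ _ := by
      refine Finset.sum_le_sum_of_subset ?_
      intro u hu
      rw [Finset.mem_erase]
      exact ⟨fun h => h0 (h ▸ hu), Finset.mem_univ _⟩

omit [Fintype A] in
/-- transport of weight spaces -/
theorem finrank_wt_le {g g' : Module.End ℂ V} (hg : g' * g = 1) {u u' : A}
    (hT : ∀ x ∈ wt Q ψ T u, g x ∈ wt Q ψ T u') :
    finrank ℂ (wt Q ψ T u) ≤ finrank ℂ (wt Q ψ T u') := by
  refine LinearMap.finrank_le_finrank_of_injective (f := g.restrict hT) ?_
  intro v w hvw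
  have h1 : g v = g w := congrArg Subtype.val hvw
  have h2 : g' (g v) = g' (g w) := by rw [h1]
  rw [← Module.End.mul_apply, ← Module.End.mul_apply, hg, Module.End.one_apply, Module.End.one_apply] at h2
  exact Subtype.ext h2

end Wt

end Cfsg.Agent.H117
end

-- part: H117/Hyp
section
/-!
# Elements of the isometry group of `W ⟂ H`

`hypSum Q` on `W × F × F`.  `sE Q v`, `sF Q v`: Siegel transformations based on the two standard singular vectors;
`io c s : (a, x, y) ↦ (s a, c x, c⁻¹ y)`.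
-/

set_option autoImplicit false

namespace Cfsg.Agent.H117

open QuadraticMap Cfsg.Agent.LieClassical.OrthCore Cfsg.Agent.LieClassical.OrthTrans
open Cfsg.Agent.LieClassical.OrthCount (hypSum hypSum_apply polar_hypSum)

section SOdef

variable {F W : Type*} [Field F] [AddCommGroup W] [Module F W]

/-! ### special orthogonal group -/

/-- isometries of determinant one -/
noncomputable def SO (Q : QuadraticForm F W) : Subgroup (W ≃ₗ[F] W) := O Q ⊓ LinearEquiv.det.ker

variable {Q : QuadraticForm F W}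

theorem mem_SO {g : W ≃ₗ[F] W} : g ∈ SO Q ↔ g ∈ O Q ∧ LinearEquiv.det g = 1 := by
  rw [SO, Subgroup.mem_inf, MonoidHom.mem_ker]

theorem SO_le_O : SO Q ≤ O Q := inf_le_left

theorem siegel_zero {u : W} (hu : Q u = 0) (h : polar Q u 0 = 0) : siegel Q u 0 hu h = 1 := by
  ext v
  rw [siegel_apply]
  simp

theorem siegel_pow {u w : W} (hu : Q u = 0) (hw : polar Q u w = 0) (n : ℕ) :
    ∃ h, siegel Q u w hu hw ^ n = siegel Q u ((n : F) • w) hu h := by
  induction n with
  | zero =>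
    refine ⟨by simp, ?_⟩
    rw [pow_zero]
    ext v
    rw [siegel_apply]
    simp
  | succ n ih =>
    obtain ⟨h, e⟩ := ih
    have h' : polar Q u ((n : F) • w + w) = 0 := by rw [polar_add_right, h, hw, add_zero]
    have h'' : polar Q u (((n + 1 : ℕ) : F) • w) = 0 := by
      rw [Nat.cast_add, Nat.cast_one, add_smul, one_smul]
      exact h'
    refine ⟨h'', ?_⟩
    rw [pow_succ, e, siegel_mul hu h hw h']
    have : (n : F) • w + w = ((n + 1 : ℕ) : F) • w := by
      rw [Nat.cast_add, Nat.cast_one, add_smul, one_smul]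
    ext v
    rw [siegel_apply, siegel_apply, this]

theorem det_siegel [Finite F] {u w : W} (hu : Q u = 0) (hw : polar Q u w = 0) :
    LinearEquiv.det (siegel Q u w hu hw) = 1 := by
  obtain ⟨p, hp⟩ := CharP.exists F
  have hpp : p.Prime := by
    rcases CharP.char_is_prime_or_zero F p with h | h
    · exact h
    · subst h
      have : CharZero F := CharP.charP_to_charZero F
      have : Infinite F := CharZero.infinite F
      exact (not_finite F).elim
  have : Fact p.Prime := ⟨hpp⟩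
  obtain ⟨h, e⟩ := siegel_pow hu hw p
  have e1 : siegel Q u w hu hw ^ p = 1 := by
    rw [e]
    ext v
    rw [siegel_apply, CharP.cast_eq_zero]
    simp
  have e2 : (LinearEquiv.det (siegel Q u w hu hw)) ^ p = 1 := by
    rw [← map_pow, e1, map_one]
  have e3 : ((LinearEquiv.det (siegel Q u w hu hw) : Fˣ) : F) ^ p = 1 ^ p := by
    rw [← Units.val_pow_eq_pow_val, e2, Units.val_one, one_pow]
  apply Units.ext
  exact frobenius_inj F p e3

theorem E_le_SO [Finite F] : E Q ≤ SO Q := by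
  rw [E, Subgroup.closure_le]
  rintro _ ⟨u, w, hu, hw, rfl⟩
  exact mem_SO.2 ⟨siegel_mem_O hu hw, det_siegel hu hw⟩

end SOdef

section El

variable {F W : Type*} [Field F] [AddCommGroup W] [Module F W] (Q : QuadraticForm F W)

/-- first standard singular vector -/
def e0 (F W : Type*) [Field F] [AddCommGroup W] : W × F × F := (0, 1, 0)

/-- second standard singular vector -/
def f0 (F W : Type*) [Field F] [AddCommGroup W] : W × F × F := (0, 0, 1)

theorem hyp0 : Hyp (hypSum Q) (e0 F W) (f0 F W) := by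
  refine ⟨?_, ?_, ?_⟩
  · simp [hypSum_apply, e0]
  · simp [hypSum_apply, f0]
  · rw [polar_hypSum]; simp [e0, f0]

theorem polar_e0 (v : W) : polar (hypSum Q) (e0 F W) (v, 0, 0) = 0 := by
  rw [polar_hypSum]; simp [e0]

theorem polar_f0 (v : W) : polar (hypSum Q) (f0 F W) (v, 0, 0) = 0 := by
  rw [polar_hypSum]; simp [f0]

/-- Siegel transformation based on the first standard vector -/
def sE (v : W) : (W × F × F) ≃ₗ[F] (W × F × F) :=
  siegel (hypSum Q) (e0 F W) (v, 0, 0) (hyp0 Q).left (polar_e0 Q v)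

/-- Siegel transformation based on the second standard vector -/
def sF (v : W) : (W × F × F) ≃ₗ[F] (W × F × F) :=
  siegel (hypSum Q) (f0 F W) (v, 0, 0) (hyp0 Q).right (polar_f0 Q v)

theorem sE_apply (v a : W) (x y : F) :
    sE Q v (a, x, y) = (a + y • v, x - polar Q v a - Q v * y, y) := by
  rw [sE, siegel_apply, polar_hypSum, polar_hypSum, hypSum_apply]
  ext <;> simp [e0]

theorem sF_apply (v a : W) (x y : F) :
    sF Q v (a, x, y) = (a + x • v, x, y - polar Q v a - Q v * x) := by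
  rw [sF, siegel_apply, polar_hypSum, polar_hypSum, hypSum_apply]
  ext <;> simp [f0]

theorem sE_mem (v : W) : sE Q v ∈ E (hypSum Q) := siegel_mem_E _ _

theorem sF_mem (v : W) : sF Q v ∈ E (hypSum Q) := siegel_mem_E _ _

theorem sE_add (v w : W) : sE Q (v + w) = sE Q v * sE Q w := by
  apply LinearEquiv.ext
  rintro ⟨a, x, y⟩
  rw [LinearEquiv.mul_apply, sE_apply, sE_apply, sE_apply, Q_add, polar_add_right, polar_add_left,
    polar_smul_right]
  ext
  · simp only [smul_add]; abel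
  · simp only [smul_eq_mul]; ring
  · rfl

theorem sE_zero : sE Q (0 : W) = 1 := by
  apply LinearEquiv.ext
  rintro ⟨a, x, y⟩
  rw [sE_apply]
  simp

theorem sF_add (v w : W) : sF Q (v + w) = sF Q v * sF Q w := by
  apply LinearEquiv.ext
  rintro ⟨a, x, y⟩
  rw [LinearEquiv.mul_apply, sF_apply, sF_apply, sF_apply, Q_add, polar_add_right, polar_add_left,
    polar_smul_right]
  ext
  · simp only [smul_add]; abel
  · rfl
  · simp only [smul_eq_mul]; ring

theorem sF_zero : sF Q (0 : W) = 1 := by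
  apply LinearEquiv.ext
  rintro ⟨a, x, y⟩
  rw [sF_apply]
  simp

/-- `(a, x, y) ↦ (s a, c x, c⁻¹ y)` -/
def io (c : Fˣ) (s : W ≃ₗ[F] W) : (W × F × F) ≃ₗ[F] (W × F × F) :=
  LinearEquiv.prodCongr s
    (LinearEquiv.prodCongr (LinearEquiv.smulOfUnit c) (LinearEquiv.smulOfUnit c⁻¹))

theorem io_apply (c : Fˣ) (s : W ≃ₗ[F] W) (a : W) (x y : F) :
    io c s (a, x, y) = (s a, (c : F) * x, (c : F)⁻¹ * y) := by
  rw [io, LinearEquiv.prodCongr_apply, LinearEquiv.prodCongr_apply]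
  simp [LinearEquiv.smulOfUnit, Units.smul_def]

theorem io_mul (c c' : Fˣ) (s s' : W ≃ₗ[F] W) : io c s * io c' s' = io (c * c') (s * s') := by
  apply LinearEquiv.ext
  rintro ⟨a, x, y⟩
  rw [LinearEquiv.mul_apply, io_apply, io_apply, io_apply, LinearEquiv.mul_apply]
  ext
  · rfl
  · simp [mul_assoc]
  · simp [mul_comm, mul_left_comm]

theorem io_one : io (1 : Fˣ) (1 : W ≃ₗ[F] W) = 1 := by
  apply LinearEquiv.ext
  rintro ⟨a, x, y⟩
  rw [io_apply]
  simp

theorem io_inv (c : Fˣ) (s : W ≃ₗ[F] W) : (io c s)⁻¹ = io c⁻¹ s⁻¹ := by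
  rw [inv_eq_iff_mul_eq_one, io_mul, mul_inv_cancel, mul_inv_cancel, io_one]

variable {Q} in
theorem io_mem_O {c : Fˣ} {s : W ≃ₗ[F] W} : io c s ∈ O (hypSum Q) ↔ s ∈ O Q := by
  constructor
  · intro h v
    have := h (v, 0, 0)
    rw [io_apply, hypSum_apply, hypSum_apply] at this
    simpa using this
  · rintro h ⟨a, x, y⟩
    rw [io_apply, hypSum_apply, hypSum_apply]
    simp only
    rw [mem_O.1 h]
    have : (c : F) ≠ 0 := c.ne_zero
    field_simp

theorem det_io [FiniteDimensional F W] (c : Fˣ) (s : W ≃ₗ[F] W) :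
    LinearEquiv.det (io c s) = LinearEquiv.det s := by
  apply Units.ext
  rw [LinearEquiv.coe_det, LinearEquiv.coe_det]
  have h1 : ((io c s : (W × F × F) ≃ₗ[F] (W × F × F)) : (W × F × F) →ₗ[F] (W × F × F)) =
      LinearMap.prodMap (s : W →ₗ[F] W)
        (LinearMap.prodMap ((c : F) • LinearMap.id) ((c : F)⁻¹ • LinearMap.id)) := by
    apply LinearMap.ext
    rintro ⟨a, x, y⟩
    show io c s (a, x, y) = _
    rw [io_apply]
    simp
  rw [h1, LinearMap.det_prodMap, LinearMap.det_prodMap, LinearMap.det_smul, LinearMap.det_smul]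
  have : (c : F) ≠ 0 := c.ne_zero
  simp [this]

variable {Q} in
theorem io_mem_SO [FiniteDimensional F W] {c : Fˣ} {s : W ≃ₗ[F] W} :
    io c s ∈ SO (hypSum Q) ↔ s ∈ SO Q := by
  rw [mem_SO, mem_SO, io_mem_O, det_io]

variable {Q} in
theorem io_sE {s : W ≃ₗ[F] W} (hs : s ∈ O Q) (c : Fˣ) (v : W) :
    io c s * sE Q v = sE Q ((c : F) • s v) * io c s := by
  apply LinearEquiv.ext
  rintro ⟨a, x, y⟩
  have hc : (c : F) ≠ 0 := c.ne_zero
  rw [LinearEquiv.mul_apply, LinearEquiv.mul_apply, sE_apply, io_apply, io_apply, sE_apply,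
    QuadraticMap.map_smul, mem_O.1 hs, polar_smul_left, polar_map hs, map_add, map_smul]
  ext
  · simp only [smul_smul]
    congr 1
    field_simp
  · simp only [smul_eq_mul]
    field_simp
  · rfl

variable {Q} in
theorem io_sF {s : W ≃ₗ[F] W} (hs : s ∈ O Q) (c : Fˣ) (v : W) :
    io c s * sF Q v = sF Q ((c : F)⁻¹ • s v) * io c s := by
  apply LinearEquiv.ext
  rintro ⟨a, x, y⟩
  have hc : (c : F) ≠ 0 := c.ne_zero
  rw [LinearEquiv.mul_apply, LinearEquiv.mul_apply, sF_apply, io_apply, io_apply, sF_apply,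
    QuadraticMap.map_smul, mem_O.1 hs, polar_smul_left, polar_map hs, map_add, map_smul]
  ext
  · simp only [smul_smul]
    congr 1
    field_simp
  · rfl
  · simp only [smul_eq_mul]
    field_simp

/-- the swap of the two standard vectors -/
def kap (F W : Type*) [Field F] [AddCommGroup W] [Module F W] : (W × F × F) ≃ₗ[F] (W × F × F) :=
  LinearEquiv.prodCongr (LinearEquiv.refl F W) (LinearEquiv.prodComm F F F)

theorem kap_apply (a : W) (x y : F) : kap F W (a, x, y) = (a, y, x) := rfl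

theorem kap_mul_kap : kap F W * kap F W = 1 := by
  apply LinearEquiv.ext
  rintro ⟨a, x, y⟩
  rfl

theorem kap_inv : (kap F W)⁻¹ = kap F W := inv_eq_of_mul_eq_one_left kap_mul_kap

theorem kap_mem_O : kap F W ∈ O (hypSum Q) := by
  rintro ⟨a, x, y⟩
  rw [kap_apply, hypSum_apply, hypSum_apply]
  simp only
  ring

theorem kap_sE (v : W) : kap F W * sE Q v = sF Q v * kap F W := by
  apply LinearEquiv.ext
  rintro ⟨a, x, y⟩
  rw [LinearEquiv.mul_apply, LinearEquiv.mul_apply, sE_apply, kap_apply, kap_apply, sF_apply]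

theorem kap_sF (v : W) : kap F W * sF Q v = sE Q v * kap F W := by
  apply LinearEquiv.ext
  rintro ⟨a, x, y⟩
  rw [LinearEquiv.mul_apply, LinearEquiv.mul_apply, sF_apply, kap_apply, kap_apply, sE_apply]

theorem kap_io (c : Fˣ) (s : W ≃ₗ[F] W) : kap F W * io c s = io c⁻¹ s * kap F W := by
  apply LinearEquiv.ext
  rintro ⟨a, x, y⟩
  rw [LinearEquiv.mul_apply, LinearEquiv.mul_apply, io_apply, kap_apply, kap_apply, io_apply]
  simp

/-- the embedding of the smaller group respects Siegel transformations -/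
theorem io_siegel {u w : W} (hu : Q u = 0) (hw : polar Q u w = 0)
    (hu' : hypSum Q (u, 0, 0) = 0) (hw' : polar (hypSum Q) (u, 0, 0) (w, 0, 0) = 0) :
    io 1 (siegel Q u w hu hw) = siegel (hypSum Q) (u, 0, 0) (w, 0, 0) hu' hw' := by
  apply LinearEquiv.ext
  rintro ⟨a, x, y⟩
  rw [io_apply, siegel_apply, siegel_apply, polar_hypSum, polar_hypSum, hypSum_apply]
  ext <;> simp

variable {Q} in
theorem io_mem_E {s : W ≃ₗ[F] W} (hs : s ∈ E Q) : io 1 s ∈ E (hypSum Q) := by
  induction hs using Subgroup.closure_induction with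
  | mem x hx =>
    obtain ⟨u, w, hu, hw, rfl⟩ := hx
    have hu' : hypSum Q (u, 0, 0) = 0 := by rw [hypSum_apply]; simp [hu]
    have hw' : polar (hypSum Q) (u, 0, 0) (w, 0, 0) = 0 := by rw [polar_hypSum]; simp [hw]
    rw [io_siegel Q hu hw hu' hw']
    exact siegel_mem_E _ _
  | one => rw [io_one]; exact Subgroup.one_mem _
  | mul x y _ _ hx hy =>
    have := (E (hypSum Q)).mul_mem hx hy
    rwa [io_mul, mul_one] at this
  | inv x _ hx =>
    have := (E (hypSum Q)).inv_mem hx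
    rwa [io_inv, inv_one] at this

/-- an isometry fixing both standard vectors comes from the small space -/
theorem exists_io_of_fix {Q : QuadraticForm F W} {g : (W × F × F) ≃ₗ[F] (W × F × F)}
    (hg : g ∈ O (hypSum Q)) (he : g (e0 F W) = e0 F W) (hf : g (f0 F W) = f0 F W) :
    ∃ s ∈ O Q, g = io 1 s := by
  have key : ∀ (h : (W × F × F) ≃ₗ[F] (W × F × F)), h ∈ O (hypSum Q) → h (e0 F W) = e0 F W →
      h (f0 F W) = f0 F W → ∀ a : W, h (a, 0, 0) = ((h (a, 0, 0)).1, 0, 0) := by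
    intro h hh he hf a
    have h1 := polar_map hh (e0 F W) (a, 0, 0)
    have h2 := polar_map hh (f0 F W) (a, 0, 0)
    rw [he, polar_e0, polar_hypSum] at h1
    rw [hf, polar_f0, polar_hypSum] at h2
    ext
    · rfl
    · simpa [f0] using h2
    · simpa [e0] using h1
  have hi : g⁻¹ ∈ O (hypSum Q) := (O (hypSum Q)).inv_mem hg
  have hei : g⁻¹ (e0 F W) = e0 F W := by
    conv_lhs => rw [← he]
    exact LinearEquiv.symm_apply_apply g _
  have hfi : g⁻¹ (f0 F W) = f0 F W := by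
    conv_lhs => rw [← hf]
    exact LinearEquiv.symm_apply_apply g _
  have k1 := key g hg he hf
  have k2 := key g⁻¹ hi hei hfi
  let p : W →ₗ[F] W := (LinearMap.fst F W (F × F)) ∘ₗ (g : _ →ₗ[F] _) ∘ₗ (LinearMap.inl F W (F × F))
  let p' : W →ₗ[F] W := (LinearMap.fst F W (F × F)) ∘ₗ ((g⁻¹ : (W × F × F) ≃ₗ[F] (W × F × F)) : _ →ₗ[F] _) ∘ₗ
    (LinearMap.inl F W (F × F))
  have hp : ∀ a, g (a, 0, 0) = (p a, 0, 0) := k1
  have hp' : ∀ a, g⁻¹ (a, 0, 0) = (p' a, 0, 0) := k2
  have h12 : ∀ a, p (p' a) = a := by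
    intro a
    have h1 : g (g⁻¹ (a, 0, 0)) = (a, 0, 0) := LinearEquiv.apply_symm_apply g _
    rw [hp', hp] at h1
    exact congrArg Prod.fst h1
  have h21 : ∀ a, p' (p a) = a := by
    intro a
    have h1 : g⁻¹ (g (a, 0, 0)) = (a, 0, 0) := LinearEquiv.symm_apply_apply g _
    rw [hp, hp'] at h1
    exact congrArg Prod.fst h1
  let s : W ≃ₗ[F] W := LinearEquiv.ofLinearMap p p' (LinearMap.ext h12) (LinearMap.ext h21)
  have hs : ∀ a, s a = p a := fun a => rfl
  refine ⟨s, ?_, ?_⟩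
  · intro a
    have h1 := hg (a, 0, 0)
    rw [hp, hypSum_apply, hypSum_apply] at h1
    rw [hs]
    simpa using h1
  · apply LinearEquiv.ext
    rintro ⟨a, x, y⟩
    have h1 : ((a, x, y) : W × F × F) = (a, 0, 0) + x • e0 F W + y • f0 F W := by
      ext <;> simp [e0, f0]
    rw [io_apply, h1, map_add, map_add, map_smul, map_smul, he, hf, hp, hs]
    ext <;> simp [e0, f0]

end El

end Cfsg.Agent.H117
end

-- part: H117/Two
section
/-!
# Two hyperbolic planes

Elements of the isometry group of `(W ⟂ H) ⟂ H` acting on the two hyperbolic planes: `nn b`, `nS`, `hh b`, `zz b`.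
-/

set_option autoImplicit false

namespace Cfsg.Agent.H117

open QuadraticMap Cfsg.Agent.LieClassical.OrthCore Cfsg.Agent.LieClassical.OrthTrans
open Cfsg.Agent.LieClassical.OrthCount (hypSum hypSum_apply polar_hypSum)

variable {F W : Type*} [Field F] [AddCommGroup W] [Module F W]

/-- `(x₁, x₂) ↦ (b x₂, -b⁻¹ x₁)`, `(y₁, y₂) ↦ (b⁻¹ y₂, -b y₁)` as a linear map -/
def nnLin (W : Type*) [AddCommGroup W] [Module F W] (b : F) :
    ((W × F × F) × F × F) →ₗ[F] ((W × F × F) × F × F) where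
  toFun v := ((v.1.1, -b⁻¹ * v.2.1, -b * v.2.2), b * v.1.2.1, b⁻¹ * v.1.2.2)
  map_add' v w := by
    ext <;> simp [mul_add, neg_add_rev] <;> ring
  map_smul' c v := by
    ext <;> simp <;> ring

theorem nnLin_apply (b : F) (w : W) (x y x' y' : F) :
    nnLin W b ((w, x, y), x', y') = ((w, -b⁻¹ * x', -b * y'), b * x, b⁻¹ * y) := rfl

/-- the Weyl elements exchanging the two planes -/
def nn (W : Type*) [AddCommGroup W] [Module F W] (b : Fˣ) :
    ((W × F × F) × F × F) ≃ₗ[F] ((W × F × F) × F × F) :=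
  LinearEquiv.ofLinearMap (nnLin W (b : F)) (nnLin W (-(b : F)))
    (by
      apply LinearMap.ext
      rintro ⟨⟨w, x, y⟩, x', y'⟩
      have hb : (b : F) ≠ 0 := b.ne_zero
      rw [LinearMap.comp_apply, nnLin_apply, nnLin_apply, LinearMap.id_apply]
      ext <;> simp [inv_neg] <;> field_simp)
    (by
      apply LinearMap.ext
      rintro ⟨⟨w, x, y⟩, x', y'⟩
      have hb : (b : F) ≠ 0 := b.ne_zero
      rw [LinearMap.comp_apply, nnLin_apply, nnLin_apply, LinearMap.id_apply]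
      ext <;> simp [inv_neg] <;> field_simp)

theorem nn_apply (b : Fˣ) (w : W) (x y x' y' : F) :
    nn W b ((w, x, y), x', y') = ((w, -(b : F)⁻¹ * x', -(b : F) * y'), (b : F) * x, (b : F)⁻¹ * y) := rfl

theorem nn_inv (b : Fˣ) : (nn W b)⁻¹ = nn W (-b) := by
  rw [inv_eq_iff_mul_eq_one]
  apply LinearEquiv.ext
  rintro ⟨⟨w, x, y⟩, x', y'⟩
  have hb : (b : F) ≠ 0 := b.ne_zero
  rw [LinearEquiv.mul_apply, nn_apply, nn_apply]
  ext <;> simp [inv_neg] <;> field_simp

variable (Q : QuadraticForm F W)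

/-- `x₁ ↦ x₁ + t x₂`, `y₂ ↦ y₂ - t y₁` -/
def xr (t : F) : ((W × F × F) × F × F) ≃ₗ[F] ((W × F × F) × F × F) := sE (hypSum Q) (0, 0, -t)

/-- `x₂ ↦ x₂ + t x₁`, `y₁ ↦ y₁ - t y₂` -/
def yr (t : F) : ((W × F × F) × F × F) ≃ₗ[F] ((W × F × F) × F × F) := sF (hypSum Q) (0, t, 0)

theorem xr_apply (t : F) (w : W) (x y x' y' : F) :
    xr Q t ((w, x, y), x', y') = ((w, x, y - t * y'), x' + t * x, y') := by
  rw [xr, sE_apply, polar_hypSum, hypSum_apply]
  ext
  · simp
  · simp
  · simp; ring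
  · simp; ring
  · simp

theorem yr_apply (t : F) (w : W) (x y x' y' : F) :
    yr Q t ((w, x, y), x', y') = ((w, x + t * x', y), x', y' - t * y) := by
  rw [yr, sF_apply, polar_hypSum, hypSum_apply]
  ext
  · simp
  · simp; ring
  · simp
  · simp
  · simp

theorem xr_mem (t : F) : xr Q t ∈ E (hypSum (hypSum Q)) := sE_mem _ _

theorem yr_mem (t : F) : yr Q t ∈ E (hypSum (hypSum Q)) := sF_mem _ _

theorem nn_eq (b : Fˣ) : nn W b = xr Q b * yr Q (-(b : F)⁻¹) * xr Q b := by
  apply LinearEquiv.ext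
  rintro ⟨⟨w, x, y⟩, x', y'⟩
  have hb : (b : F) ≠ 0 := b.ne_zero
  rw [LinearEquiv.mul_apply, LinearEquiv.mul_apply, nn_apply, xr_apply, yr_apply, xr_apply]
  ext
  · simp
  · simp only
    field_simp
    ring
  · simp only
    field_simp
    ring
  · simp only
    field_simp
    ring
  · simp only
    field_simp
    ring

theorem nn_mem (b : Fˣ) : nn W b ∈ E (hypSum (hypSum Q)) := by
  rw [nn_eq Q]
  exact (E _).mul_mem ((E _).mul_mem (xr_mem Q _) (yr_mem Q _)) (xr_mem Q _)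

/-- `hh b = io b (io b⁻¹ 1)` -/
theorem hh_eq (b : Fˣ) : io b (io b⁻¹ (1 : W ≃ₗ[F] W)) = nn W b * nn W (-1) := by
  apply LinearEquiv.ext
  rintro ⟨⟨w, x, y⟩, x', y'⟩
  have hb : (b : F) ≠ 0 := b.ne_zero
  rw [LinearEquiv.mul_apply, nn_apply, nn_apply, io_apply, io_apply]
  ext <;> simp

theorem hh_mem (b : Fˣ) : io b (io b⁻¹ (1 : W ≃ₗ[F] W)) ∈ E (hypSum (hypSum Q)) := by
  rw [hh_eq]
  exact (E _).mul_mem (nn_mem Q _) (nn_mem Q _)

theorem zz_mem (b : Fˣ) : io b (io b (1 : W ≃ₗ[F] W)) ∈ E (hypSum (hypSum Q)) := by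
  have h1 : io b (io b (1 : W ≃ₗ[F] W)) =
      io 1 (kap F W) * io b (io b⁻¹ (1 : W ≃ₗ[F] W)) * (io 1 (kap F W))⁻¹ := by
    apply LinearEquiv.ext
    rintro ⟨⟨w, x, y⟩, x', y'⟩
    rw [io_inv, kap_inv, inv_one]
    simp only [LinearEquiv.mul_apply, io_apply, kap_apply]
    simp
  rw [h1]
  exact conj_mem_E (io_mem_O.2 (kap_mem_O Q)) (hh_mem Q b)

/-- `nS`: the conjugate of `nn 1` under the swap of the inner plane -/
def nS (F W : Type*) [Field F] [AddCommGroup W] [Module F W] :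
    ((W × F × F) × F × F) ≃ₗ[F] ((W × F × F) × F × F) :=
  io 1 (kap F W) * nn W (1 : Fˣ) * io 1 (kap F W)

theorem nS_apply (w : W) (x y x' y' : F) :
    nS F W ((w, x, y), x', y') = ((w, -y', -x'), y, x) := by
  rw [nS, LinearEquiv.mul_apply, LinearEquiv.mul_apply, io_apply, kap_apply, nn_apply, io_apply,
    kap_apply]
  simp

theorem nn1_apply (w : W) (x y x' y' : F) :
    nn W (1 : Fˣ) ((w, x, y), x', y') = ((w, -x', -y'), x, y) := by
  rw [nn_apply]
  simp

theorem nS_mem : nS F W ∈ E (hypSum (hypSum Q)) := by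
  have h1 : nS F W = io 1 (kap F W) * nn W 1 * (io 1 (kap F W))⁻¹ := by
    rw [io_inv, kap_inv, inv_one, nS]
  rw [h1]
  exact conj_mem_E (io_mem_O.2 (kap_mem_O Q)) (nn_mem Q 1)

theorem nn_nS : nn W (1 : Fˣ) * nS F W = nS F W * nn W (1 : Fˣ) := by
  apply LinearEquiv.ext
  rintro ⟨⟨w, x, y⟩, x', y'⟩
  rw [LinearEquiv.mul_apply, LinearEquiv.mul_apply, nn1_apply, nS_apply, nn1_apply, nS_apply]

/-- `n σ(w) = τ'(-w) n` -/
theorem nn_sE (w : W) :
    nn W 1 * sE (hypSum Q) (w, 0, 0) = io 1 (sE Q (-w)) * nn W 1 := by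
  apply LinearEquiv.ext
  rintro ⟨⟨a, x, y⟩, x', y'⟩
  rw [LinearEquiv.mul_apply, LinearEquiv.mul_apply, sE_apply, nn1_apply, io_apply, sE_apply,
    polar_hypSum, hypSum_apply]
  simp [nn1_apply]
  ring

/-- `n τ'(w) = σ(w) n` -/
theorem nn_io_sE (w : W) :
    nn W 1 * io 1 (sE Q w) = sE (hypSum Q) (w, 0, 0) * nn W 1 := by
  apply LinearEquiv.ext
  rintro ⟨⟨a, x, y⟩, x', y'⟩
  rw [LinearEquiv.mul_apply, LinearEquiv.mul_apply, io_apply, sE_apply, nn1_apply, nn1_apply,
    sE_apply, polar_hypSum, hypSum_apply]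
  simp

/-- `n` commutes with `σ(t e₂)` -/
theorem nn_sE_e (t : F) :
    nn W 1 * sE (hypSum Q) (0, t, 0) = sE (hypSum Q) (0, t, 0) * nn W 1 := by
  apply LinearEquiv.ext
  rintro ⟨⟨a, x, y⟩, x', y'⟩
  rw [LinearEquiv.mul_apply, LinearEquiv.mul_apply, sE_apply, nn1_apply, sE_apply, polar_hypSum,
    hypSum_apply, polar_hypSum]
  simp only [Prod.mk_add_mk, Prod.smul_mk, nn1_apply, smul_zero, add_zero, smul_eq_mul]
  ext <;> simp <;> ring

/-- `n ι(b, ι(a, s)) = ι(a, ι(b, s)) n` -/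
theorem nn_io (a b : Fˣ) (s : W ≃ₗ[F] W) :
    nn W 1 * io b (io a s) = io a (io b s) * nn W 1 := by
  apply LinearEquiv.ext
  rintro ⟨⟨w, x, y⟩, x', y'⟩
  rw [LinearEquiv.mul_apply, LinearEquiv.mul_apply, io_apply, io_apply, nn1_apply, nn1_apply,
    io_apply, io_apply]
  ext <;> simp

/-- the Bruhat relation in `SL₂` -/
theorem nn_xr_nn (t b : Fˣ) (hb : (b : F) = -(t : F)⁻¹) :
    nn W 1 * xr Q t * nn W 1 = xr Q b * io b (io b⁻¹ 1) * nn W 1 * xr Q b := by
  have ht : (t : F) ≠ 0 := t.ne_zero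
  have hb' : (b : F)⁻¹ = -(t : F) := by rw [hb, inv_neg, inv_inv]
  apply LinearEquiv.ext
  rintro ⟨⟨w, x, y⟩, x', y'⟩
  simp only [LinearEquiv.mul_apply]
  rw [nn1_apply, xr_apply, nn1_apply, xr_apply, nn1_apply, io_apply, io_apply, xr_apply]
  simp only [Units.val_inv_eq_inv_val, inv_inv, hb', hb]
  ext
  · simp
  · simp only []
    field_simp
    ring
  · simp only []
    field_simp
    ring
  · simp only []
    field_simp
    ring
  · simp only []
    field_simp
    ring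

/-- `nS σ(w) = τ(-w) nS` -/
theorem nS_sE (w : W) :
    nS F W * sE (hypSum Q) (w, 0, 0) = io 1 (sF Q (-w)) * nS F W := by
  apply LinearEquiv.ext
  rintro ⟨⟨a, x, y⟩, x', y'⟩
  rw [LinearEquiv.mul_apply, LinearEquiv.mul_apply, sE_apply, nS_apply, io_apply, sF_apply,
    polar_hypSum, hypSum_apply]
  simp [nS_apply]
  ring

/-- `nS τ(w) = σ(w) nS` -/
theorem nS_io_sF (w : W) :
    nS F W * io 1 (sF Q w) = sE (hypSum Q) (w, 0, 0) * nS F W := by
  apply LinearEquiv.ext
  rintro ⟨⟨a, x, y⟩, x', y'⟩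
  rw [LinearEquiv.mul_apply, LinearEquiv.mul_apply, io_apply, sF_apply, nS_apply, nS_apply,
    sE_apply, polar_hypSum, hypSum_apply]
  simp

/-- `nS` commutes with `σ(t f₂)` -/
theorem nS_sE_f (t : F) :
    nS F W * sE (hypSum Q) (0, 0, t) = sE (hypSum Q) (0, 0, t) * nS F W := by
  apply LinearEquiv.ext
  rintro ⟨⟨a, x, y⟩, x', y'⟩
  rw [LinearEquiv.mul_apply, LinearEquiv.mul_apply, sE_apply, nS_apply, sE_apply, polar_hypSum,
    hypSum_apply, polar_hypSum]
  simp [nS_apply]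
  ring

/-- the Bruhat relation in the second `SL₂` -/
theorem nS_rr_nS (t b : Fˣ) (hb : (b : F) = -(t : F)⁻¹) :
    nS F W * sE (hypSum Q) (0, -(t : F), 0) * nS F W =
      sE (hypSum Q) (0, -(b : F), 0) * io b (io b 1) * nS F W * sE (hypSum Q) (0, -(b : F), 0) := by
  have ht : (t : F) ≠ 0 := t.ne_zero
  apply LinearEquiv.ext
  rintro ⟨⟨w, x, y⟩, x', y'⟩
  simp only [LinearEquiv.mul_apply]
  rw [nS_apply, sE_apply, polar_hypSum, hypSum_apply, sE_apply, polar_hypSum, hypSum_apply]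
  simp only [Prod.mk_add_mk, Prod.smul_mk]
  rw [nS_apply, nS_apply, io_apply, io_apply, sE_apply, polar_hypSum, hypSum_apply]
  ext
  · simp
  · simp only [hb, smul_eq_mul, polar_zero_left, QuadraticMap.map_zero, LinearEquiv.coe_one, id_eq,
      Prod.mk_add_mk, Prod.smul_mk]
    field_simp
    ring
  · simp only [hb, smul_eq_mul, polar_zero_left, QuadraticMap.map_zero, LinearEquiv.coe_one, id_eq,
      Prod.mk_add_mk, Prod.smul_mk]
    field_simp
    ring
  · simp only [hb, smul_eq_mul, polar_zero_left, QuadraticMap.map_zero, LinearEquiv.coe_one, id_eq,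
      Prod.mk_add_mk, Prod.smul_mk]
    field_simp
    ring
  · simp only [hb, smul_eq_mul, polar_zero_left, QuadraticMap.map_zero, LinearEquiv.coe_one, id_eq,
      Prod.mk_add_mk, Prod.smul_mk]
    field_simp
    ring

end Cfsg.Agent.H117
end

-- part: H117/Gen
section
/-!
# Generation and transitivity for `W ⟂ H`
-/

set_option autoImplicit false

namespace Cfsg.Agent.H117

open QuadraticMap Cfsg.Agent.LieClassical.OrthCore Cfsg.Agent.LieClassical.OrthTrans
open Cfsg.Agent.LieClassical.OrthCount (hypSum hypSum_apply polar_hypSum)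

variable {F W : Type*} [Field F] [AddCommGroup W] [Module F W] {Q : QuadraticForm F W}

/-- the Weyl element attached to a nonsingular vector -/
theorem om_apply {w0 : W} (h0 : Q w0 ≠ 0) (a : W) (x y : F) :
    (sE Q w0 * sF Q ((Q w0)⁻¹ • w0) * sE Q w0) (a, x, y) =
      (a - ((Q w0)⁻¹ * polar Q w0 a) • w0, -(Q w0) * y, -(Q w0)⁻¹ * x) := by
  rw [LinearEquiv.mul_apply, LinearEquiv.mul_apply, sE_apply, sF_apply, sE_apply]
  simp only [QuadraticMap.map_smul, polar_add_right, polar_smul_right, polar_smul_left, polar_self',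
    smul_eq_mul]
  ext
  · simp only
    match_scalars
    · ring
    · field_simp
      ring
  · simp only
    field_simp
    ring
  · simp only
    field_simp
    ring

theorem om_mem {w0 : W} :
    sE Q w0 * sF Q ((Q w0)⁻¹ • w0) * sE Q w0 ∈ E (hypSum Q) :=
  (E _).mul_mem ((E _).mul_mem (sE_mem Q _) (sF_mem Q _)) (sE_mem Q _)

theorem io_sq_mem {w0 : W} (h0 : Q w0 ≠ 0) (c : Fˣ) : io (c ^ 2) (1 : W ≃ₗ[F] W) ∈ E (hypSum Q) := by
  have hc : (c : F) ≠ 0 := c.ne_zero
  have h1 : Q ((c : F) • w0) ≠ 0 := by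
    rw [QuadraticMap.map_smul, smul_eq_mul]
    exact mul_ne_zero (mul_ne_zero hc hc) h0
  have h2 : io (c ^ 2) (1 : W ≃ₗ[F] W) =
      (sE Q ((c : F) • w0) * sF Q ((Q ((c : F) • w0))⁻¹ • ((c : F) • w0)) * sE Q ((c : F) • w0)) *
        (sE Q w0 * sF Q ((Q w0)⁻¹ • w0) * sE Q w0) := by
    apply LinearEquiv.ext
    rintro ⟨a, x, y⟩
    rw [LinearEquiv.mul_apply (sE Q ((c : F) • w0) * _ * _), om_apply h0, om_apply h1, io_apply]
    simp only [QuadraticMap.map_smul, polar_sub_right, polar_smul_right, polar_smul_left,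
      polar_self', smul_eq_mul, Units.val_pow_eq_pow_val, LinearEquiv.coe_one, id_eq]
    ext
    · simp only
      match_scalars
      · ring
      · field_simp
        ring
    · simp only
      field_simp
    · simp only
      field_simp
  rw [h2]
  exact (E _).mul_mem om_mem om_mem

theorem smul_e0 (c : F) : c • e0 F W = (0, c, 0) := by
  ext <;> simp [e0]

theorem exists_to_e0 (h2 : (2 : F) ≠ 0) (hQ : Nondeg Q) {w0 : W} (h0 : Q w0 ≠ 0) {u : W × F × F}
    (hu : hypSum Q u = 0) (hu0 : u ≠ 0) : ∃ g ∈ E (hypSum Q), ∃ c : Fˣ, g u = (c : F) • e0 F W := by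
  -- the case of nonzero last coordinate
  have key : ∀ (w : W) (x y : F), hypSum Q (w, x, y) = 0 → y ≠ 0 →
      ∃ g ∈ E (hypSum Q), ∃ c : Fˣ, g (w, x, y) = (c : F) • e0 F W := by
    intro w x y h hy
    have hq : Q w + x * y = 0 := h
    refine ⟨(sE Q w0 * sF Q ((Q w0)⁻¹ • w0) * sE Q w0) * sE Q (-y⁻¹ • w),
      (E _).mul_mem om_mem (sE_mem Q _), Units.mk0 (-(Q w0) * y) (mul_ne_zero (neg_ne_zero.2 h0) hy), ?_⟩
    rw [LinearEquiv.mul_apply (_ * _ * _), sE_apply, om_apply h0, smul_e0]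
    have e1 : w + y • -y⁻¹ • w = 0 := by
      rw [smul_smul]
      have : y * -y⁻¹ = -1 := by field_simp
      rw [this]
      module
    have e2 : x - polar Q (-y⁻¹ • w) w - Q (-y⁻¹ • w) * y = 0 := by
      rw [QuadraticMap.map_smul, polar_smul_left, polar_self', smul_eq_mul, smul_eq_mul]
      have : x = -(Q w) / y := by
        field_simp
        linear_combination hq
      rw [this]
      field_simp
      ring
    rw [e1, e2]
    simp
  obtain ⟨w, x, y⟩ := u
  by_cases hy : y = 0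
  · subst hy
    have hq : Q w = 0 := by
      have : Q w + x * 0 = 0 := hu
      rwa [mul_zero, add_zero] at this
    by_cases hw : w = 0
    · subst hw
      have hx : x ≠ 0 := by
        rintro rfl
        exact hu0 rfl
      exact ⟨1, (E _).one_mem, Units.mk0 x hx, by rw [smul_e0]; rfl⟩
    · obtain ⟨v0, hv0⟩ := hQ.exists_polar_eq hw 1
      have hv0' : polar Q v0 w = 1 := by rw [polar_comm]; exact hv0
      obtain ⟨v, hv⟩ : ∃ v : W, (0 : F) - polar Q v w - Q v * x ≠ 0 := by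
        by_cases h1 : (0 : F) - polar Q v0 w - Q v0 * x = 0
        · refine ⟨-v0, ?_⟩
          rw [polar_neg_left, QuadraticMap.map_neg, hv0']
          rw [hv0'] at h1
          intro h3
          apply h2
          linear_combination h3 - h1
        · exact ⟨v0, h1⟩
      have h3 : hypSum Q (sF Q v (w, x, 0)) = 0 := by
        rw [mem_O.1 (E_le_O (sF_mem Q v))]
        exact hu
      rw [sF_apply] at h3
      obtain ⟨g, hg, c, hc⟩ := key _ _ _ h3 hv
      exact ⟨g * sF Q v, (E _).mul_mem hg (sF_mem Q v), c, by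
        rw [LinearEquiv.mul_apply, sF_apply, hc]⟩
  · exact key w x y hu hy

/-- every isometry of `W ⟂ H` is a product of an element of `E` and of `io c s` -/
theorem exists_decomp (h2 : (2 : F) ≠ 0) (hQ : Nondeg Q) {w0 : W} (h0 : Q w0 ≠ 0)
    {g : (W × F × F) ≃ₗ[F] (W × F × F)} (hg : g ∈ O (hypSum Q)) :
    ∃ e ∈ E (hypSum Q), ∃ (c : Fˣ), ∃ s ∈ O Q, g = e * io c s := by
  have hs : hypSum Q (g (e0 F W)) = 0 := by
    rw [mem_O.1 hg]
    exact (hyp0 Q).left
  have hne : g (e0 F W) ≠ 0 := by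
    intro h
    have : e0 F W = 0 := by
      apply g.injective
      rw [h, map_zero]
    exact (hyp0 Q).left_ne this
  obtain ⟨e, he, c, hc⟩ := exists_to_e0 h2 hQ h0 hs hne
  have h1 : io c⁻¹ (1 : W ≃ₗ[F] W) * e * g ∈ O (hypSum Q) :=
    (O _).mul_mem ((O _).mul_mem (io_mem_O.2 (O _).one_mem) (E_le_O he)) hg
  have h3 : (io c⁻¹ (1 : W ≃ₗ[F] W) * e * g) (e0 F W) = e0 F W := by
    rw [LinearEquiv.mul_apply, LinearEquiv.mul_apply, hc, smul_e0, io_apply]
    simp [e0]
  have h4 := (hyp0 Q).map h1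
  rw [h3] at h4
  obtain ⟨e2, he2, e3, e4⟩ := siegel_partner (hyp0 Q) h4
  have h5 : e2⁻¹ * (io c⁻¹ (1 : W ≃ₗ[F] W) * e * g) ∈ O (hypSum Q) := (O _).mul_mem ((O _).inv_mem (E_le_O he2)) h1
  obtain ⟨s, hs, h6⟩ := exists_io_of_fix h5
    (by
      rw [LinearEquiv.mul_apply, h3]
      conv_lhs => rw [← e3]
      exact LinearEquiv.symm_apply_apply e2 _)
    (by
      rw [LinearEquiv.mul_apply, ← e4]
      exact LinearEquiv.symm_apply_apply e2 _)
  refine ⟨e⁻¹ * (io c 1 * e2 * (io c 1)⁻¹),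
    (E _).mul_mem ((E _).inv_mem he) (conj_mem_E (io_mem_O.2 (O _).one_mem) he2), c, s, hs, ?_⟩
  have h7 : io c s = io c 1 * io 1 s := by rw [io_mul, mul_one, one_mul]
  rw [h7, ← h6, io_inv, inv_one]
  have h8 : (io c⁻¹ (1 : W ≃ₗ[F] W)) * io c 1 = 1 := by rw [io_mul, inv_mul_cancel, mul_one, io_one]
  have h9 : (io c (1 : W ≃ₗ[F] W)) * io c⁻¹ 1 = 1 := by rw [io_mul, mul_inv_cancel, mul_one, io_one]
  calc g = e⁻¹ * (e * g) := by group
    _ = e⁻¹ * (io c (1 : W ≃ₗ[F] W) * io c⁻¹ 1) * (e * g) := by rw [h9, mul_one]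
    _ = e⁻¹ * (io c 1 * e2 * (io c⁻¹ 1 * io c 1)) * (e2⁻¹ * (io c⁻¹ 1 * e * g)) := by
        rw [h8]; group
    _ = _ := by group

/-- `DD Q`: every rotation `s` of `W` has `io a s ∈ E` for some `a` -/
def DD (Q : QuadraticForm F W) : Prop := ∀ s ∈ SO Q, ∃ a : Fˣ, io a s ∈ E (hypSum Q)

variable [Finite F] [FiniteDimensional F W]

theorem SO_decomp (h2 : (2 : F) ≠ 0) (hQ : Nondeg Q) {w0 : W} (h0 : Q w0 ≠ 0) (hD : DD Q)
    {g : (W × F × F) ≃ₗ[F] (W × F × F)} (hg : g ∈ SO (hypSum Q)) :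
    ∃ e ∈ E (hypSum Q), ∃ c : Fˣ, g = e * io c 1 := by
  obtain ⟨e, he, c, s, hs, rfl⟩ := exists_decomp h2 hQ h0 (SO_le_O hg)
  have h1 : io c s ∈ SO (hypSum Q) := by
    have := (SO (hypSum Q)).mul_mem ((SO (hypSum Q)).inv_mem (E_le_SO he)) hg
    rwa [inv_mul_cancel_left] at this
  obtain ⟨a, ha⟩ := hD s (io_mem_SO.1 h1)
  refine ⟨e * io a s, (E _).mul_mem he ha, a⁻¹ * c, ?_⟩
  rw [mul_assoc, io_mul, mul_one, mul_inv_cancel_left]

theorem DD_step (h2 : (2 : F) ≠ 0) (hQ : Nondeg Q) {w0 : W} (h0 : Q w0 ≠ 0) (hD : DD Q) :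
    DD (hypSum Q) := by
  intro g hg
  obtain ⟨e, he, c, rfl⟩ := SO_decomp h2 hQ h0 hD hg
  refine ⟨c, ?_⟩
  have : io c (e * io c 1) = io 1 e * io c (io c 1) := by rw [io_mul, one_mul]
  rw [this]
  exact (E _).mul_mem (io_mem_E he) (zz_mem Q c)

/-! ### transitivity of `SO` -/

theorem SO_to_e0 (h2 : (2 : F) ≠ 0) (hQ : Nondeg Q) {w0 : W} (h0 : Q w0 ≠ 0) {u : W × F × F}
    (hu : hypSum Q u = 0) (hu0 : u ≠ 0) : ∃ g ∈ SO (hypSum Q), g u = e0 F W := by
  obtain ⟨g, hg, c, hc⟩ := exists_to_e0 h2 hQ h0 hu hu0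
  refine ⟨io c⁻¹ 1 * g, (SO _).mul_mem (io_mem_SO.2 (SO _).one_mem) (E_le_SO hg), ?_⟩
  rw [LinearEquiv.mul_apply, hc, smul_e0, io_apply]
  simp [e0]

theorem SO_to_hyp (h2 : (2 : F) ≠ 0) (hQ : Nondeg Q) {w0 : W} (h0 : Q w0 ≠ 0) {u v : W × F × F}
    (h : Hyp (hypSum Q) u v) : ∃ g ∈ SO (hypSum Q), g u = e0 F W ∧ g v = f0 F W := by
  obtain ⟨g, hg, e⟩ := SO_to_e0 h2 hQ h0 h.left h.left_ne
  have h1 := h.map (SO_le_O hg)
  rw [e] at h1
  obtain ⟨g2, hg2, e2, e3⟩ := siegel_partner h1 (hyp0 Q)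
  refine ⟨g2 * g, (SO _).mul_mem (E_le_SO hg2) hg, ?_, ?_⟩
  · rw [LinearEquiv.mul_apply, e, e2]
  · rw [LinearEquiv.mul_apply, e3]

/-- `SO` is transitive on nonzero vectors of given norm -/
theorem SO_trans (h2 : (2 : F) ≠ 0) (hQ : Nondeg Q) (hQ' : Nondeg (hypSum Q)) {w0 : W} (h0 : Q w0 ≠ 0)
    {u v : W × F × F} (hu : u ≠ 0) (hv : v ≠ 0) (h : hypSum Q u = hypSum Q v) :
    ∃ g ∈ SO (hypSum Q), g u = v := by
  obtain ⟨x1, y1, h1, e1⟩ := exists_hyp_decomp hQ' (hyp0 Q) hu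
  obtain ⟨x2, y2, h3, e2⟩ := exists_hyp_decomp hQ' (hyp0 Q) hv
  obtain ⟨g, hg, g1, g2⟩ := SO_to_hyp h2 hQ h0 h1
  obtain ⟨k, hk, k1, k2⟩ := SO_to_hyp h2 hQ h0 h3
  refine ⟨k⁻¹ * g, (SO _).mul_mem ((SO _).inv_mem hk) hg, ?_⟩
  have h4 : g u = k v := by
    conv_lhs => rw [e1]
    conv_rhs => rw [e2]
    rw [map_add, map_smul, map_add, map_smul, g1, g2, k1, k2, h]
  rw [LinearEquiv.mul_apply, h4]
  exact LinearEquiv.symm_apply_apply k _

omit [Finite F] [FiniteDimensional F W] in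
theorem nondeg_hypSum (hQ : Nondeg Q) : Nondeg (hypSum Q) := by
  rintro ⟨w, x, y⟩ h
  have h1 := h (0, 1, 0)
  have h2 := h (0, 0, 1)
  rw [polar_hypSum] at h1 h2
  have hy : y = 0 := by simpa using h1
  have hx : x = 0 := by simpa using h2
  have hw : w = 0 := by
    apply hQ
    intro v
    have := h (v, 0, 0)
    rw [polar_hypSum] at this
    simpa using this
  rw [hx, hy, hw]
  rfl

/-! ### the base -/

omit [Finite F] in
theorem DD_sq : DD (QuadraticMap.sq (R := F)) := by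
  intro s hs
  have h1 : s = 1 := by
    have hd := (mem_SO.1 hs).2
    have h3 : (LinearEquiv.det s : F) = s 1 := by
      rw [LinearEquiv.coe_det, LinearMap.det_ring]
      rfl
    rw [hd, Units.val_one] at h3
    apply LinearEquiv.ext
    intro x
    have : s x = x • s 1 := by rw [← map_smul, smul_eq_mul, mul_one]
    rw [this, ← h3]
    simp
  refine ⟨1, ?_⟩
  rw [h1, io_one]
  exact Subgroup.one_mem _

end Cfsg.Agent.H117
end

-- part: H117/Theta
section
/-!
# Weights of the radical of the stabiliser of a singular point; the rank one operator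
-/

set_option autoImplicit false

namespace Cfsg.Agent.H117

open QuadraticMap Cfsg.Agent.LieClassical.OrthCore Cfsg.Agent.LieClassical.OrthTrans Module
open Cfsg.Agent.LieClassical.OrthCount (hypSum hypSum_apply polar_hypSum)

section One

variable {F A : Type*} [Field F] [AddCommGroup A] [Module F A] {Q : QuadraticForm F A}
  {V : Type*} [AddCommGroup V] [Module ℂ V] {G : Subgroup ((A × F × F) ≃ₗ[F] (A × F × F))} (P : PRep G V)

/-- the action of the radical -/
def TT (Q : QuadraticForm F A) (v : A) : Module.End ℂ V := P.R (sE Q v)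

variable {P} in
theorem wd_TT (hQ : Nondeg Q) {ψ : AddChar F ℂ} (hψ : ∃ c, ψ c ≠ 1) (hE : E (hypSum Q) ≤ G) :
    WD Q ψ (TT P Q) := by
  refine ⟨hQ, hψ, ?_, ?_⟩
  · rw [TT, sE_zero, P.one]
  · intro a b
    rw [TT, sE_add, P.mul _ (hE (sE_mem Q a)) _ (hE (sE_mem Q b))]
    rfl

/-- transport of weights by `io a s` -/
theorem io_wt (hE : E (hypSum Q) ≤ G) {ψ : AddChar F ℂ} {a : Fˣ} {s : A ≃ₗ[F] A} (hs : s ∈ O Q)
    (hg : io a s ∈ G) {u : A} {x : V} (hx : x ∈ wt Q ψ (TT P Q) u) :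
    P.R (io a s) x ∈ wt Q ψ (TT P Q) ((a : F)⁻¹ • s u) := by
  intro v
  have ha : (a : F) ≠ 0 := a.ne_zero
  obtain ⟨v', hv'⟩ : ∃ v', v = (a : F) • s v' := by
    refine ⟨(a : F)⁻¹ • s.symm v, ?_⟩
    rw [map_smul, smul_smul, mul_inv_cancel₀ ha, one_smul, LinearEquiv.apply_symm_apply]
  rw [hv', TT, ← P.swap hg (hE (sE_mem Q v')) (hE (sE_mem Q _)) hg (io_sE hs a v')]
  have h1 : P.R (sE Q v') x = ψ (polar Q u v') • x := hx v'
  rw [h1, map_smul, polar_smul_left, polar_smul_right, polar_map hs, smul_eq_mul, smul_eq_mul,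
    inv_mul_cancel_left₀ ha]

variable [Fintype A]

theorem io_pr (hQ : Nondeg Q) {ψ : AddChar F ℂ} (hψ : ∃ c, ψ c ≠ 1) (hE : E (hypSum Q) ≤ G) {a : Fˣ}
    {s : A ≃ₗ[F] A} (hs : s ∈ O Q) (hg : io a s ∈ G) (u : A) (x : V) :
    P.R (io a s) (pr Q ψ (TT P Q) u x) = pr Q ψ (TT P Q) ((a : F)⁻¹ • s u) (P.R (io a s) x) := by
  classical
  have hW := wd_TT (P := P) hQ hψ hE
  have ha : (a : F) ≠ 0 := a.ne_zero
  conv_rhs => rw [← sum_pr hW x, map_sum, map_sum]
  have : ∀ u' : A, pr Q ψ (TT P Q) ((a : F)⁻¹ • s u) (P.R (io a s) (pr Q ψ (TT P Q) u' x)) =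
      if u' = u then P.R (io a s) (pr Q ψ (TT P Q) u x) else 0 := by
    intro u'
    by_cases h : u' = u
    · subst h
      rw [if_pos rfl, pr_of_mem (io_wt P hE hs hg (pr_mem hW u' x))]
    · rw [if_neg h]
      refine pr_of_mem_ne hW ?_ (io_wt P hE hs hg (pr_mem hW u' x))
      intro h1
      apply h
      have h2 : s u = s u' := by
        have := congrArg (fun z => (a : F) • z) h1
        simpa [smul_smul, mul_inv_cancel₀ ha] using this
      exact (s.injective h2).symm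
  rw [Fintype.sum_congr _ _ this, Finset.sum_ite_eq' Finset.univ u, if_pos (Finset.mem_univ _)]

end One

section Two

variable {F W : Type*} [Field F] [AddCommGroup W] [Module F W] {Q : QuadraticForm F W}
  {V : Type*} [AddCommGroup V] [Module ℂ V]
  {G : Subgroup (((W × F × F) × F × F) ≃ₗ[F] ((W × F × F) × F × F))} (P : PRep G V)

theorem hh_comm_nn (b : Fˣ) :
    io b (io b⁻¹ (1 : W ≃ₗ[F] W)) * nn W 1 = nn W 1 * io b⁻¹ (io b 1) := by
  rw [nn_io]

theorem nn_sq : nn W (1 : Fˣ) * nn W 1 = io (-1) (io (-1)⁻¹ 1) := by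
  apply LinearEquiv.ext
  rintro ⟨⟨w, x, y⟩, x', y'⟩
  rw [LinearEquiv.mul_apply, nn1_apply, nn1_apply, io_apply, io_apply]
  simp

/-- the sum over a root subgroup -/
noncomputable def Sop [Fintype F] (Q : QuadraticForm F W) (x : V) : V := ∑ t : F, P.R (xr Q t) x

theorem xr_add (t t' : F) : xr Q (t + t') = xr Q t * xr Q t' := by
  rw [xr, xr, xr, ← sE_add]
  congr 1
  ext <;> simp
  ring

theorem xr_zero : xr Q (0 : F) = 1 := by
  have : ((0, 0, -0) : W × F × F) = 0 := by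
    rw [neg_zero]
    rfl
  rw [xr, this, sE_zero]

variable [Fintype F]

theorem Sop_xr (hE : E (hypSum (hypSum Q)) ≤ G) (t : F) (x : V) :
    Sop P Q (P.R (xr Q t) x) = Sop P Q x := by
  unfold Sop
  have : ∀ t', P.R (xr Q t') (P.R (xr Q t) x) = P.R (xr Q (t' + t)) x := fun t' => by
    rw [xr_add, P.mul' (hE (xr_mem Q _)) (hE (xr_mem Q _))]
  rw [Fintype.sum_congr _ _ this]
  exact Fintype.sum_equiv (Equiv.addRight t) _ (fun t => P.R (xr Q t) x) fun t' => rfl

/-- the rank one argument -/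
theorem Sop_ne (hE : E (hypSum (hypSum Q)) ≤ G) {z : V} (hz : z ≠ 0) (hx : ∀ t, P.R (xr Q t) z = z)
    {χ : Fˣ → ℂ} (hh : ∀ b : Fˣ, P.R (io b (io b⁻¹ 1)) z = χ b • z) :
    Sop P Q (P.R (nn W 1) z) ≠ 0 := by
  classical
  intro h0
  have hn : nn W 1 ∈ G := hE (nn_mem Q 1)
  have hhG : ∀ b : Fˣ, io b (io b⁻¹ (1 : W ≃ₗ[F] W)) ∈ G := fun b => hE (hh_mem Q b)
  -- apply `n`
  have h1 : P.R (nn W 1) (Sop P Q (P.R (nn W 1) z)) = 0 := by rw [h0, map_zero]
  have h2 : ∀ t : F, t ≠ 0 → ∃ (b : F) (c : ℂ), P.R (nn W 1) (P.R (xr Q t) (P.R (nn W 1) z)) =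
      c • P.R (xr Q b) (P.R (nn W 1) z) := by
    intro t ht
    have hb : -(t⁻¹) ≠ 0 := neg_ne_zero.2 (inv_ne_zero ht)
    refine ⟨-(t⁻¹), χ (Units.mk0 (-(t⁻¹)) hb)⁻¹, ?_⟩
    have e1 := nn_xr_nn Q (Units.mk0 t ht) (Units.mk0 (-(t⁻¹)) hb) rfl
    rw [Units.val_mk0, Units.val_mk0] at e1
    have e2 : P.R (nn W 1 * xr Q t * nn W 1) z =
        P.R (xr Q (-(t⁻¹)) * io (Units.mk0 (-(t⁻¹)) hb) (io (Units.mk0 (-(t⁻¹)) hb)⁻¹ 1) * nn W 1 *
          xr Q (-(t⁻¹))) z := by rw [e1]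
    rw [P.mul' (G.mul_mem hn (hE (xr_mem Q _))) hn, P.mul' hn (hE (xr_mem Q _)),
      P.mul' (G.mul_mem (G.mul_mem (hE (xr_mem Q _)) (hhG _)) hn) (hE (xr_mem Q _)), hx,
      mul_assoc, hh_comm_nn, P.mul' (hE (xr_mem Q _)) (G.mul_mem hn ?_), P.mul' hn ?_] at e2
    · rw [e2]
      have e3 := hh (Units.mk0 (-(t⁻¹)) hb)⁻¹
      rw [inv_inv] at e3
      rw [e3, map_smul, map_smul]
    · have := hhG (Units.mk0 (-(t⁻¹)) hb)⁻¹
      rwa [inv_inv] at this
    · have := hhG (Units.mk0 (-(t⁻¹)) hb)⁻¹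
      rwa [inv_inv] at this
  -- apply `Sop`
  have h3 : Sop P Q (P.R (nn W 1) (Sop P Q (P.R (nn W 1) z))) = 0 := by
    rw [h1]
    simp [Sop]
  have hadd : ∀ x y, Sop P Q (x + y) = Sop P Q x + Sop P Q y := by
    intro x y
    simp [Sop, Finset.sum_add_distrib]
  have hsmul : ∀ (c : ℂ) x, Sop P Q (c • x) = c • Sop P Q x := by
    intro c x
    simp [Sop, Finset.smul_sum]
  have hzero : Sop P Q (0 : V) = 0 := by simp [Sop]
  have hsum : ∀ (s : Finset F) (f : F → V), Sop P Q (∑ t ∈ s, f t) = ∑ t ∈ s, Sop P Q (f t) := by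
    intro s f
    induction s using Finset.induction_on with
    | empty => rw [Finset.sum_empty, Finset.sum_empty, hzero]
    | insert a s ha ih => rw [Finset.sum_insert ha, Finset.sum_insert ha, hadd, ih]
  have h4 : P.R (nn W 1) (Sop P Q (P.R (nn W 1) z)) =
      ∑ t : F, P.R (nn W 1) (P.R (xr Q t) (P.R (nn W 1) z)) := by
    rw [Sop, map_sum]
  rw [h4, hsum, ← Finset.add_sum_erase _ _ (Finset.mem_univ (0 : F))] at h3
  have h5 : ∑ t ∈ Finset.univ.erase (0 : F), Sop P Q (P.R (nn W 1) (P.R (xr Q t) (P.R (nn W 1) z))) = 0 := by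
    refine Finset.sum_eq_zero fun t ht => ?_
    obtain ⟨b, c, e⟩ := h2 t (Finset.mem_erase.1 ht).1
    rw [e, hsmul, Sop_xr P hE, h0, smul_zero]
  rw [h5, add_zero, xr_zero, P.one', ← P.mul' hn hn, nn_sq, hh, hsmul] at h3
  have h6 : Sop P Q z = (Fintype.card F : ℂ) • z := by
    unfold Sop
    rw [Finset.sum_congr rfl fun t _ => hx t, Finset.sum_const, Finset.card_univ, Nat.cast_smul_eq_nsmul]
  rw [h6, smul_smul] at h3
  rcases smul_eq_zero.1 h3 with h7 | h7
  · rcases mul_eq_zero.1 h7 with h8 | h8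
    · have := hh (-1)
      rw [h8, zero_smul] at this
      exact P.ne_zero (hhG (-1)) hz this
    · exact (Nat.cast_ne_zero.2 Fintype.card_ne_zero) h8
  · exact hz h7

variable [Fintype W]

/-- `x ↦ pr₀ (n x)` -/
noncomputable def Th (Q : QuadraticForm F W) (ψ : AddChar F ℂ) (x : V) : V :=
  pr (hypSum Q) ψ (TT P (hypSum Q)) 0 (P.R (nn W 1) x)

variable {ψ : AddChar F ℂ}

theorem Th_io (hQ : Nondeg Q) (hψ : ∃ c, ψ c ≠ 1) (hE : E (hypSum (hypSum Q)) ≤ G) {a b : Fˣ}
    {s : W ≃ₗ[F] W} (hs : s ∈ O Q) (hg : io a (io b s) ∈ G) (hg' : io b (io a s) ∈ G) (x : V) :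
    P.R (io a (io b s)) (Th P Q ψ x) = Th P Q ψ (P.R (io b (io a s)) x) := by
  have hn : nn W 1 ∈ G := hE (nn_mem Q 1)
  unfold Th
  rw [io_pr P (nondeg_hypSum hQ) hψ hE (io_mem_O.2 hs) hg, map_zero, smul_zero,
    ← P.swap hn hg' hg hn (nn_io a b s)]

theorem Th_sE (hQ : Nondeg Q) (hψ : ∃ c, ψ c ≠ 1) (hE : E (hypSum (hypSum Q)) ≤ G) (w : W) (x : V) :
    P.R (io 1 (sE Q w)) (Th P Q ψ x) = Th P Q ψ (P.R (sE (hypSum Q) (-w, 0, 0)) x) := by
  have hn : nn W 1 ∈ G := hE (nn_mem Q 1)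
  unfold Th
  have e := nn_sE Q (-w)
  rw [neg_neg] at e
  rw [io_pr P (nondeg_hypSum hQ) hψ hE (E_le_O (sE_mem Q w)) (hE (io_mem_E (sE_mem Q w))), map_zero,
    smul_zero, ← P.swap hn (hE (sE_mem _ _)) (hE (io_mem_E (sE_mem Q w))) hn e]

theorem Th_mem (hQ : Nondeg Q) (hψ : ∃ c, ψ c ≠ 1) (hE : E (hypSum (hypSum Q)) ≤ G) (x : V) :
    Th P Q ψ x ∈ wt (hypSum Q) ψ (TT P (hypSum Q)) 0 :=
  pr_mem (wd_TT (nondeg_hypSum hQ) hψ hE) _ _

omit [Fintype F] [Fintype W] in
theorem mem_wt_zero {Q : QuadraticForm F W} {T : W → Module.End ℂ V} {x : V} :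
    x ∈ wt Q ψ T 0 ↔ ∀ v, T v x = x := by
  rw [mem_wt]
  simp

theorem Th_ne (hQ : Nondeg Q) (hψ : ∃ c, ψ c ≠ 1) (hE : E (hypSum (hypSum Q)) ≤ G) {z : V} (hz : z ≠ 0)
    (hz0 : z ∈ wt (hypSum Q) ψ (TT P (hypSum Q)) 0) (hz1 : ∀ w : W, P.R (io 1 (sE Q w)) z = z)
    {χ : Fˣ → ℂ} (hh : ∀ b : Fˣ, P.R (io b (io b⁻¹ 1)) z = χ b • z) : Th P Q ψ z ≠ 0 := by
  have hW := wd_TT (P := P) (nondeg_hypSum hQ) hψ hE
  have hn : nn W 1 ∈ G := hE (nn_mem Q 1)
  intro h0
  have hz0' : ∀ v, P.R (sE (hypSum Q) v) z = z := mem_wt_zero.1 hz0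
  apply Sop_ne P hE hz (fun t => hz0' _) hh
  set y := P.R (nn W 1) z with hy
  have e0 : ∀ t, P.R (xr Q t) y = TT P (hypSum Q) (0, 0, -t) y := fun t => rfl
  -- `Sop y` has weight zero
  have h1 : ∀ v, TT P (hypSum Q) v (Sop P Q y) = Sop P Q y := by
    rintro ⟨w, s, t⟩
    have e1 : ((w, s, t) : W × F × F) = (w, 0, 0) + ((0, s, 0) + (0, 0, t)) := by ext <;> simp
    have e2 : TT P (hypSum Q) (0, 0, t) (Sop P Q y) = Sop P Q y := by
      unfold Sop
      rw [map_sum]
      have : ∀ t', TT P (hypSum Q) (0, 0, t) (P.R (xr Q t') y) = P.R (xr Q (-t + t')) y := fun t' => by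
        have e5 : xr Q (-t) = sE (hypSum Q) (0, 0, t) := by rw [xr, neg_neg]
        rw [xr_add, P.mul' (hE (xr_mem Q _)) (hE (xr_mem Q _)), e5]
        rfl
      rw [Fintype.sum_congr _ _ this]
      exact Fintype.sum_equiv (Equiv.addLeft (-t)) _ (fun t => P.R (xr Q t) y) fun t' => rfl
    have e3 : TT P (hypSum Q) (0, s, 0) (Sop P Q y) = Sop P Q y := by
      unfold Sop
      rw [map_sum]
      refine Finset.sum_congr rfl fun t' _ => ?_
      rw [e0, T_comm hW]
      congr 1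
      show P.R (sE (hypSum Q) (0, s, 0)) y = y
      rw [hy, ← P.swap hn (hE (sE_mem _ _)) (hE (sE_mem _ _)) hn (nn_sE_e Q s), hz0']
    have e4 : TT P (hypSum Q) (w, 0, 0) (Sop P Q y) = Sop P Q y := by
      unfold Sop
      rw [map_sum]
      refine Finset.sum_congr rfl fun t' _ => ?_
      rw [e0, T_comm hW]
      congr 1
      show P.R (sE (hypSum Q) (w, 0, 0)) y = y
      rw [hy, ← P.swap hn (hE (io_mem_E (sE_mem _ _))) (hE (sE_mem _ _)) hn (nn_io_sE Q w), hz1]
    rw [e1, hW.add, hW.add, Module.End.mul_apply, Module.End.mul_apply, e2, e3, e4]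
  have h2 : pr (hypSum Q) ψ (TT P (hypSum Q)) 0 (Sop P Q y) = Sop P Q y :=
    pr_of_mem (mem_wt_zero.2 h1)
  rw [← h2]
  unfold Sop
  rw [map_sum]
  refine Finset.sum_eq_zero fun t _ => ?_
  rw [e0, pr_T hW]
  have : pr (hypSum Q) ψ (TT P (hypSum Q)) 0 y = 0 := h0
  rw [this, smul_zero]

end Two

end Cfsg.Agent.H117
end

-- part: H117/Tw
section
/-!
# The tower of odd-dimensional quadratic spaces
-/

set_option autoImplicit false

universe u

namespace Cfsg.Agent.H117

open QuadraticMap Cfsg.Agent.LieClassical.OrthCore Cfsg.Agent.LieClassical.OrthTrans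
open Cfsg.Agent.LieClassical.OrthCount (hypSum hypSum_apply polar_hypSum)

/-- `Q` is `x² + x₁ y₁ + ... + x_k y_k` in recursive form -/
inductive IsTw (F : Type u) [Field F] :
    ℕ → ∀ (V : Type u) [AddCommGroup V] [Module F V], QuadraticForm F V → Prop
  | base : IsTw F 0 F QuadraticMap.sq
  | step {k : ℕ} {V : Type u} [AddCommGroup V] [Module F V] {Q : QuadraticForm F V}
      (h : IsTw F k V Q) : IsTw F (k + 1) (V × F × F) (hypSum Q)

/-- what we need to know on a member of the tower -/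
structure TF {F V : Type*} [Field F] [AddCommGroup V] [Module F V] (k : ℕ) (Q : QuadraticForm F V) : Prop where
  nondeg : Nondeg Q
  ns : ∃ w0, Q w0 = 1
  dd : DD Q
  fd : FiniteDimensional F V
  rank : Module.finrank F V = 2 * k + 1
  card : Nat.card V = Nat.card F ^ (2 * k + 1)
  sing : Nat.card {v // Q v = 0} = Nat.card F ^ (2 * k)

theorem card_sing_hypSum {F V : Type*} [Field F] [AddCommGroup V] [Module F V] [Finite F] [Finite V]
    (Q : QuadraticForm F V) : Nat.card {u : V × F × F // hypSum Q u = 0} =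
      (Nat.card F - 1) * Nat.card V + Nat.card F * Nat.card {v // Q v = 0} := by
  classical
  have := Fintype.ofFinite F
  have e1 : {u : V × F × F // hypSum Q u = 0} ≃ Σ y : F, {p : V × F // Q p.1 + p.2 * y = 0} :=
    { toFun := fun u => ⟨u.1.2.2, ⟨(u.1.1, u.1.2.1), u.2⟩⟩
      invFun := fun p => ⟨(p.2.1.1, p.2.1.2, p.1), p.2.2⟩
      left_inv := fun u => rfl
      right_inv := fun p => rfl }
  rw [Nat.card_congr e1, Nat.card_sigma, ← Finset.sum_erase_add _ _ (Finset.mem_univ (0 : F))]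
  have h0 : Nat.card {p : V × F // Q p.1 + p.2 * 0 = 0} = Nat.card F * Nat.card {v // Q v = 0} := by
    have e2 : {p : V × F // Q p.1 + p.2 * 0 = 0} ≃ F × {v // Q v = 0} :=
      { toFun := fun p => (p.1.2, ⟨p.1.1, by simpa using p.2⟩)
        invFun := fun p => ⟨(p.2.1, p.1), by simpa using p.2.2⟩
        left_inv := fun u => rfl
        right_inv := fun p => rfl }
    rw [Nat.card_congr e2, Nat.card_prod]
  have h1 : ∀ y ∈ Finset.univ.erase (0 : F),
      Nat.card {p : V × F // Q p.1 + p.2 * y = 0} = Nat.card V := by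
    intro y hy
    have hy0 : y ≠ 0 := (Finset.mem_erase.1 hy).1
    refine Nat.card_congr
      { toFun := fun p => p.1.1
        invFun := fun w => ⟨(w, -Q w / y), by simp only; field_simp; ring⟩
        left_inv := ?_
        right_inv := fun w => rfl }
    rintro ⟨⟨w, x⟩, h⟩
    apply Subtype.ext
    simp only at h ⊢
    have : x = -Q w / y := by
      field_simp
      linear_combination h
    rw [← this]
  rw [h0, Finset.sum_congr rfl h1, Finset.sum_const, Finset.card_erase_of_mem (Finset.mem_univ _),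
    Finset.card_univ, smul_eq_mul, ← Nat.card_eq_fintype_card (α := F)]

theorem TF.finite {F V : Type*} [Field F] [AddCommGroup V] [Module F V] [Finite F] {k : ℕ}
    {Q : QuadraticForm F V} (h : TF k Q) : Finite V := by
  have := h.fd
  exact Module.finite_of_finite F

theorem TF.step {F V : Type*} [Field F] [AddCommGroup V] [Module F V] [Finite F] (h2 : (2 : F) ≠ 0)
    {k : ℕ} {Q : QuadraticForm F V} (h : TF k Q) : TF (k + 1) (hypSum Q) := by
  have hfd := h.fd
  have hfin := h.finite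
  obtain ⟨w0, hw0⟩ := h.ns
  have hne : Q w0 ≠ 0 := by rw [hw0]; exact one_ne_zero
  have hF : 1 ≤ Nat.card F := Nat.card_pos
  refine ⟨nondeg_hypSum h.nondeg, ⟨(w0, 0, 0), by rw [hypSum_apply]; simp [hw0]⟩,
    DD_step h2 h.nondeg hne h.dd, inferInstance, ?_, ?_, ?_⟩
  · rw [Module.finrank_prod, Module.finrank_prod, Module.finrank_self, h.rank]
    ring
  · rw [Nat.card_prod, Nat.card_prod, h.card]
    ring
  · rw [card_sing_hypSum, h.card, h.sing]
    obtain ⟨m, hm⟩ : ∃ m, Nat.card F = m + 1 := ⟨Nat.card F - 1, by omega⟩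
    rw [hm, Nat.add_sub_cancel]
    ring

theorem TF.base {F : Type*} [Field F] (h2 : (2 : F) ≠ 0) :
    TF 0 (QuadraticMap.sq (R := F)) := by
  refine ⟨?_, ⟨1, by simp⟩, DD_sq, inferInstance, by simp, by simp, ?_⟩
  · intro x h
    have := h 1
    have h3 : polar (QuadraticMap.sq (R := F)) x 1 = 2 * x := by
      simp only [polar, QuadraticMap.sq_apply]
      ring
    rw [h3] at this
    exact (mul_eq_zero.1 this).resolve_left h2
  · rw [mul_zero, pow_zero, Nat.card_eq_one_iff_unique]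
    refine ⟨⟨?_⟩, ⟨⟨0, by simp⟩⟩⟩
    rintro ⟨x, hx⟩ ⟨y, hy⟩
    apply Subtype.ext
    have h3 : x = 0 := by simpa using hx
    have h4 : y = 0 := by simpa using hy
    exact h3.trans h4.symm

theorem IsTw.tf {F : Type u} [Field F] [Finite F] (h2 : (2 : F) ≠ 0) {k : ℕ} {V : Type u}
    [AddCommGroup V] [Module F V] {Q : QuadraticForm F V} (h : IsTw F k V Q) : TF k Q := by
  induction h with
  | base => exact TF.base h2
  | step h ih => exact ih.step h2

/-- appending a pair of coordinates -/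
noncomputable def snocEquiv (F : Type u) [Field F] (k : ℕ) :
    ((Unit ⊕ (Fin k ⊕ Fin k) → F) × F × F) ≃ₗ[F] (Unit ⊕ (Fin (k + 1) ⊕ Fin (k + 1)) → F) :=
  LinearEquiv.ofLinearMap
    { toFun := fun v => Sum.elim (fun _ => v.1 (Sum.inl ()))
        (Sum.elim (Fin.cons v.2.1 fun i => v.1 (Sum.inr (Sum.inl i)))
          (Fin.cons v.2.2 fun i => v.1 (Sum.inr (Sum.inr i))))
      map_add' := by
        intro v w
        funext i
        rcases i with i | i | i
        · rfl
        · refine Fin.cases ?_ (fun j => ?_) i <;> rfl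
        · refine Fin.cases ?_ (fun j => ?_) i <;> rfl
      map_smul' := by
        intro c v
        funext i
        rcases i with i | i | i
        · rfl
        · refine Fin.cases ?_ (fun j => ?_) i <;> rfl
        · refine Fin.cases ?_ (fun j => ?_) i <;> rfl }
    { toFun := fun w => (Sum.elim (fun _ => w (Sum.inl ()))
        (Sum.elim (fun i => w (Sum.inr (Sum.inl i.succ))) (fun i => w (Sum.inr (Sum.inr i.succ)))),
          w (Sum.inr (Sum.inl 0)), w (Sum.inr (Sum.inr 0)))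
      map_add' := by
        intro v w
        refine Prod.ext ?_ rfl
        funext i
        rcases i with i | i | i <;> rfl
      map_smul' := by
        intro c w
        refine Prod.ext ?_ rfl
        funext i
        rcases i with i | i | i <;> rfl }
    (by
      apply LinearMap.ext
      intro w
      funext i
      rcases i with i | i | i
      · rfl
      · refine Fin.cases ?_ (fun j => ?_) i <;> rfl
      · refine Fin.cases ?_ (fun j => ?_) i <;> rfl)
    (by
      apply LinearMap.ext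
      rintro ⟨v, x, y⟩
      refine Prod.ext ?_ rfl
      funext i
      rcases i with i | i | i <;> rfl)

theorem quadFormOdd_snoc {F : Type u} [Field F] (k : ℕ) (v : (Unit ⊕ (Fin k ⊕ Fin k) → F)) (x y : F) :
    Cfsg.quadFormOdd (k + 1) F (snocEquiv F k (v, x, y)) = Cfsg.quadFormOdd k F v + x * y := by
  unfold Cfsg.quadFormOdd
  rw [Fin.sum_univ_succ]
  have h1 : snocEquiv F k (v, x, y) (Sum.inl ()) = v (Sum.inl ()) := rfl
  have h2 : snocEquiv F k (v, x, y) (Sum.inr (Sum.inl 0)) = x := rfl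
  have h3 : snocEquiv F k (v, x, y) (Sum.inr (Sum.inr 0)) = y := rfl
  have h4 : ∀ i, snocEquiv F k (v, x, y) (Sum.inr (Sum.inl (Fin.succ i))) = v (Sum.inr (Sum.inl i)) := fun i => rfl
  have h5 : ∀ i, snocEquiv F k (v, x, y) (Sum.inr (Sum.inr (Fin.succ i))) = v (Sum.inr (Sum.inr i)) := fun i => rfl
  rw [h1, h2, h3]
  simp only [h4, h5]
  ring

/-- the tower contains the standard odd form -/
theorem exists_isTw (F : Type u) [Field F] (k : ℕ) :
    ∃ (V : Type u) (_ : AddCommGroup V) (_ : Module F V) (Q : QuadraticForm F V)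
      (e : V ≃ₗ[F] (Unit ⊕ (Fin k ⊕ Fin k) → F)), IsTw F k V Q ∧
        ∀ v, Cfsg.quadFormOdd k F (e v) = Q v := by
  induction k with
  | zero =>
    let _ : Unique (Unit ⊕ (Fin 0 ⊕ Fin 0)) :=
      { default := Sum.inl ()
        uniq := by
          rintro (i | i | i)
          · rfl
          · exact i.elim0
          · exact i.elim0 }
    refine ⟨F, inferInstance, inferInstance, QuadraticMap.sq,
      (LinearEquiv.funUnique (Unit ⊕ (Fin 0 ⊕ Fin 0)) F F).symm, IsTw.base, ?_⟩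
    intro v
    have h1 : ∀ i, (LinearEquiv.funUnique (Unit ⊕ (Fin 0 ⊕ Fin 0)) F F).symm v i = v := fun i => rfl
    unfold Cfsg.quadFormOdd
    rw [h1]
    simp [pow_two]
  | succ k ih =>
    obtain ⟨V, _, _, Q, e, h, he⟩ := ih
    refine ⟨V × F × F, inferInstance, inferInstance, hypSum Q,
      (LinearEquiv.prodCongr e (LinearEquiv.refl F (F × F))).trans (snocEquiv F k), h.step, ?_⟩
    rintro ⟨v, x, y⟩
    have h1 : ((LinearEquiv.prodCongr e (LinearEquiv.refl F (F × F))).trans (snocEquiv F k)) (v, x, y) =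
      snocEquiv F k (e v, x, y) := rfl
    rw [h1, quadFormOdd_snoc, he, hypSum_apply]

end Cfsg.Agent.H117
end

-- part: H117/Sys
section
/-!
# Equivariant systems of weight vectors
-/

set_option autoImplicit false

universe u v

namespace Cfsg.Agent.H117

open QuadraticMap Cfsg.Agent.LieClassical.OrthCore Cfsg.Agent.LieClassical.OrthTrans Module
open Cfsg.Agent.LieClassical.OrthCount (hypSum hypSum_apply polar_hypSum)

section

variable {F W : Type*} [Field F] [AddCommGroup W] [Module F W] {Q : QuadraticForm F W}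
  {V : Type*} [AddCommGroup V] [Module ℂ V]

/-- an equivariant choice of weight vectors for the singular weights, all other weights being absent -/
structure Sys (P : PRep (E (hypSum (hypSum Q))) V) (ψ : AddChar F ℂ) (b : W × F × F → V) (lam : Fˣ → ℂ) :
    Prop where
  mem : ∀ v, v ≠ 0 → hypSum Q v = 0 → b v ∈ wt (hypSum Q) ψ (TT P (hypSum Q)) v
  ne : ∀ v, v ≠ 0 → hypSum Q v = 0 → b v ≠ 0
  act : ∀ (a : Fˣ) (s : (W × F × F) ≃ₗ[F] (W × F × F)), s ∈ SO (hypSum Q) →
    io a s ∈ E (hypSum (hypSum Q)) → ∀ v, v ≠ 0 → hypSum Q v = 0 →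
    P.R (io a s) (b v) = lam a • b ((a : F)⁻¹ • s v)
  span : ∀ v, v ≠ 0 → hypSum Q v = 0 → ∀ x ∈ wt (hypSum Q) ψ (TT P (hypSum Q)) v, ∃ c : ℂ, x = c • b v
  none : ∀ v, hypSum Q v ≠ 0 → wt (hypSum Q) ψ (TT P (hypSum Q)) v = ⊥

/-- conjugation by the swap of the inner plane -/
noncomputable def kconj (P : PRep (E (hypSum (hypSum Q))) V) : PRep (E (hypSum (hypSum Q))) V where
  R g := P.R (io 1 (kap F W) * g * io 1 (kap F W))
  one := by
    rw [mul_one, io_mul, kap_mul_kap, mul_one, io_one, P.one]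
  mul g hg h hh := by
    have hk : ∀ g ∈ E (hypSum (hypSum Q)), io 1 (kap F W) * g * io 1 (kap F W) ∈ E (hypSum (hypSum Q)) := by
      intro g hg
      have := conj_mem_E (Q := hypSum (hypSum Q)) (g := io 1 (kap F W)) (io_mem_O.2 (kap_mem_O Q)) hg
      rwa [io_inv, inv_one, kap_inv] at this
    have h1 : io 1 (kap F W) * (g * h) * io 1 (kap F W) =
        (io 1 (kap F W) * g * io 1 (kap F W)) * (io 1 (kap F W) * h * io 1 (kap F W)) := by
      have h2 : io 1 (kap F W) * io 1 (kap F W) = 1 := by rw [io_mul, kap_mul_kap, mul_one, io_one]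
      calc io 1 (kap F W) * (g * h) * io 1 (kap F W)
          = io 1 (kap F W) * g * 1 * h * io 1 (kap F W) := by group
        _ = _ := by rw [← h2]; group
    rw [h1, P.mul _ (hk g hg) _ (hk h hh)]

theorem kconj_apply (P : PRep (E (hypSum (hypSum Q))) V) (g : ((W × F × F) × F × F) ≃ₗ[F] ((W × F × F) × F × F)) :
    (kconj P).R g = P.R (io 1 (kap F W) * g * io 1 (kap F W)) := rfl

theorem kk : io 1 (kap F W) * io 1 (kap F W) = 1 := by rw [io_mul, kap_mul_kap, mul_one, io_one]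

theorem kap_kap (v : W × F × F) : kap F W (kap F W v) = v := rfl

theorem TT_kconj (P : PRep (E (hypSum (hypSum Q))) V) (v : W × F × F) :
    TT (kconj P) (hypSum Q) v = TT P (hypSum Q) (kap F W v) := by
  have h := io_sE (kap_mem_O Q) 1 v
  rw [TT, TT, kconj_apply, h, mul_assoc, kk, mul_one, Units.val_one, one_smul]

theorem wt_kconj (P : PRep (E (hypSum (hypSum Q))) V) (ψ : AddChar F ℂ) (v : W × F × F) :
    wt (hypSum Q) ψ (TT (kconj P) (hypSum Q)) v = wt (hypSum Q) ψ (TT P (hypSum Q)) (kap F W v) := by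
  ext x
  rw [mem_wt, mem_wt]
  constructor
  · intro h a
    have := h (kap F W a)
    rw [TT_kconj, kap_kap] at this
    rw [this, ← polar_map (kap_mem_O Q) v (kap F W a), kap_kap]
  · intro h a
    have := h (kap F W a)
    rw [TT_kconj, this, polar_map (kap_mem_O Q)]

theorem kap_ne {v : W × F × F} (h : v ≠ 0) : kap F W v ≠ 0 := by
  intro h1
  apply h
  rw [← kap_kap v, h1, map_zero]

theorem Sys.kconj {P : PRep (E (hypSum (hypSum Q))) V} {ψ : AddChar F ℂ} {b : W × F × F → V}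
    {lam : Fˣ → ℂ} [FiniteDimensional F W] (h : Sys P ψ b lam) :
    Sys (kconj P) ψ (fun v => b (kap F W v)) lam := by
  have hO : ∀ v, hypSum Q (kap F W v) = hypSum Q v := mem_O.1 (kap_mem_O Q)
  refine ⟨?_, ?_, ?_, ?_, ?_⟩
  · intro v h0 h1
    rw [wt_kconj]
    exact h.mem _ (kap_ne h0) (by rw [hO, h1])
  · intro v h0 h1
    exact h.ne _ (kap_ne h0) (by rw [hO, h1])
  · intro a s hs hg v h0 h1
    have e1 : io 1 (kap F W) * io a s * io 1 (kap F W) = io a (kap F W * s * kap F W) := by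
      rw [io_mul, io_mul, one_mul, mul_one]
    have e2 : kap F W * s * kap F W = kap F W * s * (kap F W)⁻¹ := by rw [kap_inv]
    have hs' : kap F W * s * kap F W ∈ SO (hypSum Q) := by
      rw [e2, mem_SO]
      refine ⟨(O _).mul_mem ((O _).mul_mem (kap_mem_O Q) (SO_le_O hs)) ((O _).inv_mem (kap_mem_O Q)), ?_⟩
      rw [map_mul, map_mul, (mem_SO.1 hs).2, mul_one, ← map_mul, mul_inv_cancel, map_one]
    have hg' : io a (kap F W * s * kap F W) ∈ E (hypSum (hypSum Q)) := by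
      have := conj_mem_E (Q := hypSum (hypSum Q)) (g := io 1 (kap F W)) (io_mem_O.2 (kap_mem_O Q)) hg
      rw [io_inv, inv_one, kap_inv, e1] at this
      exact this
    rw [kconj_apply, e1, h.act a _ hs' hg' _ (kap_ne h0) (by rw [hO, h1])]
    simp only [LinearEquiv.mul_apply, kap_kap, map_smul]
  · intro v h0 h1 x hx
    rw [wt_kconj] at hx
    exact h.span _ (kap_ne h0) (by rw [hO, h1]) x hx
  · intro v h0
    rw [wt_kconj]
    exact h.none _ (by rw [hO]; exact h0)

/-! ### properties of a system -/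

theorem nS_io (a c : Fˣ) (s : W ≃ₗ[F] W) :
    nS F W * io c (io a s) = io a⁻¹ (io c⁻¹ s) * nS F W := by
  apply LinearEquiv.ext
  rintro ⟨⟨w, x, y⟩, x', y'⟩
  rw [LinearEquiv.mul_apply, LinearEquiv.mul_apply, io_apply, io_apply, nS_apply, nS_apply,
    io_apply, io_apply]
  ext <;> simp

theorem sing_e {c : F} : hypSum Q ((0, c, 0) : W × F × F) = 0 := by
  rw [hypSum_apply]; simp

theorem sing_f {c : F} : hypSum Q ((0, 0, c) : W × F × F) = 0 := by
  rw [hypSum_apply]; simp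

theorem ne_e {c : F} (hc : c ≠ 0) : ((0, c, 0) : W × F × F) ≠ 0 := by
  intro h
  exact hc (congrArg (fun z : W × F × F => z.2.1) h)

theorem ne_f {c : F} (hc : c ≠ 0) : ((0, 0, c) : W × F × F) ≠ 0 := by
  intro h
  exact hc (congrArg (fun z : W × F × F => z.2.2) h)

theorem Sys.act_one {P : PRep (E (hypSum (hypSum Q))) V} {ψ : AddChar F ℂ} {b : W × F × F → V}
    {lam : Fˣ → ℂ} [FiniteDimensional F W] (h : Sys P ψ b lam) : lam 1 = 1 := by
  have h1 := h.act 1 1 (SO _).one_mem (by rw [io_one]; exact (E _).one_mem) (0, 1, 0)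
    (ne_e one_ne_zero) sing_e
  rw [io_one, P.one'] at h1
  have h2 : (((1 : Fˣ) : F)⁻¹ • (1 : (W × F × F) ≃ₗ[F] (W × F × F)) ((0, 1, 0) : W × F × F)) = (0, 1, 0) := by
    simp
  rw [h2] at h1
  have h3 : (lam 1 - 1) • b (0, 1, 0) = 0 := by rw [sub_smul, ← h1, one_smul, sub_self]
  rcases smul_eq_zero.1 h3 with h4 | h4
  · exact sub_eq_zero.1 h4
  · exact absurd h4 (h.ne _ (ne_e one_ne_zero) sing_e)

theorem Sys.act_E {P : PRep (E (hypSum (hypSum Q))) V} {ψ : AddChar F ℂ} {b : W × F × F → V}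
    {lam : Fˣ → ℂ} [Finite F] [FiniteDimensional F W] (h : Sys P ψ b lam)
    {s : (W × F × F) ≃ₗ[F] (W × F × F)} (hs : s ∈ E (hypSum Q)) {v : W × F × F} (h0 : v ≠ 0)
    (h1 : hypSum Q v = 0) : P.R (io 1 s) (b v) = b (s v) := by
  rw [h.act 1 s (E_le_SO hs) (io_mem_E hs) v h0 h1, h.act_one]
  simp

end

end Cfsg.Agent.H117
end
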